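/-
Diagonal symmetric forms, their adjoints and dyads, and tensor powers of them.
-/
import Cfsg.Agent.Geo.TensorPow.Sp.Basic
import Cfsg.Agent.Geo.TensorPow.Classify

set_option autoImplicit false
set_option linter.unusedSectionVars false

namespace CfsgLib.Geo.TensorPow.O

open Matrix CfsgLib.Aschbacher
open scoped MatrixGroups

variable {F : Type*} [Field F]
variable {ι : Type} [Fintype ι] [DecidableEq ι]

/-- The diagonal form. -/
def fd (e x y : ι → F) : F := ∑ i, e i * x i * y i

/-- The dyad of two vectors. -/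
def vd (e u w : ι → F) : Matrix ι ι F := vecMulVec u fun i => e i * w i

/-- The adjoint. -/
def sa (e : ι → F) (X : Matrix ι ι F) : Matrix ι ι F := Matrix.of fun a b => (e a)⁻¹ * X b a * e b

/-- The skew dyad. -/
def wg (e x y : ι → F) : Matrix ι ι F := vd e x y - vd e y x

/-- The isometries. -/
def isoG (e : ι → F) : Subgroup (GL ι F) where
  carrier := {g | ∀ x y, fd e ((g : Matrix ι ι F) *ᵥ x) ((g : Matrix ι ι F) *ᵥ y) = fd e x y}
  one_mem' x y := by simp
  mul_mem' {g h} hg hh x y := by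
    rw [Units.val_mul, ← Matrix.mulVec_mulVec, ← Matrix.mulVec_mulVec, hg, hh]
  inv_mem' {g} hg x y := by
    have := hg (((g⁻¹ : GL ι F) : Matrix ι ι F) *ᵥ x) (((g⁻¹ : GL ι F) : Matrix ι ι F) *ᵥ y)
    simpa [Matrix.mulVec_mulVec] using this.symm

variable (e : ι → F)

lemma fd_symm (x y : ι → F) : fd e y x = fd e x y := Finset.sum_congr rfl fun i _ => mul_right_comm _ _ _

lemma fd_add_left (x x' y : ι → F) : fd e (x + x') y = fd e x y + fd e x' y := by
  simp [fd, mul_add, add_mul, Finset.sum_add_distrib]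

lemma fd_add_right (x y y' : ι → F) : fd e x (y + y') = fd e x y + fd e x y' := by
  simp [fd, mul_add, Finset.sum_add_distrib]

lemma fd_smul_left (c : F) (x y : ι → F) : fd e (c • x) y = c * fd e x y := by
  simp [fd, Finset.mul_sum, mul_assoc, mul_left_comm]

lemma fd_smul_right (c : F) (x y : ι → F) : fd e x (c • y) = c * fd e x y := by
  rw [fd_symm, fd_smul_left, fd_symm]

lemma fd_zero_left (y : ι → F) : fd e 0 y = 0 := by simp [fd]

lemma fd_zero_right (x : ι → F) : fd e x 0 = 0 := by simp [fd]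

lemma fd_neg_left (x y : ι → F) : fd e (-x) y = -fd e x y := by simp [fd]

lemma fd_neg_right (x y : ι → F) : fd e x (-y) = -fd e x y := by simp [fd]

lemma fd_sub_left (x x' y : ι → F) : fd e (x - x') y = fd e x y - fd e x' y := by
  rw [sub_eq_add_neg, fd_add_left, fd_neg_left, sub_eq_add_neg]

lemma fd_sub_right (x y y' : ι → F) : fd e x (y - y') = fd e x y - fd e x y' := by
  rw [sub_eq_add_neg, fd_add_right, fd_neg_right, sub_eq_add_neg]

lemma fd_single_right (x : ι → F) (a : ι) : fd e x (Pi.single a 1) = e a * x a := by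
  rw [fd, Finset.sum_eq_single a]
  · simp
  · intro b _ hb; simp [Pi.single_eq_of_ne hb]
  · simp

lemma fd_eq_dot (x y : ι → F) : fd e x y = (fun i => e i * x i) ⬝ᵥ y := rfl

variable {e}

lemma eq_zero_of_fd (he : ∀ i, e i ≠ 0) {x : ι → F} (h : ∀ y, fd e x y = 0) : x = 0 := funext fun i => by
  have := h (Pi.single i 1)
  rw [fd_single_right] at this
  exact (mul_eq_zero.1 this).resolve_left (he i)

variable (e)

lemma vd_apply (u w : ι → F) (a b : ι) : vd e u w a b = u a * (e b * w b) := rfl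

lemma vd_mulVec (u w x : ι → F) : vd e u w *ᵥ x = fd e w x • u := by
  rw [vd, Matrix.vecMulVec_mulVec, op_smul_eq_smul]; rfl

lemma vd_mul_vd (a b c d : ι → F) : vd e a b * vd e c d = fd e b c • vd e a d := by
  simp only [vd, Matrix.vecMulVec_mul_vecMulVec, Matrix.vecMulVec_smul]; rfl

lemma mul_vd (X : Matrix ι ι F) (u w : ι → F) : X * vd e u w = vd e (X *ᵥ u) w := Matrix.mul_vecMulVec ..

lemma vd_add_left (u u' w : ι → F) : vd e (u + u') w = vd e u w + vd e u' w :=
  Matrix.ext fun a b => by simp [vd_apply, add_mul]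

lemma vd_add_right (u w w' : ι → F) : vd e u (w + w') = vd e u w + vd e u w' :=
  Matrix.ext fun a b => by simp [vd_apply, mul_add]

lemma vd_smul_left (c : F) (u w : ι → F) : vd e (c • u) w = c • vd e u w :=
  Matrix.ext fun a b => by simp [vd_apply, mul_assoc]

lemma vd_smul_right (c : F) (u w : ι → F) : vd e u (c • w) = c • vd e u w :=
  Matrix.ext fun a b => by simp [vd_apply]; ring

lemma vd_zero_left (w : ι → F) : vd e 0 w = 0 := Matrix.ext fun a b => by simp [vd_apply]

lemma vd_zero_right (u : ι → F) : vd e u 0 = 0 := Matrix.ext fun a b => by simp [vd_apply]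

lemma vd_neg_left (u w : ι → F) : vd e (-u) w = -vd e u w := Matrix.ext fun a b => by simp [vd_apply]

lemma vd_neg_right (u w : ι → F) : vd e u (-w) = -vd e u w := Matrix.ext fun a b => by simp [vd_apply]

lemma vd_sub_left (u u' w : ι → F) : vd e (u - u') w = vd e u w - vd e u' w := by
  rw [sub_eq_add_neg, vd_add_left, vd_neg_left, sub_eq_add_neg]

lemma vd_sub_right (u w w' : ι → F) : vd e u (w - w') = vd e u w - vd e u w' := by
  rw [sub_eq_add_neg, vd_add_right, vd_neg_right, sub_eq_add_neg]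

lemma wg_mulVec (x y z : ι → F) : wg e x y *ᵥ z = fd e y z • x - fd e x z • y := by
  rw [wg, Matrix.sub_mulVec, vd_mulVec, vd_mulVec]

lemma wg_add_left (x x' y : ι → F) : wg e (x + x') y = wg e x y + wg e x' y := by
  simp only [wg, vd_add_left, vd_add_right]; abel

lemma wg_smul_left (c : F) (x y : ι → F) : wg e (c • x) y = c • wg e x y := by
  simp only [wg, vd_smul_left, vd_smul_right, smul_sub]

lemma wg_swap (x y : ι → F) : wg e y x = -wg e x y := by rw [wg, wg, neg_sub]

lemma wg_self (x : ι → F) : wg e x x = 0 := sub_self _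

lemma wg_zero_left (y : ι → F) : wg e 0 y = 0 := by simp [wg, vd_zero_left, vd_zero_right]

variable {e}

lemma vd_ne_zero (he : ∀ i, e i ≠ 0) {u w : ι → F} (hu : u ≠ 0) (hw : w ≠ 0) : vd e u w ≠ 0 := fun h => by
  obtain ⟨a, ha⟩ := Function.ne_iff.1 hu
  obtain ⟨b, hb⟩ := Function.ne_iff.1 hw
  exact mul_ne_zero ha (mul_ne_zero (he b) hb) (congrFun (congrFun h a) b)

lemma sa_apply (X : Matrix ι ι F) (a b : ι) : sa e X a b = (e a)⁻¹ * X b a * e b := rfl

lemma sa_add (X Y : Matrix ι ι F) : sa e (X + Y) = sa e X + sa e Y :=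
  Matrix.ext fun a b => by simp [sa_apply, mul_add, add_mul]

lemma sa_smul (c : F) (X : Matrix ι ι F) : sa e (c • X) = c • sa e X :=
  Matrix.ext fun a b => by simp [sa_apply]; ring

lemma sa_neg (X : Matrix ι ι F) : sa e (-X) = -sa e X := Matrix.ext fun a b => by simp [sa_apply]

lemma sa_sub (X Y : Matrix ι ι F) : sa e (X - Y) = sa e X - sa e Y := by
  rw [sub_eq_add_neg, sa_add, sa_neg, sub_eq_add_neg]

lemma sa_zero : sa e (0 : Matrix ι ι F) = 0 := Matrix.ext fun a b => by simp [sa_apply]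

variable (he : ∀ i, e i ≠ 0)
include he

lemma sa_sa (X : Matrix ι ι F) : sa e (sa e X) = X := Matrix.ext fun a b => by
  have := he a; have := he b
  simp [sa_apply]; field_simp

lemma sa_one : sa e (1 : Matrix ι ι F) = 1 := Matrix.ext fun a b => by
  rcases eq_or_ne a b with rfl | h
  · simp [sa_apply, he a]
  · simp [sa_apply, Matrix.one_apply, h, h.symm]

lemma sa_mul (X Y : Matrix ι ι F) : sa e (X * Y) = sa e Y * sa e X := Matrix.ext fun a b => by
  simp only [sa_apply, Matrix.mul_apply, Finset.mul_sum, Finset.sum_mul]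
  refine Finset.sum_congr rfl fun c _ => ?_
  have := he c
  field_simp

lemma fd_mulVec (X : Matrix ι ι F) (x y : ι → F) : fd e (X *ᵥ x) y = fd e x (sa e X *ᵥ y) := by
  simp only [fd, Matrix.mulVec, dotProduct, Finset.mul_sum, Finset.sum_mul, sa_apply]
  rw [Finset.sum_comm]
  refine Finset.sum_congr rfl fun i _ => Finset.sum_congr rfl fun j _ => ?_
  have := he i
  field_simp

lemma sa_vd (u w : ι → F) : sa e (vd e u w) = vd e w u := Matrix.ext fun a b => by
  have := he a
  simp only [sa_apply, vd_apply]; field_simp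

lemma sa_wg (x y : ι → F) : sa e (wg e x y) = -wg e x y := by
  rw [wg, sa_sub, sa_vd he, sa_vd he, neg_sub]

lemma vd_mul (u w : ι → F) (X : Matrix ι ι F) : vd e u w * X = vd e u (sa e X *ᵥ w) := by
  conv_lhs => rw [← sa_sa he (vd e u w * X), sa_mul he, sa_vd he, mul_vd, sa_vd he]

lemma ext_fd {X Y : Matrix ι ι F} (h : ∀ a b, fd e a (X *ᵥ b) = fd e a (Y *ᵥ b)) : X = Y := by
  refine Matrix.ext_iff_mulVec.2 fun b => sub_eq_zero.1 (eq_zero_of_fd he fun a => ?_)
  rw [fd_sub_left, fd_symm e a, fd_symm e a, h, sub_self]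

lemma mem_isoG {g : GL ι F} : g ∈ isoG e ↔ sa e (g : Matrix ι ι F) * (g : Matrix ι ι F) = 1 := by
  constructor
  · intro h
    refine ext_fd he fun a b => ?_
    rw [Matrix.one_mulVec, ← Matrix.mulVec_mulVec, ← fd_mulVec he]
    exact h a b
  · intro h x y
    rw [fd_mulVec he, Matrix.mulVec_mulVec, h, Matrix.one_mulVec]

lemma inv_eq_sa {g : GL ι F} (hg : g ∈ isoG e) :
    ((g⁻¹ : GL ι F) : Matrix ι ι F) = sa e (g : Matrix ι ι F) :=
  Units.inv_eq_of_mul_eq_one_left ((mem_isoG he).1 hg)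

lemma conj_vd {g : GL ι F} (hg : g ∈ isoG e) (x y : ι → F) :
    (g : Matrix ι ι F) * vd e x y * ((g⁻¹ : GL ι F) : Matrix ι ι F) =
      vd e ((g : Matrix ι ι F) *ᵥ x) ((g : Matrix ι ι F) *ᵥ y) := by
  rw [mul_vd, vd_mul he, inv_eq_sa he hg, sa_sa he]

lemma conj_wg {g : GL ι F} (hg : g ∈ isoG e) (x y : ι → F) :
    (g : Matrix ι ι F) * wg e x y * ((g⁻¹ : GL ι F) : Matrix ι ι F) =
      wg e ((g : Matrix ι ι F) *ᵥ x) ((g : Matrix ι ι F) *ᵥ y) := by
  rw [wg, mul_sub, sub_mul, conj_vd he hg, conj_vd he hg]; rfl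

end CfsgLib.Geo.TensorPow.O
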