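/-
Tensor powers of diagonal forms and the matrices of one factor at given entries of the others.
-/
import Cfsg.Agent.Geo.TensorPow.O.Form

set_option autoImplicit false
set_option linter.unusedSectionVars false

namespace CfsgLib.Geo.TensorPow.O

open Matrix CfsgLib.Aschbacher
open scoped MatrixGroups

variable {F : Type*} [Field F] {t k : ℕ}

/-- The coefficients of the tensor power of a diagonal form. -/
def dt (d : Fin k → F) (t : ℕ) : (Fin t → Fin k) → F := fun x => ∏ l, d (x l)

variable {d : Fin k → F}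

lemma dt_ne (hd : ∀ p, d p ≠ 0) (x : Fin t → Fin k) : dt d t x ≠ 0 := Finset.prod_ne_zero_iff.2 fun _ _ => hd _

lemma fd_pv (u w : Fin t → Fin k → F) : fd (dt d t) (pv u) (pv w) = ∏ l, fd d (u l) (w l) := by
  simp only [fd, pv, dt]
  rw [Fintype.prod_sum]
  exact Finset.sum_congr rfl fun x _ => by rw [← Finset.prod_mul_distrib, ← Finset.prod_mul_distrib]

lemma tens_vd (u w : Fin t → Fin k → F) : (tens fun l => vd d (u l) (w l)) = vd (dt d t) (pv u) (pv w) :=
  Matrix.ext fun x y => by simp [tens, vd_apply, pv, dt, Finset.prod_mul_distrib]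

lemma sa_tens (a : Fin t → Matrix (Fin k) (Fin k) F) :
    sa (dt d t) (tens a) = tens fun l => sa d (a l) := Matrix.ext fun x y => by
  simp [sa_apply, tens, dt, Finset.prod_mul_distrib, ← Finset.prod_inv_distrib]

lemma sa_slot (hd : ∀ p, d p ≠ 0) (i : Fin t) (A : Matrix (Fin k) (Fin k) F) :
    sa (dt d t) (slot i A) = slot i (sa d A) := by
  rw [slot, slot, sa_tens]
  congr 1
  funext l
  rcases eq_or_ne l i with rfl | hl
  · simp
  · simp [Function.update_of_ne hl, sa_one hd]

lemma sa_permMat (hd : ∀ p, d p ≠ 0) (σ : Equiv.Perm (Fin t)) :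
    sa (dt d t) (permMat k σ : Mt t k F) = permMat k σ.symm := Matrix.ext fun x y => by
  simp only [sa_apply, permMat, Matrix.of_apply]
  by_cases h : x = y ∘ σ
  · have h' : y = x ∘ σ.symm := funext fun l => by simp [h]
    rw [if_pos h, if_pos h', mul_one, show dt d t x = dt d t y by
      rw [h]; exact Fintype.prod_equiv σ _ _ fun l => rfl]
    exact inv_mul_cancel₀ (dt_ne hd y)
  · have h' : ¬ y = x ∘ σ.symm := fun e => h (funext fun l => by simp [e])
    rw [if_neg h, if_neg h']; simp

lemma pv_update_apply (v : Fin t → Fin k → F) (i : Fin t) (x : Fin k → F) (a : Fin t → Fin k) :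
    pv (Function.update v i x) a = x (a i) * ∏ l ∈ Finset.univ.erase i, v l (a l) := by
  rw [pv, ← Finset.mul_prod_erase _ _ (Finset.mem_univ i), Function.update_self]
  congr 1
  exact Finset.prod_congr rfl fun l hl => by rw [Function.update_of_ne (Finset.ne_of_mem_erase hl)]

/-- A pure tensor as a linear map in one factor. -/
def pvU (v : Fin t → Fin k → F) (i : Fin t) : (Fin k → F) →ₗ[F] ((Fin t → Fin k) → F) where
  toFun x := pv (Function.update v i x)
  map_add' x y := by funext a; simp [pv_update_apply, add_mul]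
  map_smul' c x := by funext a; simp [pv_update_apply, mul_assoc]

lemma pvU_apply (v : Fin t → Fin k → F) (i : Fin t) (x : Fin k → F) : pvU v i x = pv (Function.update v i x) := rfl

lemma pvU_self (v : Fin t → Fin k → F) (i : Fin t) : pvU v i (v i) = pv v := by
  rw [pvU_apply, Function.update_eq_self]

lemma pv_single (a : Fin t → Fin k) : pv (fun l => (Pi.single (a l) 1 : Fin k → F)) = Pi.single a 1 := by
  funext x
  by_cases h : x = a
  · subst h; simp [pv]
  · obtain ⟨l, hl⟩ := Function.ne_iff.1 h
    rw [Pi.single_eq_of_ne h]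
    exact Finset.prod_eq_zero (Finset.mem_univ l) (Pi.single_eq_of_ne hl 1)

lemma slot_mulVec_pv (i : Fin t) (A : Matrix (Fin k) (Fin k) F) (v : Fin t → Fin k → F) :
    slot i A *ᵥ pv v = pv (Function.update v i (A *ᵥ v i)) := by
  rw [slot, tens_mulVec_pv]
  congr 1
  funext l
  rcases eq_or_ne l i with rfl | hl
  · simp
  · simp [Function.update_of_ne hl]

/-- The matrix of the factor `i` at given entries of the others. -/
def sl (i : Fin t) (X : Mt t k F) (x y : Fin t → Fin k) : Matrix (Fin k) (Fin k) F :=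
  Matrix.of fun p r => X (Function.update x i p) (Function.update y i r)

lemma sl_apply (i : Fin t) (X : Mt t k F) (x y : Fin t → Fin k) (p r : Fin k) :
    sl i X x y p r = X (Function.update x i p) (Function.update y i r) := rfl

lemma sl_add (i : Fin t) (X Y : Mt t k F) (x y : Fin t → Fin k) : sl i (X + Y) x y = sl i X x y + sl i Y x y := rfl

lemma sl_sub (i : Fin t) (X Y : Mt t k F) (x y : Fin t → Fin k) : sl i (X - Y) x y = sl i X x y - sl i Y x y := rfl

lemma sl_smul (i : Fin t) (c : F) (X : Mt t k F) (x y : Fin t → Fin k) : sl i (c • X) x y = c • sl i X x y := rfl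

lemma sl_zero (i : Fin t) (x y : Fin t → Fin k) : sl i (0 : Mt t k F) x y = 0 := rfl

lemma sl_sum {α : Type*} (i : Fin t) (s : Finset α) (f : α → Mt t k F) (x y : Fin t → Fin k) :
    sl i (∑ a ∈ s, f a) x y = ∑ a ∈ s, sl i (f a) x y := by
  ext p r; simp [sl_apply, Matrix.sum_apply]

lemma sl_ext {i : Fin t} {X Y : Mt t k F} (h : ∀ x y, sl i X x y = sl i Y x y) : X = Y := Matrix.ext fun x y => by
  have := congrFun (congrFun (h x y) (x i)) (y i)
  simpa [sl_apply] using this

lemma sl_slot (i : Fin t) (A : Matrix (Fin k) (Fin k) F) (x y : Fin t → Fin k) :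
    sl i (slot i A) x y = if ∀ l, l ≠ i → x l = y l then A else 0 := by
  ext p r
  rw [sl_apply, slot_apply]
  by_cases h : ∀ l, l ≠ i → x l = y l
  · rw [if_pos h, if_pos fun l hl => by simp [Function.update_of_ne hl, h l hl]]
    simp
  · rw [if_neg h, if_neg fun h' => h fun l hl => by simpa [Function.update_of_ne hl] using h' l hl]
    rfl

lemma sl_tens (i : Fin t) (a : Fin t → Matrix (Fin k) (Fin k) F) (x y : Fin t → Fin k) :
    sl i (tens a) x y = (∏ l ∈ Finset.univ.erase i, a l (x l) (y l)) • a i := by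
  ext p r
  simp only [sl_apply, tens, Matrix.of_apply, Matrix.smul_apply, smul_eq_mul]
  rw [← Finset.mul_prod_erase _ _ (Finset.mem_univ i), Function.update_self, Function.update_self, mul_comm]
  congr 1
  exact Finset.prod_congr rfl fun l hl => by
    simp [Function.update_of_ne (Finset.ne_of_mem_erase hl)]

lemma sl_mul (i : Fin t) (o : Fin k) (X Y : Mt t k F) (x y : Fin t → Fin k) :
    sl i (X * Y) x y =
      ∑ z ∈ Finset.univ.filter (fun z : Fin t → Fin k => z i = o), sl i X x z * sl i Y z y := by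
  ext p r
  simp only [sl_apply, Matrix.mul_apply, Matrix.sum_apply]
  rw [Finset.sum_sigma' (Finset.univ.filter fun z : Fin t → Fin k => z i = o) fun _ => (Finset.univ : Finset (Fin k))]
  refine Finset.sum_bij' (fun z _ => (⟨Function.update z i o, z i⟩ : Σ _ : Fin t → Fin k, Fin k))
    (fun z _ => Function.update z.1 i z.2) ?_ ?_ ?_ ?_ ?_
  · intro z _; simp
  · intro z _; simp
  · intro z _; simp
  · rintro ⟨z, s⟩ hz
    simp only [Finset.mem_sigma, Finset.mem_filter, Finset.mem_univ, true_and, and_true] at hz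
    simp [← hz]
  · intro z _
    simp

lemma sl_sa (hd : ∀ p, d p ≠ 0) (i : Fin t) (X : Mt t k F) (x y : Fin t → Fin k) :
    sl i (sa (dt d t) X) x y =
      ((∏ l ∈ Finset.univ.erase i, d (x l))⁻¹ * ∏ l ∈ Finset.univ.erase i, d (y l)) • sa d (sl i X y x) := by
  ext p r
  have e : ∀ (z : Fin t → Fin k) s, dt d t (Function.update z i s) = d s * ∏ l ∈ Finset.univ.erase i, d (z l) :=
    fun z s => by
      rw [dt, ← Finset.mul_prod_erase _ _ (Finset.mem_univ i), Function.update_self]
      congr 1
      exact Finset.prod_congr rfl fun l hl => by rw [Function.update_of_ne (Finset.ne_of_mem_erase hl)]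
  simp only [sl_apply, sa_apply, Matrix.smul_apply, smul_eq_mul, e, mul_inv]
  ring

lemma com_iff_sl [NeZero k] {i : Fin t} {X : Mt t k F} : Com i X ↔ ∀ x y, ∃ c : F, sl i X x y = c • 1 := by
  constructor
  · intro h x y
    refine ⟨X (Function.update x i 0) (Function.update y i 0), Matrix.ext fun p r => ?_⟩
    rw [sl_apply, h.apply_update _ _ 0, Matrix.smul_apply, Matrix.one_apply]
    simp
  · intro h p r
    refine sl_ext (i := i) fun x y => ?_
    rw [sl_mul i 0, sl_mul i 0]
    simp only [eu, sl_slot]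
    have e : ∀ z : Fin t → Fin k, z i = 0 → ((∀ l, l ≠ i → x l = z l) ↔ z = Function.update x i 0) := fun z hz =>
      ⟨fun h => funext fun l => by
          rcases eq_or_ne l i with rfl | hl
          · simp [hz]
          · simp [Function.update_of_ne hl, h l hl],
        fun h l hl => by simp [h, Function.update_of_ne hl]⟩
    have e' : ∀ z : Fin t → Fin k, z i = 0 → ((∀ l, l ≠ i → z l = y l) ↔ z = Function.update y i 0) := fun z hz =>
      ⟨fun h => funext fun l => by
          rcases eq_or_ne l i with rfl | hl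
          · simp [hz]
          · simp [Function.update_of_ne hl, h l hl],
        fun h l hl => by simp [h, Function.update_of_ne hl]⟩
    rw [Finset.sum_eq_single (Function.update x i 0), Finset.sum_eq_single (Function.update y i 0)]
    · rw [if_pos ((e _ (by simp)).2 rfl), if_pos ((e' _ (by simp)).2 rfl)]
      obtain ⟨c, hc⟩ := h x y
      have h1 : sl i X (Function.update x i 0) y = c • 1 := by
        rw [← hc]; ext a b; simp [sl_apply]
      have h2 : sl i X x (Function.update y i 0) = c • 1 := by
        rw [← hc]; ext a b; simp [sl_apply]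
      rw [h1, h2, mul_smul_comm, mul_one, smul_mul_assoc, one_mul]
    · intro z hz hne
      rw [Finset.mem_filter] at hz
      rw [if_neg fun h' => hne ((e' z hz.2).1 h'), mul_zero]
    · simp
    · intro z hz hne
      rw [Finset.mem_filter] at hz
      rw [if_neg fun h' => hne ((e z hz.2).1 h'), zero_mul]
    · simp

/-- The matrices of the factor `i` lie in `S`. -/
def Val (i : Fin t) (S : Submodule F (Matrix (Fin k) (Fin k) F)) (X : Mt t k F) : Prop := ∀ x y, sl i X x y ∈ S

variable {i : Fin t} {S T R : Submodule F (Matrix (Fin k) (Fin k) F)}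

lemma Val.add {X Y : Mt t k F} (hX : Val i S X) (hY : Val i S Y) : Val i S (X + Y) := fun x y =>
  S.add_mem (hX x y) (hY x y)

lemma Val.smul {X : Mt t k F} (hX : Val i S X) (c : F) : Val i S (c • X) := fun x y => S.smul_mem c (hX x y)

lemma Val.sub {X Y : Mt t k F} (hX : Val i S X) (hY : Val i S Y) : Val i S (X - Y) := fun x y =>
  S.sub_mem (hX x y) (hY x y)

lemma Val.neg {X : Mt t k F} (hX : Val i S X) : Val i S (-X) := fun x y => S.neg_mem (hX x y)

lemma val_zero : Val i S (0 : Mt t k F) := fun _ _ => S.zero_mem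

lemma Val.mono {X : Mt t k F} (hX : Val i S X) (h : S ≤ T) : Val i T X := fun x y => h (hX x y)

lemma val_slot {A : Matrix (Fin k) (Fin k) F} (hA : A ∈ S) : Val i S (slot i A : Mt t k F) := fun x y => by
  rw [sl_slot]; split_ifs
  · exact hA
  · exact S.zero_mem

lemma Val.mul [NeZero k] {X Y : Mt t k F} (hX : Val i S X) (hY : Val i T Y)
    (h : ∀ A ∈ S, ∀ B ∈ T, A * B ∈ R) : Val i R (X * Y) := fun x y => by
  rw [sl_mul i 0]
  exact R.sum_mem fun z _ => h _ (hX x z) _ (hY z y)

lemma Val.eq_zero [NeZero k] {X Y : Mt t k F} (hX : Val i S X) (hY : Val i T Y)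
    (h : ∀ A ∈ S, ∀ B ∈ T, A * B = 0) : X * Y = 0 := sl_ext (i := i) fun x y => by
  rw [sl_mul i 0, sl_zero]
  exact Finset.sum_eq_zero fun z _ => h _ (hX x z) _ (hY z y)

lemma Com.val [NeZero k] {X : Mt t k F} (hX : Com i X) : Val i (F ∙ (1 : Matrix (Fin k) (Fin k) F)) X := fun x y => by
  obtain ⟨c, hc⟩ := com_iff_sl.1 hX x y
  exact Submodule.mem_span_singleton.2 ⟨c, hc.symm⟩

lemma Val.com_mul [NeZero k] {γ X : Mt t k F} (hγ : Com i γ) (hX : Val i S X) : Val i S (γ * X) :=
  (Com.val hγ).mul hX fun A hA B hB => by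
    obtain ⟨c, rfl⟩ := Submodule.mem_span_singleton.1 hA
    rw [smul_mul_assoc, one_mul]; exact S.smul_mem c hB

lemma Val.mul_com [NeZero k] {γ X : Mt t k F} (hγ : Com i γ) (hX : Val i S X) : Val i S (X * γ) :=
  hX.mul (Com.val hγ) fun A hA B hB => by
    obtain ⟨c, rfl⟩ := Submodule.mem_span_singleton.1 hB
    rw [mul_smul_comm, mul_one]; exact S.smul_mem c hA

lemma sl_cmp (i : Fin t) (p r : Fin k) (X : Mt t k F) (x y : Fin t → Fin k) :
    sl i (cmp i p r X) x y = sl i X x y p r • 1 := by
  ext a b
  simp only [cmp, sl_apply, Matrix.sum_apply, mul_eu_apply, eu_mul_apply, Matrix.smul_apply, Matrix.one_apply,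
    Function.update_self, Function.update_idem, smul_eq_mul]
  rw [Finset.sum_eq_single a]
  · by_cases h : a = b <;> simp [h, eq_comm]
  · intro c _ hc; simp [Ne.symm hc]
  · simp

lemma sl_com_mul [NeZero k] {γ : Mt t k F} (hγ : Com i γ) {A : Matrix (Fin k) (Fin k) F} {φ : Matrix (Fin k) (Fin k) F → F}
    {X : Mt t k F} (h : ∀ x y, sl i γ x y = φ (sl i X x y) • 1) (x y : Fin t → Fin k) :
    sl i (slot i A * γ) x y = φ (sl i X x y) • A := by
  rw [sl_mul i 0, Finset.sum_eq_single (Function.update x i 0)]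
  · rw [sl_slot, if_pos fun l hl => by simp [Function.update_of_ne hl], h,
      show sl i X (Function.update x i 0) y = sl i X x y from Matrix.ext fun a b => by simp [sl_apply],
      mul_smul_comm, mul_one]
  · intro z hz hne
    rw [Finset.mem_filter] at hz
    rw [sl_slot, if_neg, zero_mul]
    intro h'
    refine hne (funext fun l => ?_)
    rcases eq_or_ne l i with rfl | hl
    · simp [hz.2]
    · simp [Function.update_of_ne hl, h' l hl]
  · simp

/-- A matrix with values on a line is a multiple of one matrix of the factor. -/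
lemma exists_slot_mul [NeZero k] {A : Matrix (Fin k) (Fin k) F} {X : Mt t k F}
    (hX : Val i (F ∙ A) X) : ∃ γ, Com i γ ∧ X = slot i A * γ := by
  by_cases hA : A = 0
  · refine ⟨0, com_zero i, sl_ext (i := i) fun x y => ?_⟩
    obtain ⟨c, hc⟩ := Submodule.mem_span_singleton.1 (hX x y)
    rw [mul_zero, sl_zero, ← hc, hA, smul_zero]
  obtain ⟨p, r, hpr⟩ : ∃ p r, A p r ≠ 0 := by
    by_contra hc; push Not at hc; exact hA (Matrix.ext hc)
  refine ⟨(A p r)⁻¹ • cmp i p r X, (com_cmp i p r X).smul _, sl_ext (i := i) fun x y => ?_⟩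
  obtain ⟨c, hc⟩ := Submodule.mem_span_singleton.1 (hX x y)
  rw [sl_com_mul ((com_cmp i p r X).smul _) (φ := fun M => (A p r)⁻¹ * M p r) (X := X)
    (fun x y => by rw [sl_smul, sl_cmp, smul_smul]), ← hc]
  simp [mul_comm, hpr]

lemma slot_mul_com_zero [NeZero k] {A : Matrix (Fin k) (Fin k) F} (hA : A ≠ 0) {γ : Mt t k F} (hγ : Com i γ)
    (h : slot i A * γ = 0) : γ = 0 := sl_ext (i := i) fun x y => by
  obtain ⟨c, hc⟩ := com_iff_sl.1 hγ x y
  have h1 : sl i (slot i A * γ) x y = c • A := by
    rw [sl_mul i 0, Finset.sum_eq_single (Function.update x i 0)]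
    · rw [sl_slot, if_pos fun l hl => by simp [Function.update_of_ne hl],
        show sl i γ (Function.update x i 0) y = sl i γ x y from Matrix.ext fun a b => by simp [sl_apply],
        hc, mul_smul_comm, mul_one]
    · intro z hz hne
      rw [Finset.mem_filter] at hz
      rw [sl_slot, if_neg, zero_mul]
      intro h'
      refine hne (funext fun l => ?_)
      rcases eq_or_ne l i with rfl | hl
      · simp [hz.2]
      · simp [Function.update_of_ne hl, h' l hl]
    · simp
  rw [h, sl_zero, eq_comm, smul_eq_zero, or_iff_left hA] at h1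
  rw [hc, h1, zero_smul, sl_zero]

/-- The coefficient of a matrix at two vectors of the factor `i`. -/
def cf (d : Fin k → F) (i : Fin t) (a b : Fin k → F) (X : Mt t k F) : Mt t k F :=
  ∑ p, ∑ r, (d p * a p * b r) • cmp i p r X

lemma com_cf (a b : Fin k → F) (X : Mt t k F) : Com i (cf d i a b X) :=
  com_sum _ fun _ _ => com_sum _ fun _ _ => (com_cmp i _ _ X).smul _

lemma sl_cf (a b : Fin k → F) (X : Mt t k F) (x y : Fin t → Fin k) :
    sl i (cf d i a b X) x y = fd d a (sl i X x y *ᵥ b) • 1 := by
  simp only [cf, sl_sum, sl_smul, sl_cmp, smul_smul, ← Finset.sum_smul]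
  congr 1
  simp only [fd, Matrix.mulVec, dotProduct, Finset.mul_sum]
  exact Finset.sum_congr rfl fun p _ => Finset.sum_congr rfl fun r _ => by ring

end CfsgLib.Geo.TensorPow.O
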