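/-
Hyperbolic frames of one factor: Eichler elements and the spans of their linear parts.
-/
import Cfsg.Agent.Geo.TensorPow.O.Tensor
import Mathlib.FieldTheory.Finite.Basic

set_option autoImplicit false
set_option linter.unusedSectionVars false

namespace CfsgLib.Geo.TensorPow.O

open Matrix CfsgLib.Aschbacher
open scoped MatrixGroups

variable {F : Type*} [Field F]
variable {ι : Type} [Fintype ι] [DecidableEq ι]

/-- The Eichler transformation. -/
def eich (e x a : ι → F) : Matrix ι ι F := 1 + wg e a x - (fd e a a / 2) • vd e x x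

lemma eich_mulVec (e x a z : ι → F) :
    eich e x a *ᵥ z = z + fd e x z • a - fd e a z • x - (fd e a a / 2 * fd e x z) • x := by
  rw [eich, Matrix.sub_mulVec, Matrix.add_mulVec, Matrix.one_mulVec, wg_mulVec, Matrix.smul_mulVec, vd_mulVec,
    smul_smul]
  abel

lemma eich_zero (e x : ι → F) : eich e x 0 = 1 := by simp [eich, wg_zero_left, fd_zero_left]

lemma eich_mul {e x a b : ι → F} (h2 : (2 : F) ≠ 0) (hx : fd e x x = 0) (ha : fd e x a = 0) (hb : fd e x b = 0) :
    eich e x a * eich e x b = eich e x (a + b) := by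
  refine Matrix.ext_iff_mulVec.2 fun z => ?_
  have hax : fd e a x = 0 := by rw [fd_symm, ha]
  simp only [← Matrix.mulVec_mulVec, eich_mulVec, fd_add_left, fd_add_right, fd_sub_right, fd_smul_right, hx, hax,
    hb, fd_symm e b a]
  match_scalars <;> field_simp <;> ring

variable {e x a : ι → F}

lemma eich_neg (h2 : (2 : F) ≠ 0) (hx : fd e x x = 0) (ha : fd e x a = 0) :
    eich e x a * eich e x (-a) = 1 := by
  rw [eich_mul h2 hx ha (by rw [fd_neg_right, ha, neg_zero]), add_neg_cancel, eich_zero]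

lemma sa_eich (he : ∀ i, e i ≠ 0) : sa e (eich e x a) = eich e x (-a) := by
  rw [eich, eich, sa_sub, sa_add, sa_one he, sa_wg he, sa_smul, sa_vd he, fd_neg_left, fd_neg_right, neg_neg,
    show wg e (-a) x = -wg e a x by rw [← neg_one_smul F a, wg_smul_left, neg_one_smul]]

/-- The Eichler transformation as an invertible matrix. -/
lemma exists_eich (h2 : (2 : F) ≠ 0) (he : ∀ i, e i ≠ 0) (hx : fd e x x = 0) (ha : fd e x a = 0) :
    ∃ g ∈ isoG e, (g : Matrix ι ι F) = eich e x a := by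
  have ha' : fd e x (-a) = 0 := by rw [fd_neg_right, ha, neg_zero]
  have h2' : eich e x (-a) * eich e x a = 1 := by
    rw [eich_mul h2 hx ha' ha, neg_add_cancel, eich_zero]
  refine ⟨⟨eich e x a, eich e x (-a), eich_neg h2 hx ha, h2'⟩, (mem_isoG he).2 ?_, rfl⟩
  show sa e (eich e x a) * eich e x a = 1
  rw [sa_eich he, h2']

lemma conj_eich (he : ∀ i, e i ≠ 0) {g : GL ι F} (hg : g ∈ isoG e) :
    (g : Matrix ι ι F) * eich e x a * ((g⁻¹ : GL ι F) : Matrix ι ι F) =
      eich e ((g : Matrix ι ι F) *ᵥ x) ((g : Matrix ι ι F) *ᵥ a) := by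
  rw [eich, mul_sub, sub_mul, mul_add, add_mul, mul_one, Units.mul_inv, conj_wg he hg, mul_smul_comm,
    smul_mul_assoc, conj_vd he hg, eich, hg a a]

lemma eich_smul_left (c : F) : eich e (c • x) a = eich e x (c • a) := by
  simp only [eich, wg, vd_smul_left, vd_smul_right, fd_smul_left, fd_smul_right, smul_smul]
  module

lemma eich_add_line (hx : fd e x x = 0) (ha : fd e x a = 0) (c : F) (h2 : (2 : F) ≠ 0) :
    eich e x (a + c • x) = eich e x a := by
  rw [← eich_mul h2 hx ha (by rw [fd_smul_right, hx, mul_zero])]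
  have : eich e x (c • x) = 1 := by
    simp [eich, wg_smul_left, wg_self, fd_smul_left, fd_smul_right, hx]
  rw [this, mul_one]

section frame

variable {k : ℕ}

/-- A hyperbolic pair. -/
structure Fr (d u v : Fin k → F) : Prop where
  uu : fd d u u = 0
  vv : fd d v v = 0
  uv : fd d u v = 1

/-- The orthogonal of a pair. -/
def Pp (d u v : Fin k → F) : Submodule F (Fin k → F) where
  carrier := {m | fd d u m = 0 ∧ fd d v m = 0}
  add_mem' {a b} ha hb := ⟨by rw [fd_add_right, ha.1, hb.1, add_zero], by rw [fd_add_right, ha.2, hb.2, add_zero]⟩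
  zero_mem' := ⟨fd_zero_right d u, fd_zero_right d v⟩
  smul_mem' c a ha := ⟨by rw [fd_smul_right, ha.1, mul_zero], by rw [fd_smul_right, ha.2, mul_zero]⟩

variable {d u v : Fin k → F}

lemma mem_Pp {m : Fin k → F} : m ∈ Pp d u v ↔ fd d u m = 0 ∧ fd d v m = 0 := Iff.rfl

/-- The linear part of the Eichler elements at `u`. -/
def nmL (d u : Fin k → F) : (Fin k → F) →ₗ[F] Matrix (Fin k) (Fin k) F where
  toFun m := wg d m u
  map_add' _ _ := wg_add_left ..
  map_smul' _ _ := wg_smul_left ..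

/-- The values of the linear parts. -/
def SN (d u v : Fin k → F) : Submodule F (Matrix (Fin k) (Fin k) F) := (Pp d u v).map (nmL d u)

/-- The values at the centre. -/
def SZ (d u : Fin k → F) : Submodule F (Matrix (Fin k) (Fin k) F) := F ∙ vd d u u

/-- The values of the commutant of the Eichler elements at `u`. -/
def SC (d u v : Fin k → F) : Submodule F (Matrix (Fin k) (Fin k) F) := (F ∙ 1) ⊔ SN d u v ⊔ SZ d u

/-- The values of the radical of the stabiliser of `u`. -/
def SR (d u v : Fin k → F) : Submodule F (Matrix (Fin k) (Fin k) F) where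
  carrier := {X | X *ᵥ u = 0 ∧ sa d X *ᵥ u = 0 ∧ ∀ a ∈ Pp d u v, ∀ b ∈ Pp d u v, fd d a (X *ᵥ b) = 0}
  add_mem' {X Y} hX hY := ⟨by rw [Matrix.add_mulVec, hX.1, hY.1, add_zero],
    by rw [sa_add, Matrix.add_mulVec, hX.2.1, hY.2.1, add_zero],
    fun a ha b hb => by rw [Matrix.add_mulVec, fd_add_right, hX.2.2 a ha b hb, hY.2.2 a ha b hb, add_zero]⟩
  zero_mem' := ⟨Matrix.zero_mulVec _, by rw [sa_zero, Matrix.zero_mulVec],
    fun a _ b _ => by rw [Matrix.zero_mulVec, fd_zero_right]⟩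
  smul_mem' c X hX := ⟨by rw [Matrix.smul_mulVec, hX.1, smul_zero],
    by rw [sa_smul, Matrix.smul_mulVec, hX.2.1, smul_zero],
    fun a ha b hb => by rw [Matrix.smul_mulVec, fd_smul_right, hX.2.2 a ha b hb, mul_zero]⟩

lemma mem_SN {X : Matrix (Fin k) (Fin k) F} : X ∈ SN d u v ↔ ∃ m ∈ Pp d u v, X = wg d m u := by
  simp [SN, nmL, Submodule.mem_map, eq_comm]

/-- The projection on the orthogonal of the pair. -/
def prj (d u v x : Fin k → F) : Fin k → F := x - fd d v x • u - fd d u x • v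

lemma prj_decomp (x : Fin k → F) : x = fd d v x • u + fd d u x • v + prj d u v x := by
  rw [prj]; abel

variable (hf : Fr d u v)
include hf

lemma Fr.vu : fd d v u = 1 := by rw [fd_symm, hf.uv]

lemma Fr.swap : Fr d v u := ⟨hf.vv, hf.uu, hf.vu⟩

lemma Fr.u_ne : u ≠ 0 := fun h => one_ne_zero (by rw [← hf.uv, h, fd_zero_left])

lemma Fr.v_ne : v ≠ 0 := hf.swap.u_ne

lemma prj_mem (x : Fin k → F) : prj d u v x ∈ Pp d u v := by
  refine ⟨?_, ?_⟩ <;> simp [prj, fd_sub_right, fd_smul_right, hf.uu, hf.vv, hf.uv, hf.vu]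

omit hf in
lemma Pp_swap : Pp d v u = Pp d u v := Submodule.ext fun _ => And.comm

lemma nm_mul {m m' : Fin k → F} (hm : m ∈ Pp d u v) (hm' : m' ∈ Pp d u v) :
    wg d m u * wg d m' u = -fd d m m' • vd d u u := by
  simp [wg, sub_mul, mul_sub, vd_mul_vd, hf.uu, hm'.1, fd_symm d u m, hm.1]

lemma nm_mul_z {m : Fin k → F} (hm : m ∈ Pp d u v) : wg d m u * vd d u u = 0 := by
  simp [wg, sub_mul, vd_mul_vd, hf.uu, fd_symm d u m, hm.1]

lemma z_mul_nm {m : Fin k → F} (hm : m ∈ Pp d u v) : vd d u u * wg d m u = 0 := by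
  simp [wg, mul_sub, vd_mul_vd, hf.uu, hm.1]

lemma z_mul_z : vd d u u * vd d u u = (0 : Matrix (Fin k) (Fin k) F) := by rw [vd_mul_vd, hf.uu, zero_smul]

lemma eich_frame (m : Fin k → F) : eich d u m = 1 + wg d m u - (fd d m m / 2) • vd d u u := rfl

lemma nm_mulVec_v {m : Fin k → F} (hm : m ∈ Pp d u v) : wg d m u *ᵥ v = m := by
  rw [wg_mulVec, hf.uv, one_smul, fd_symm d v m, hm.2, zero_smul, sub_zero]

lemma nm_eq_zero {m : Fin k → F} (hm : m ∈ Pp d u v) (h : wg d m u = 0) : m = 0 := by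
  rw [← nm_mulVec_v hf hm, h, Matrix.zero_mulVec]

variable (hd : ∀ p, d p ≠ 0)
include hd

lemma Fr.ext {X Y : Matrix (Fin k) (Fin k) F}
    (h : ∀ a b, (a = u ∨ a = v ∨ a ∈ Pp d u v) → (b = u ∨ b = v ∨ b ∈ Pp d u v) →
      fd d a (X *ᵥ b) = fd d a (Y *ᵥ b)) : X = Y := by
  refine ext_fd hd fun a b => ?_
  have ha := prj_mem hf a
  have hb := prj_mem hf b
  rw [prj_decomp (d := d) (u := u) (v := v) a, prj_decomp (d := d) (u := u) (v := v) b]
  simp only [Matrix.mulVec_add, Matrix.mulVec_smul, fd_add_left, fd_add_right, fd_smul_left, fd_smul_right]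
  rw [h u u (by simp) (by simp), h u v (by simp) (by simp), h u _ (by simp) (Or.inr (Or.inr hb)),
    h v u (by simp) (by simp), h v v (by simp) (by simp), h v _ (by simp) (Or.inr (Or.inr hb)),
    h _ u (Or.inr (Or.inr ha)) (by simp), h _ v (Or.inr (Or.inr ha)) (by simp),
    h _ _ (Or.inr (Or.inr ha)) (Or.inr (Or.inr hb))]

lemma Pp_nondeg {m : Fin k → F} (hm : m ∈ Pp d u v) (h : ∀ m' ∈ Pp d u v, fd d m m' = 0) : m = 0 := by
  refine eq_zero_of_fd hd fun y => ?_
  rw [prj_decomp (d := d) (u := u) (v := v) y, fd_add_right, fd_add_right, fd_smul_right, fd_smul_right,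
    fd_symm d u m, fd_symm d v m, hm.1, hm.2, h _ (prj_mem hf y)]
  ring

lemma SR_form {X : Matrix (Fin k) (Fin k) F} (hX : X ∈ SR d u v) :
    ∃ p r, fd d u p = 0 ∧ fd d u r = 0 ∧ X = vd d p u + vd d u r := by
  obtain ⟨h1, h2, h3⟩ := hX
  have hl : ∀ b, fd d u (X *ᵥ b) = 0 := fun b => by
    rw [fd_symm, fd_mulVec hd, h2, fd_zero_right]
  refine ⟨X *ᵥ v, sa d X *ᵥ v - fd d v (X *ᵥ v) • u, hl v, ?_, ?_⟩
  · rw [fd_sub_right, fd_smul_right, hf.uu, mul_zero, sub_zero, ← fd_mulVec hd, h1, fd_zero_left]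
  refine hf.ext hd fun a b ha hb => ?_
  have hr : ∀ b, fd d (sa d X *ᵥ v) b = fd d v (X *ᵥ b) := fun b => by
    rw [fd_mulVec hd, sa_sa hd]
  simp only [Matrix.add_mulVec, vd_mulVec, fd_add_right, fd_smul_right, fd_sub_left, fd_smul_left, hr]
  rcases hb with rfl | rfl | hb
  · rw [h1, fd_zero_right, fd_zero_right, hf.uu]; ring
  · rw [hf.uv]; ring
  · rw [hb.1]
    rcases ha with rfl | rfl | ha
    · rw [hl, hf.uu]; ring
    · rw [hf.vu]; ring
    · rw [h3 a ha b hb, fd_symm d u a, ha.1]; ring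

omit hd in
lemma Pp_zero_of_u {p : Fin k → F} (hp : fd d u p = 0) : fd d v p = fd d v p * fd d u v ∧ fd d p u = 0 :=
  ⟨by rw [hf.uv, mul_one], by rw [fd_symm, hp]⟩

lemma vd_mem_SR {p : Fin k → F} (hp : fd d u p = 0) : vd d p u ∈ SR d u v ∧ vd d u p ∈ SR d u v := by
  refine ⟨⟨?_, ?_, fun a ha b hb => ?_⟩, ⟨?_, ?_, fun a ha b hb => ?_⟩⟩
  · rw [vd_mulVec, hf.uu, zero_smul]
  · rw [sa_vd hd, vd_mulVec, fd_symm, hp, zero_smul]
  · rw [vd_mulVec, hb.1, zero_smul, fd_zero_right]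
  · rw [vd_mulVec, fd_symm, hp, zero_smul]
  · rw [sa_vd hd, vd_mulVec, hf.uu, zero_smul]
  · rw [vd_mulVec, fd_smul_right, fd_symm d u a, ha.1, mul_zero]

lemma SN_le_SR : SN d u v ≤ SR d u v := fun X hX => by
  obtain ⟨m, hm, rfl⟩ := mem_SN.1 hX
  exact (SR d u v).sub_mem (vd_mem_SR hf hd hm.1).1 (vd_mem_SR hf hd hm.1).2

lemma SZ_le_SR : SZ d u ≤ SR d u v :=
  Submodule.span_le.2 fun _ h => (Set.mem_singleton_iff.1 h) ▸ (vd_mem_SR hf hd hf.uu).1

lemma SR_mul {X Y : Matrix (Fin k) (Fin k) F} (hX : X ∈ SR d u v) (hY : Y ∈ SR d u v) : X * Y ∈ SZ d u := by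
  obtain ⟨p, r, hp, hr, rfl⟩ := SR_form hf hd hX
  obtain ⟨p', r', hp', hr', rfl⟩ := SR_form hf hd hY
  simp only [add_mul, mul_add, vd_mul_vd, hf.uu, hp', fd_symm d u r, hr, zero_smul, add_zero, zero_add]
  exact Submodule.smul_mem _ _ (Submodule.mem_span_singleton_self _)

lemma SR_mul_SZ {X Y : Matrix (Fin k) (Fin k) F} (hX : X ∈ SR d u v) (hY : Y ∈ SZ d u) : X * Y = 0 ∧ Y * X = 0 := by
  obtain ⟨p, r, hp, hr, rfl⟩ := SR_form hf hd hX
  obtain ⟨c, rfl⟩ := Submodule.mem_span_singleton.1 hY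
  simp [mul_add, add_mul, vd_mul_vd, hf.uu, hp, fd_symm d u r, hr]

/-- The commutant of the linear parts. -/
lemma commutant {X : Matrix (Fin k) (Fin k) F} (hn : ∃ m ∈ Pp d u v, m ≠ 0)
    (h : ∀ m ∈ Pp d u v, wg d m u * X = X * wg d m u) :
    X = fd d u (X *ᵥ v) • 1 + wg d (prj d u v (X *ᵥ v)) u + fd d v (X *ᵥ v) • vd d u u := by
  set lam := fd d u (X *ᵥ v) with hl
  set μ₀ := fd d v (X *ᵥ v) with hm'
  set w := prj d u v (X *ᵥ v)
  have hw := prj_mem hf (X *ᵥ v)
  have hu : ∀ m ∈ Pp d u v, fd d u (X *ᵥ u) • m - fd d m (X *ᵥ u) • u = 0 := fun m hm => by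
    have := congrArg (· *ᵥ u) (h m hm)
    simp only [← Matrix.mulVec_mulVec, wg_mulVec, hf.uu, fd_symm d u m, hm.1, zero_smul, sub_zero,
      Matrix.mulVec_zero] at this
    exact this
  obtain ⟨m₀, hm₀, hm₀0⟩ := hn
  have hu0 : fd d u (X *ᵥ u) = 0 := by
    have := congrArg (fun z => wg d m₀ u *ᵥ z) (hu m₀ hm₀)
    by_contra hc
    refine hm₀0 (Pp_nondeg hf hd hm₀ fun m' hm2 => ?_)
    have e := congrArg (fd d m') (hu m₀ hm₀)
    rw [fd_sub_right, fd_smul_right, fd_smul_right, fd_symm d u m', hm2.1, mul_zero, sub_zero, fd_zero_right,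
      mul_eq_zero] at e
    rw [fd_symm]; exact e.resolve_left hc
  have hum : ∀ m ∈ Pp d u v, fd d m (X *ᵥ u) = 0 := fun m hm => by
    have := hu m hm
    rw [hu0, zero_smul, zero_sub, neg_eq_zero, smul_eq_zero] at this
    exact this.resolve_right hf.u_ne
  have hv : ∀ m ∈ Pp d u v, X *ᵥ m = lam • m - fd d m w • u := fun m hm => by
    have := congrArg (· *ᵥ v) (h m hm)
    simp only [← Matrix.mulVec_mulVec, nm_mulVec_v hf hm] at this
    rw [← this, wg_mulVec]
    congr 2
    conv_lhs => rw [prj_decomp (d := d) (u := u) (v := v) (X *ᵥ v)]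
    rw [fd_add_right, fd_add_right, fd_smul_right, fd_smul_right, fd_symm d u m, fd_symm d v m, hm.1, hm.2]
    ring
  have hvu : fd d v (X *ᵥ u) = lam := by
    have e1 := congrArg (fun Y => fd d v (Y *ᵥ u)) (h m₀ hm₀)
    obtain ⟨m', hm2, hne⟩ : ∃ m' ∈ Pp d u v, fd d m₀ m' ≠ 0 := by
      by_contra hc; push Not at hc; exact hm₀0 (Pp_nondeg hf hd hm₀ hc)
    have e := congrArg (fun Y => fd d v (Y *ᵥ m')) (h m₀ hm₀)
    simp only [← Matrix.mulVec_mulVec, hv m' hm2, wg_mulVec, hm2.1, zero_smul, zero_sub, Matrix.mulVec_neg,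
      Matrix.mulVec_smul, fd_neg_right, fd_smul_right, fd_sub_right, hf.uu, fd_symm d u m₀, hm₀.1, hf.vu,
      hm₀.2] at e
    refine (mul_left_cancel₀ hne ?_).symm
    linear_combination -e
  refine hf.ext hd fun a b ha hb => ?_
  simp only [Matrix.add_mulVec, Matrix.smul_mulVec, Matrix.one_mulVec, wg_mulVec, vd_mulVec, smul_smul,
    fd_add_right, fd_sub_right, fd_smul_right]
  rcases hb with hb | hb | hb
  · rw [hb, hf.uu, fd_symm d u w, hw.1]
    rcases ha with ha | ha | ha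
    · rw [ha, hu0, hf.uu]; ring
    · rw [ha, hvu, hf.vu]; ring
    · rw [hum a ha, fd_symm d u a, ha.1]; ring
  · rw [hb, hf.uv, fd_symm d v w, hw.2]
    rcases ha with ha | ha | ha
    · rw [ha, ← hl, hf.uu, hf.uv, hw.1]; ring
    · rw [ha, ← hm', hf.vv, hf.vu, hw.2]; ring
    · conv_lhs => rw [prj_decomp (d := d) (u := u) (v := v) (X *ᵥ v)]
      rw [fd_symm d v a, fd_symm d u a, ha.2, ha.1, fd_add_right, fd_add_right, fd_smul_right, fd_smul_right,
        fd_symm d u a, fd_symm d v a, ha.1, ha.2]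
      ring
  · rw [hv b hb, hb.1, fd_sub_right, fd_smul_right, fd_smul_right, fd_symm d b w]
    ring

lemma commutant_mem {X : Matrix (Fin k) (Fin k) F} (hn : ∃ m ∈ Pp d u v, m ≠ 0)
    (h : ∀ m ∈ Pp d u v, wg d m u * X = X * wg d m u) : X ∈ SC d u v := by
  rw [commutant hf hd hn h]
  exact add_mem (add_mem (Submodule.mem_sup_left (Submodule.mem_sup_left
    (Submodule.smul_mem _ _ (Submodule.mem_span_singleton_self _))))
    (Submodule.mem_sup_left (Submodule.mem_sup_right (mem_SN.2 ⟨_, prj_mem hf _, rfl⟩))))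
    (Submodule.mem_sup_right (Submodule.smul_mem _ _ (Submodule.mem_span_singleton_self _)))

end frame

/-! ### Finite fields of odd order -/

section dat

variable {k : ℕ}

/-- The coefficients of a factor. -/
structure Dat [Fintype F] (d : Fin k → F) : Prop where
  two : (2 : F) ≠ 0
  ne : ∀ p, d p ≠ 0
  three : 3 ≤ k
  five : k = 3 → 5 ≤ Fintype.card F
  room : k = 4 → ∀ x y, fd d x x = 0 → fd d y y = 0 → fd d x y = 0 → x ≠ 0 → ∃ c : F, y = c • x
  eqd : ∀ p q : Fin k, (p : ℕ) + 1 < k → (q : ℕ) + 1 < k → d p = d q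
  eq3 : k = 3 → ∀ p q : Fin k, d p = d q

variable [Fintype F] {d u v : Fin k → F} (hD : Dat d)
include hD

lemma Dat.odd_card : Fintype.card F % 2 = 1 :=
  FiniteField.odd_card_of_char_ne_two fun hc => hD.two (by
    have := (ringChar.spec F 2).2 (by rw [hc])
    exact_mod_cast this)

lemma Dat.neZero : NeZero k := ⟨by have := hD.three; omega⟩

lemma exists_norm {a b : Fin k → F} (ha : fd d a a ≠ 0) (hb : fd d b b ≠ 0) (hab : fd d a b = 0) (c : F) :
    ∃ s t : F, fd d (s • a + t • b) (s • a + t • b) = c := by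
  classical
  obtain ⟨s, t, hst⟩ := FiniteField.exists_root_sum_quadratic
    (f := Polynomial.C (fd d a a) * Polynomial.X ^ 2 - Polynomial.C c)
    (g := Polynomial.C (fd d b b) * Polynomial.X ^ 2)
    (by rw [sub_eq_add_neg, ← Polynomial.C_neg, Polynomial.degree_add_C (by rw [Polynomial.degree_C_mul_X_pow _ ha]; decide),
      Polynomial.degree_C_mul_X_pow _ ha]; rfl)
    (Polynomial.degree_C_mul_X_pow _ hb) hD.odd_card
  refine ⟨s, t, ?_⟩
  simp [fd_add_left, fd_add_right, fd_smul_left, fd_smul_right, hab, fd_symm d a b] at hst ⊢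
  linear_combination hst

/-- A vector orthogonal to an orthogonal family. -/
lemma exists_more {r : ℕ} (hr : r < k) (w : Fin r → Fin k → F) (hw : ∀ j, fd d (w j) (w j) ≠ 0)
    (ho : ∀ j j', j ≠ j' → fd d (w j) (w j') = 0) : ∃ c, fd d c c ≠ 0 ∧ ∀ j, fd d (w j) c = 0 := by
  classical
  set P : (Fin k → F) → Fin k → F := fun x => x - ∑ j, (fd d (w j) x / fd d (w j) (w j)) • w j with hP
  have hPo : ∀ x j, fd d (w j) (P x) = 0 := fun x j => by
    have e : ∀ (s : Finset (Fin r)) (c : Fin r → F), fd d (w j) (∑ l ∈ s, c l • w l) =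
        ∑ l ∈ s, c l * fd d (w j) (w l) := fun s c => by
      induction s using Finset.induction with
      | empty => simp [fd_zero_right]
      | insert l s hl ih => rw [Finset.sum_insert hl, Finset.sum_insert hl, fd_add_right, ih, fd_smul_right]
    rw [hP]
    simp only [fd_sub_right]
    rw [e, Finset.sum_eq_single j (fun l _ hl => by rw [ho j l hl.symm, mul_zero]) (by simp),
      div_mul_cancel₀ _ (hw j), sub_self]
  obtain ⟨x, hx⟩ : ∃ x, P x ≠ 0 := by
    by_contra hc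
    push Not at hc
    have hsp : (⊤ : Submodule F (Fin k → F)) ≤ Submodule.span F (Set.range w) := fun x _ => by
      have := sub_eq_zero.1 (hc x)
      rw [this]
      exact Submodule.sum_mem _ fun j _ => Submodule.smul_mem _ _ (Submodule.subset_span (Set.mem_range_self j))
    have h1 := Submodule.finrank_mono hsp
    rw [finrank_top, Module.finrank_fintype_fun_eq_card, Fintype.card_fin] at h1
    have h3 : Module.finrank F (Submodule.span F (Set.range w)) ≤ r := (finrank_range_le_card w).trans (by simp)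
    omega
  obtain ⟨y, hy⟩ : ∃ y, fd d (P x) (P y) ≠ 0 := by
    by_contra hc
    push Not at hc
    refine hx (eq_zero_of_fd hD.ne fun y => ?_)
    have h4 := hc y
    rw [show P y = y - ∑ j, (fd d (w j) y / fd d (w j) (w j)) • w j from rfl, fd_sub_right] at h4
    have e0 : ∀ (s : Finset (Fin r)) (c : Fin r → F), fd d (P x) (∑ l ∈ s, c l • w l) = 0 := fun s c => by
      induction s using Finset.induction with
      | empty => simp [fd_zero_right]
      | insert l s hl ih => rw [Finset.sum_insert hl, fd_add_right, ih, fd_smul_right, fd_symm, hPo]; ring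
    rwa [e0, sub_zero] at h4
  by_cases h1 : fd d (P x) (P x) = 0
  · by_cases h2 : fd d (P y) (P y) = 0
    · refine ⟨P x + P y, ?_, fun j => by rw [fd_add_right, hPo, hPo, add_zero]⟩
      simp only [fd_add_left, fd_add_right, h1, h2, fd_symm d (P x) (P y)]
      intro h
      exact hy ((mul_eq_zero.1 (show (2 : F) * fd d (P x) (P y) = 0 by linear_combination h)).resolve_left hD.two)
    · exact ⟨P y, h2, hPo y⟩
  · exact ⟨P x, h1, hPo x⟩

/-- A further anisotropic vector orthogonal to a pair and to an orthogonal family in its orthogonal. -/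
lemma Fr.exists_more (hf : Fr d u v) {r : ℕ} (hr : r + 2 < k) (w : Fin r → Fin k → F)
    (hm : ∀ j, w j ∈ Pp d u v) (hw : ∀ j, fd d (w j) (w j) ≠ 0) (ho : ∀ j j', j ≠ j' → fd d (w j) (w j') = 0) :
    ∃ c ∈ Pp d u v, fd d c c ≠ 0 ∧ ∀ j, fd d (w j) c = 0 := by
  classical
  suffices H : (∀ j, fd d ((Fin.cons (u + v) (Fin.cons (u - v) w) : Fin (r + 2) → Fin k → F) j)
      ((Fin.cons (u + v) (Fin.cons (u - v) w) : Fin (r + 2) → Fin k → F) j) ≠ 0) ∧
      ∀ j j', j ≠ j' → fd d ((Fin.cons (u + v) (Fin.cons (u - v) w) : Fin (r + 2) → Fin k → F) j)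
        ((Fin.cons (u + v) (Fin.cons (u - v) w) : Fin (r + 2) → Fin k → F) j') = 0 by
    obtain ⟨c, hc, hco⟩ := O.exists_more hD (r := r + 2) (by omega) _ H.1 H.2
    have h1 := hco 0
    have h2 := hco 1
    simp only [Fin.cons_zero, Fin.cons_one, fd_add_left, fd_sub_left] at h1 h2
    have hu0 : fd d u c = 0 :=
      (mul_eq_zero.1 (show (2 : F) * fd d u c = 0 by linear_combination h1 + h2)).resolve_left hD.two
    refine ⟨c, ⟨hu0, by rw [hu0, zero_add] at h1; exact h1⟩, hc, fun j => ?_⟩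
    simpa using hco j.succ.succ
  constructor
  · intro j
    refine Fin.cases ?_ (fun j => Fin.cases ?_ (fun j => ?_) j) j
    · simp only [Fin.cons_zero, fd_add_left, fd_add_right, hf.uu, hf.vv, hf.uv, hf.vu]
      intro h; exact hD.two (by linear_combination h)
    · simp only [Fin.cons_succ, Fin.cons_zero, fd_sub_left, fd_sub_right, hf.uu, hf.vv, hf.uv, hf.vu]
      intro h; exact hD.two (by linear_combination -h)
    · simpa using hw j
  · intro a b
    refine Fin.cases ?_ (fun a => Fin.cases ?_ (fun a => ?_) a) a <;>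
      refine Fin.cases ?_ (fun b => Fin.cases ?_ (fun b => ?_) b) b <;> intro h <;>
      simp [fd_add_left, fd_add_right, fd_sub_left, fd_sub_right, hf.uu, hf.vv, hf.uv, hf.vu, (hm _).1, (hm _).2,
        fd_symm d u (w _), fd_symm d v (w _)] at h ⊢
    exact ho _ _ h

lemma Fr.exists_aniso (hf : Fr d u v) : ∃ n ∈ Pp d u v, fd d n n ≠ 0 := by
  obtain ⟨c, hc, hcc, -⟩ := hf.exists_more hD (r := 0) (by have := hD.three; omega) Fin.elim0
    (fun j => j.elim0) (fun j => j.elim0) (fun j => j.elim0)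
  exact ⟨c, hc, hcc⟩

lemma Fr.exists_orth (hf : Fr d u v) (h4 : 4 ≤ k) {n : Fin k → F} (hn : n ∈ Pp d u v) (hnn : fd d n n ≠ 0) :
    ∃ c ∈ Pp d u v, fd d c c ≠ 0 ∧ fd d n c = 0 := by
  obtain ⟨c, hc, hcc, ho⟩ := hf.exists_more hD (r := 1) (by omega) (fun _ => n) (fun _ => hn) (fun _ => hnn)
    (fun j j' h => absurd (Subsingleton.elim j j') h)
  exact ⟨c, hc, hcc, ho 0⟩

lemma Fr.exists_orth₂ (hf : Fr d u v) (h5 : 5 ≤ k) {n c : Fin k → F} (hn : n ∈ Pp d u v) (hnn : fd d n n ≠ 0)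
    (hc : c ∈ Pp d u v) (hcc : fd d c c ≠ 0) (hnc : fd d n c = 0) :
    ∃ c' ∈ Pp d u v, fd d c' c' ≠ 0 ∧ fd d n c' = 0 ∧ fd d c c' = 0 := by
  obtain ⟨c', hc', hcc', ho⟩ := hf.exists_more hD (r := 2) (by omega) ![n, c]
    (fun j => by fin_cases j <;> assumption) (fun j => by fin_cases j <;> assumption)
    (fun j j' h => by fin_cases j <;> fin_cases j' <;> simp_all [fd_symm d n c])
  exact ⟨c', hc', hcc', ho 0, ho 1⟩

lemma Fr.three_line (hf : Fr d u v) (h3 : k = 3) {n m : Fin k → F} (hn : n ∈ Pp d u v) (hnn : fd d n n ≠ 0)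
    (hm : m ∈ Pp d u v) : m = (fd d n m / fd d n n) • n := by
  subst h3
  by_contra hne
  set m' := m - (fd d n m / fd d n n) • n with hm'
  have hm0 : m' ≠ 0 := sub_ne_zero.2 hne
  have hm'P : m' ∈ Pp d u v := Submodule.sub_mem _ hm (Submodule.smul_mem _ _ hn)
  have hnm' : fd d n m' = 0 := by rw [hm', fd_sub_right, fd_smul_right, div_mul_cancel₀ _ hnn, sub_self]
  have hli : LinearIndependent F ![u, v, n, m'] := by
    rw [Fintype.linearIndependent_iff]
    intro g hg
    simp [Fin.sum_univ_four] at hg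
    have hu := congrArg (fd d u) hg
    have hv := congrArg (fd d v) hg
    have hn' := congrArg (fd d n) hg
    simp only [fd_add_right, fd_smul_right, fd_zero_right, hf.uu, hf.uv, hf.vu, hf.vv, hn.1, hn.2, hm'P.1, hm'P.2,
      hnm', fd_symm d u n, fd_symm d v n] at hu hv hn'
    have g1 : g 1 = 0 := by linear_combination hu
    have g0 : g 0 = 0 := by linear_combination hv
    have g2 : g 2 = 0 := by
      rw [g0, g1] at hn'
      exact (mul_eq_zero.1 (show g 2 * fd d n n = 0 by linear_combination hn')).resolve_right hnn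
    rw [g0, g1, g2] at hg
    simp at hg
    have g3 : g 3 = 0 := hg.resolve_right hm0
    intro j
    fin_cases j <;> assumption
  have := hli.fintype_card_le_finrank
  simp at this

lemma Fr.four_aniso (hf : Fr d u v) (h4 : k = 4) {m : Fin k → F} (hm : m ∈ Pp d u v) (hmm : fd d m m = 0) :
    m = 0 := by
  obtain ⟨c, rfl⟩ := hD.room h4 u m hf.uu hmm hm.1 hf.u_ne
  have := hm.2
  rw [fd_smul_right, hf.vu, mul_one] at this
  rw [this, zero_smul]

lemma exists_fr_of {x : Fin k → F} (hx0 : x ≠ 0) (hx : fd d x x = 0) : ∃ y, Fr d x y := by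
  obtain ⟨a, ha⟩ := Function.ne_iff.1 hx0
  have hne : d a * x a ≠ 0 := mul_ne_zero (hD.ne a) ha
  set y0 : Fin k → F := (d a * x a)⁻¹ • Pi.single a 1 with hy0
  have hxy0 : fd d x y0 = 1 := by rw [hy0, fd_smul_right, fd_single_right, inv_mul_cancel₀ hne]
  clear_value y0
  refine ⟨y0 - (fd d y0 y0 / 2) • x, ⟨hx, ?_, ?_⟩⟩
  · simp only [fd_sub_left, fd_sub_right, fd_smul_left, fd_smul_right, hx, fd_symm d x y0, hxy0]
    have := hD.two
    field_simp
    ring
  · rw [fd_sub_right, fd_smul_right, hx, hxy0, mul_zero, sub_zero]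

lemma exists_fr : ∃ u v, Fr d u v := by
  have h3 := hD.three
  let p : Fin 3 → Fin k := Fin.castLE h3
  set E : Fin 3 → Fin k → F := fun j => Pi.single (p j) 1
  have hEE : ∀ j j', fd d (E j) (E j') = if j = j' then d (p j) else 0 := fun j j' => by
    simp only [E, fd_single_right, Pi.single_apply, (Fin.castLE_injective h3).eq_iff, p]
    rcases eq_or_ne j j' with rfl | h
    · simp
    · simp [h, h.symm]
  obtain ⟨s, t, hst⟩ := exists_norm hD (a := E 0) (b := E 1) (by simp [hEE, hD.ne]) (by simp [hEE, hD.ne])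
    (by simp [hEE]) (-d (p 2))
  obtain ⟨y, hy⟩ := exists_fr_of hD (x := s • E 0 + t • E 1 + E 2) (fun e => by
    have := congrFun e (p 2)
    simp [E, p, (Fin.castLE_injective h3).eq_iff] at this) (by
    simp only [fd_add_left, fd_add_right, fd_smul_left, fd_smul_right, hEE] at hst ⊢
    simp at hst ⊢
    linear_combination hst)
  exact ⟨_, y, hy⟩

end dat

end CfsgLib.Geo.TensorPow.O
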