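/-
Overgroups of the squares of the isometries of a tensor power decomposition: the members of the factors.
-/
import Cfsg.Agent.Geo.TensorPow.O.Frame

set_option autoImplicit false
set_option linter.unusedSectionVars false

namespace CfsgLib.Geo.TensorPow.O

open Matrix Cfsg.Geo CfsgLib.Aschbacher
open scoped MatrixGroups

variable {F : Type*} [Field F]

section general

variable {ι : Type} [Fintype ι] [DecidableEq ι]

/-- The subgroup generated by the squares of the isometries. -/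
def sqG (e : ι → F) : Subgroup (GL ι F) := Subgroup.closure ((fun h => h * h) '' (isoG e : Set (GL ι F)))

lemma sqG_le (e : ι → F) : sqG e ≤ isoG e :=
  (Subgroup.closure_le _).2 (Set.image_subset_iff.2 fun h hh => (isoG e).mul_mem hh hh)

lemma sq_mem_sqG {e : ι → F} {h : GL ι F} (hh : h ∈ isoG e) : h * h ∈ sqG e :=
  Subgroup.subset_closure ⟨h, hh, rfl⟩

variable {e : ι → F} {M : Subgroup (GL ι F)}

/-- The group contains the Eichler transformation. -/
def InA (e : ι → F) (M : Subgroup (GL ι F)) (x a : ι → F) : Prop := ∃ g ∈ M, (g : Matrix ι ι F) = eich e x a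

/-- The group contains every Eichler transformation at the vector. -/
def FullAt (e : ι → F) (M : Subgroup (GL ι F)) (x : ι → F) : Prop := ∀ a, fd e x a = 0 → InA e M x a

/-- Full root groups at two vectors which are not orthogonal. -/
def TwoFull (e : ι → F) (M : Subgroup (GL ι F)) : Prop :=
  ∃ x y, fd e x x = 0 ∧ fd e y y = 0 ∧ fd e x y ≠ 0 ∧ FullAt e M x ∧ FullAt e M y

lemma eich_mem_sqG {x a : ι → F} (h2 : (2 : F) ≠ 0) (he : ∀ i, e i ≠ 0) (hx : fd e x x = 0) (ha : fd e x a = 0) :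
    ∃ g ∈ sqG e, (g : Matrix ι ι F) = eich e x a := by
  have ha' : fd e x ((2 : F)⁻¹ • a) = 0 := by rw [fd_smul_right, ha, mul_zero]
  obtain ⟨g, hg, hgv⟩ := exists_eich h2 he hx ha'
  refine ⟨g * g, sq_mem_sqG hg, ?_⟩
  rw [Units.val_mul, hgv, eich_mul h2 hx ha' ha', ← add_smul, show (2 : F)⁻¹ + 2⁻¹ = 1 by field_simp; norm_num,
    one_smul]

lemma InA.zero (x : ι → F) : InA e M x 0 := ⟨1, M.one_mem, by rw [eich_zero]; rfl⟩

lemma InA.add {x a b : ι → F} (h2 : (2 : F) ≠ 0) (hx : fd e x x = 0) (ha : fd e x a = 0) (hb : fd e x b = 0)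
    (h : InA e M x a) (h' : InA e M x b) : InA e M x (a + b) := by
  obtain ⟨g, hg, hgv⟩ := h
  obtain ⟨g', hg', hgv'⟩ := h'
  exact ⟨g * g', M.mul_mem hg hg', by rw [Units.val_mul, hgv, hgv', eich_mul h2 hx ha hb]⟩

lemma InA.neg {x a : ι → F} (h2 : (2 : F) ≠ 0) (hx : fd e x x = 0) (ha : fd e x a = 0) (h : InA e M x a) :
    InA e M x (-a) := by
  obtain ⟨g, hg, hgv⟩ := h
  exact ⟨g⁻¹, M.inv_mem hg, Units.inv_eq_of_mul_eq_one_right (by rw [hgv, eich_neg h2 hx ha])⟩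

lemma InA.conj {x a : ι → F} (he : ∀ i, e i ≠ 0) (hM : M ≤ isoG e) (h : InA e M x a) {g : GL ι F} (hg : g ∈ M) :
    InA e M ((g : Matrix ι ι F) *ᵥ x) ((g : Matrix ι ι F) *ᵥ a) := by
  obtain ⟨y, hy, hyv⟩ := h
  exact ⟨g * y * g⁻¹, M.mul_mem (M.mul_mem hg hy) (M.inv_mem hg), by
    rw [Units.val_mul, Units.val_mul, hyv, conj_eich he (hM hg)]⟩

lemma InA.smul_left {x a : ι → F} (c : F) (h : InA e M (c • x) a) : InA e M x (c • a) := by
  obtain ⟨g, hg, hgv⟩ := h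
  exact ⟨g, hg, by rw [hgv, eich_smul_left]⟩

lemma InA.add_line {x a : ι → F} (h2 : (2 : F) ≠ 0) (hx : fd e x x = 0) (ha : fd e x a = 0) (c : F) :
    InA e M x (a + c • x) ↔ InA e M x a := by
  rw [InA, InA, eich_add_line hx ha c h2]

end general

section one

variable {k : ℕ} [Fintype F] {d u v : Fin k → F}

/-- A torus element of a pair. -/
lemma exists_torus (hd : ∀ p, d p ≠ 0) (hf : Fr d u v) {c : F} (hc : c ≠ 0) :
    ∃ g ∈ isoG d, (g : Matrix (Fin k) (Fin k) F) *ᵥ u = c • u ∧ (g : Matrix (Fin k) (Fin k) F) *ᵥ v = c⁻¹ • v ∧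
      ∀ m ∈ Pp d u v, (g : Matrix (Fin k) (Fin k) F) *ᵥ m = m := by
  set T : F → Matrix (Fin k) (Fin k) F := fun c => 1 + (c - 1) • vd d u v + (c⁻¹ - 1) • vd d v u with hT
  have hmul : ∀ a b, a ≠ 0 → b ≠ 0 → T a * T b = T (a * b) := fun a b ha hb => by
    simp only [hT, add_mul, mul_add, one_mul, mul_one, smul_mul_smul_comm, vd_mul_vd, hf.uu, hf.vv, hf.uv, hf.vu,
      zero_smul, smul_zero, one_smul, add_zero, zero_add, mul_inv]
    match_scalars <;> ring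
  have h1 : T 1 = 1 := by simp [hT]
  have hsa : ∀ a, sa d (T a) = T a⁻¹ := fun a => by
    simp only [hT, sa_add, sa_smul, sa_one hd, sa_vd hd, inv_inv]; abel
  refine ⟨⟨T c, T c⁻¹, by rw [hmul _ _ hc (inv_ne_zero hc), mul_inv_cancel₀ hc, h1],
    by rw [hmul _ _ (inv_ne_zero hc) hc, inv_mul_cancel₀ hc, h1]⟩, (mem_isoG hd).2 ?_, ?_, ?_, ?_⟩
  · show sa d (T c) * T c = 1
    rw [hsa, hmul _ _ (inv_ne_zero hc) hc, inv_mul_cancel₀ hc, h1]
  · show T c *ᵥ u = _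
    simp [hT, Matrix.add_mulVec, Matrix.sub_mulVec, Matrix.smul_mulVec, vd_mulVec, hf.uu, hf.vu, sub_smul]
  · show T c *ᵥ v = _
    simp [hT, Matrix.add_mulVec, Matrix.sub_mulVec, Matrix.smul_mulVec, vd_mulVec, hf.vv, hf.uv, sub_smul]
  · intro m hm
    show T c *ᵥ m = _
    simp [hT, Matrix.add_mulVec, Matrix.smul_mulVec, vd_mulVec, hm.1, hm.2]

lemma exists_torus_sq (hd : ∀ p, d p ≠ 0) (hf : Fr d u v) {c : F} (hc : c ≠ 0) :
    ∃ g ∈ sqG d, (g : Matrix (Fin k) (Fin k) F) *ᵥ u = (c * c) • u ∧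
      (g : Matrix (Fin k) (Fin k) F) *ᵥ v = (c * c)⁻¹ • v ∧
      ∀ m ∈ Pp d u v, (g : Matrix (Fin k) (Fin k) F) *ᵥ m = m := by
  obtain ⟨g, hg, h1, h2, h3⟩ := exists_torus hd hf hc
  refine ⟨g * g, sq_mem_sqG hg, ?_, ?_, fun m hm => ?_⟩
  · rw [CfsgLib.Geo.mul_mulVec, h1, Matrix.mulVec_smul, h1, smul_smul]
  · rw [CfsgLib.Geo.mul_mulVec, h2, Matrix.mulVec_smul, h2, smul_smul, mul_inv]
  · rw [CfsgLib.Geo.mul_mulVec, h3 m hm, h3 m hm]

/-- The exchange of the lines of a pair. -/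
lemma exists_weyl (hD : Dat d) (hf : Fr d u v) {n : Fin k → F} (hn : n ∈ Pp d u v) (hnn : fd d n n ≠ 0) :
    ∃ g ∈ sqG d, (g : Matrix (Fin k) (Fin k) F) *ᵥ u = -(fd d n n / 2) • v ∧
      (g : Matrix (Fin k) (Fin k) F) *ᵥ v = -(2 / fd d n n) • u ∧ (g : Matrix (Fin k) (Fin k) F) *ᵥ n = -n ∧
      ∀ m ∈ Pp d u v, fd d n m = 0 → (g : Matrix (Fin k) (Fin k) F) *ᵥ m = m := by
  have h2 := hD.two
  obtain ⟨g1, hg1, hv1⟩ := eich_mem_sqG h2 hD.ne hf.vv hn.2
  obtain ⟨g2, hg2, hv2⟩ := eich_mem_sqG h2 hD.ne hf.uu (a := (2 / fd d n n) • n)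
    (by rw [fd_smul_right, hn.1, mul_zero])
  refine ⟨g1 * g2 * g1, (sqG d).mul_mem ((sqG d).mul_mem hg1 hg2) hg1, ?_⟩
  have e : ∀ z, ((g1 * g2 * g1 : GL (Fin k) F) : Matrix (Fin k) (Fin k) F) *ᵥ z =
      eich d v n *ᵥ (eich d u ((2 / fd d n n) • n) *ᵥ (eich d v n *ᵥ z)) := fun z => by
    rw [CfsgLib.Geo.mul_mulVec, CfsgLib.Geo.mul_mulVec, hv1, hv2]
  have hnu : fd d n u = 0 := by rw [fd_symm, hn.1]
  have hnv : fd d n v = 0 := by rw [fd_symm, hn.2]
  refine ⟨?_, ?_, ?_, fun m hm hnm => ?_⟩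
  all_goals
    rw [e]
    simp only [eich_mulVec, fd_add_right, fd_sub_right, fd_smul_right, fd_smul_left, hf.uu, hf.vv, hf.uv, hf.vu,
      hn.1, hn.2, hnu, hnv]
  · match_scalars <;> field_simp <;> ring
  · match_scalars <;> field_simp <;> ring
  · match_scalars <;> field_simp <;> ring
  · simp only [hm.1, hm.2, hnm]
    match_scalars <;> field_simp <;> ring

/-- The sign change on two orthogonal vectors of equal norm. -/
lemma exists_flip (hd : ∀ p, d p ≠ 0) {n c : Fin k → F} (hnn : fd d n n ≠ 0) (hcc : fd d c c = fd d n n)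
    (hnc : fd d n c = 0) :
    ∃ g ∈ sqG d, (g : Matrix (Fin k) (Fin k) F) = 1 - (2 / fd d n n) • (vd d n n + vd d c c) := by
  set h := fd d n n with hh
  have hcn : fd d c n = 0 := by rw [fd_symm, hnc]
  set R : F → Matrix (Fin k) (Fin k) F := fun s => 1 + (s / h) • wg d c n - h⁻¹ • (vd d n n + vd d c c) with hR
  have hRR : R (-1) * R 1 = 1 ∧ R 1 * R (-1) = 1 ∧ R 1 * R 1 = 1 - (2 / h) • (vd d n n + vd d c c) := by
    simp only [hR, wg, add_mul, mul_add, sub_mul, mul_sub, smul_add, smul_sub, smul_mul_smul_comm, mul_one,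
      one_mul, smul_mul_assoc, mul_smul_comm, smul_smul, vd_mul_vd, hcn, hnc, hcc, ← hh, zero_smul, smul_zero]
    refine ⟨?_, ?_, ?_⟩ <;> match_scalars <;> field_simp <;> ring
  have hsa : sa d (R 1) = R (-1) := by
    simp only [hR, sa_add, sa_sub, sa_smul, sa_one hd, sa_wg hd, sa_vd hd, smul_neg, neg_div, neg_smul]
  let g : GL (Fin k) F := ⟨R 1, R (-1), hRR.2.1, hRR.1⟩
  exact ⟨g * g, sq_mem_sqG ((mem_isoG hd).2 (by show sa d (R 1) * R 1 = 1; rw [hsa, hRR.1])), hRR.2.2⟩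

/-- The reflection. -/
lemma exists_refl (hd : ∀ p, d p ≠ 0) {n : Fin k → F} (hnn : fd d n n ≠ 0) :
    ∃ g ∈ isoG d, (g : Matrix (Fin k) (Fin k) F) = 1 - (2 / fd d n n) • vd d n n := by
  set R : Matrix (Fin k) (Fin k) F := 1 - (2 / fd d n n) • vd d n n with hR
  have hRR : R * R = 1 := by
    simp only [hR, mul_sub, sub_mul, one_mul, mul_one, smul_mul_smul_comm, vd_mul_vd, smul_smul]
    match_scalars <;> field_simp <;> ring
  refine ⟨⟨R, R, hRR, hRR⟩, (mem_isoG hd).2 ?_, rfl⟩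
  show sa d R * R = 1
  rw [show sa d R = R by simp only [hR, sa_sub, sa_one hd, sa_smul, sa_vd hd], hRR]

end one

section tensor

variable {t k : ℕ} [Fintype F] {d : Fin k → F} {M : Subgroup (GL (Fin t → Fin k) F)}

/-- An overgroup among the isometries of the squares of the stabiliser. -/
structure Base (d : Fin k → F) (M : Subgroup (GL (Fin t → Fin k) F)) : Prop where
  iso : M ≤ isoG (dt d t)
  sq : ∀ x ∈ tensorWreathStandard k t F ⊓ isoG (dt d t), x * x ∈ M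
  full : Even k → 3 ≤ t → ∀ i, ∀ h ∈ isoG d, slotU i h ∈ M

/-- An overgroup without two full root groups. -/
structure Bad (d : Fin k → F) (M : Subgroup (GL (Fin t → Fin k) F)) : Prop extends Base d M where
  nfull : 2 ≤ t → ¬ TwoFull (dt d t) M

lemma slotU_iso (hd : ∀ p, d p ≠ 0) (i : Fin t) {h : GL (Fin k) F} (hh : h ∈ isoG d) :
    slotU i h ∈ isoG (dt d t) :=
  (mem_isoG (dt_ne hd)).2 (by rw [slotU_val, sa_slot hd, slot_mul, (mem_isoG hd).1 hh, slot_one])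

lemma permUnit_iso (hd : ∀ p, d p ≠ 0) (σ : Equiv.Perm (Fin t)) : permUnit k σ ∈ isoG (dt d t) :=
  (mem_isoG (dt_ne hd)).2 (by
    show sa (dt d t) (permMat k σ) * permMat k σ = 1
    rw [sa_permMat hd]
    simpa using permMat_mul_inv (m := k) (F := F) σ.symm)

lemma permUnit_mem_wreath (σ : Equiv.Perm (Fin t)) : permUnit k σ ∈ (tensorWreathStandard k t F) :=
  Subgroup.subset_closure (Or.inr ⟨σ, fun _ _ => rfl⟩)

variable (hM : Base d M) (hd : ∀ p, d p ≠ 0)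
include hM hd

lemma Base.slot_sq (i : Fin t) {g : GL (Fin k) F} (hg : g ∈ sqG d) : slotU i g ∈ M := by
  induction hg using Subgroup.closure_induction with
  | mem x hx =>
    obtain ⟨h, hh, rfl⟩ := hx
    rw [map_mul]
    exact hM.sq _ ⟨slotU_mem_wreath i h, slotU_iso hd i hh⟩
  | one => rw [map_one]; exact M.one_mem
  | mul x y _ _ hx hy => rw [map_mul]; exact M.mul_mem hx hy
  | inv x _ hx => rw [map_inv]; exact M.inv_mem hx

lemma Base.perm_sq (σ : Equiv.Perm (Fin t)) : Mem M (permMat k (σ * σ)) := by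
  refine ⟨permUnit k σ * permUnit k σ, hM.sq _ ⟨permUnit_mem_wreath σ, permUnit_iso hd σ⟩, ?_⟩
  show permMat k σ * permMat k σ = _
  rw [permMat_mul]

lemma Base.mem_iso {X : Mt t k F} (h : Mem M X) : sa (dt d t) X * X = 1 := by
  obtain ⟨g, hg, rfl⟩ := h
  exact (mem_isoG (dt_ne hd)).1 (hM.iso hg)

end tensor

end CfsgLib.Geo.TensorPow.O
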