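/-
Combinations of conjugations of the matrices of one factor.
-/
import Cfsg.Agent.Geo.TensorPow.O.Base

set_option autoImplicit false
set_option linter.unusedSectionVars false

namespace CfsgLib.Geo.TensorPow.O

open Matrix Cfsg.Geo CfsgLib.Aschbacher
open scoped MatrixGroups

variable {F : Type*} [Field F] {t k : ℕ} {d u v : Fin k → F}

lemma slotU_inv_val (l : Fin t) (g : GL (Fin k) F) :
    (((slotU l g)⁻¹ : GL (Fin t → Fin k) F) : Mt t k F) = slot l ((g⁻¹ : GL (Fin k) F) : Matrix (Fin k) (Fin k) F) := by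
  rw [← map_inv, slotU_val]

lemma sl_update_left (i : Fin t) (p : Fin k) (X : Mt t k F) (x y : Fin t → Fin k) :
    sl i X (Function.update x i p) y = sl i X x y := Matrix.ext fun a b => by simp [sl_apply]

lemma sl_update_right (i : Fin t) (p : Fin k) (X : Mt t k F) (x y : Fin t → Fin k) :
    sl i X x (Function.update y i p) = sl i X x y := Matrix.ext fun a b => by simp [sl_apply]

lemma sl_slot_mul [NeZero k] (i : Fin t) (A : Matrix (Fin k) (Fin k) F) (X : Mt t k F) (x y : Fin t → Fin k) :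
    sl i (slot i A * X) x y = A * sl i X x y := by
  rw [sl_mul i 0, Finset.sum_eq_single (Function.update x i 0)]
  · rw [sl_slot, if_pos fun l hl => by simp [Function.update_of_ne hl], sl_update_left]
  · intro z hz hne
    rw [Finset.mem_filter] at hz
    rw [sl_slot, if_neg, zero_mul]
    intro h
    refine hne (funext fun l => ?_)
    rcases eq_or_ne l i with rfl | hl
    · simp [hz.2]
    · simp [Function.update_of_ne hl, h l hl]
  · simp

lemma sl_mul_slot [NeZero k] (i : Fin t) (A : Matrix (Fin k) (Fin k) F) (X : Mt t k F) (x y : Fin t → Fin k) :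
    sl i (X * slot i A) x y = sl i X x y * A := by
  rw [sl_mul i 0, Finset.sum_eq_single (Function.update y i 0)]
  · rw [sl_slot, if_pos fun l hl => by simp [Function.update_of_ne hl], sl_update_right]
  · intro z hz hne
    rw [Finset.mem_filter] at hz
    rw [sl_slot, if_neg, mul_zero]
    intro h
    refine hne (funext fun l => ?_)
    rcases eq_or_ne l i with rfl | hl
    · simp [hz.2]
    · simp [Function.update_of_ne hl, h l hl]
  · simp

lemma sl_cj_slotU [NeZero k] (i : Fin t) (g : GL (Fin k) F) (X : Mt t k F) (x y : Fin t → Fin k) :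
    sl i (cj (slotU i g) X) x y =
      (g : Matrix (Fin k) (Fin k) F) * sl i X x y * ((g⁻¹ : GL (Fin k) F) : Matrix (Fin k) (Fin k) F) := by
  rw [cj, slotU_inv_val, slotU_val, sl_mul_slot, sl_slot_mul]

lemma com_cj_slotU {r l : Fin t} (h : r ≠ l) (g : GL (Fin k) F) {X : Mt t k F} (hX : Com r X) :
    Com r (cj (slotU l g) X) := by
  rw [cj, slotU_inv_val, slotU_val]
  exact ((com_slot h _).mul hX).mul (com_slot h _)

/-- Sums of conjugations by a group and their compositions. -/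
inductive Op (G : Subgroup (GL (Fin k) F)) : (Matrix (Fin k) (Fin k) F → Matrix (Fin k) (Fin k) F) → Prop
  | conj {g : GL (Fin k) F} (h : g ∈ G) :
      Op G fun X => (g : Matrix (Fin k) (Fin k) F) * X * ((g⁻¹ : GL (Fin k) F) : Matrix (Fin k) (Fin k) F)
  | add {φ ψ : Matrix (Fin k) (Fin k) F → Matrix (Fin k) (Fin k) F} :
      Op G φ → Op G ψ → Op G fun X => φ X + ψ X
  | sub {φ ψ : Matrix (Fin k) (Fin k) F → Matrix (Fin k) (Fin k) F} :
      Op G φ → Op G ψ → Op G fun X => φ X - ψ X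
  | comp {φ ψ : Matrix (Fin k) (Fin k) F → Matrix (Fin k) (Fin k) F} :
      Op G φ → Op G ψ → Op G fun X => φ (ψ X)

lemma Op.id' (G : Subgroup (GL (Fin k) F)) : Op G fun X => X := by
  have h := Op.conj G.one_mem
  simpa using h

lemma Op.congr {G : Subgroup (GL (Fin k) F)} {φ ψ : Matrix (Fin k) (Fin k) F → Matrix (Fin k) (Fin k) F}
    (h : Op G φ) (he : ∀ X, ψ X = φ X) : Op G ψ := by rwa [funext he]

lemma Op.apply [NeZero k] {G : Subgroup (GL (Fin k) F)} {l : Fin t} {K : AddSubgroup (Mt t k F)}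
    (hK : ∀ g ∈ G, ∀ X ∈ K, cj (slotU l g) X ∈ K)
    {φ : Matrix (Fin k) (Fin k) F → Matrix (Fin k) (Fin k) F} (h : Op G φ) :
    ∀ C ∈ K, ∃ C' ∈ K, (∀ x y, sl l C' x y = φ (sl l C x y)) ∧ ∀ r, r ≠ l → Com r C → Com r C' := by
  induction h with
  | @conj g hg =>
    exact fun C hC => ⟨_, hK g hg C hC, fun x y => sl_cj_slotU l g C x y, fun r hr hc => com_cj_slotU hr g hc⟩
  | add _ _ h1 h2 =>
    intro C hC
    obtain ⟨A, hA, hA1, hA2⟩ := h1 C hC
    obtain ⟨B, hB, hB1, hB2⟩ := h2 C hC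
    exact ⟨A + B, K.add_mem hA hB, fun x y => by rw [sl_add, hA1, hB1],
      fun r hr hc => (hA2 r hr hc).add (hB2 r hr hc)⟩
  | sub _ _ h1 h2 =>
    intro C hC
    obtain ⟨A, hA, hA1, hA2⟩ := h1 C hC
    obtain ⟨B, hB, hB1, hB2⟩ := h2 C hC
    exact ⟨A - B, K.sub_mem hA hB, fun x y => by rw [sl_sub, hA1, hB1],
      fun r hr hc => (hA2 r hr hc).sub (hB2 r hr hc)⟩
  | comp _ _ h1 h2 =>
    intro C hC
    obtain ⟨B, hB, hB1, hB2⟩ := h2 C hC
    obtain ⟨A, hA, hA1, hA2⟩ := h1 B hB
    exact ⟨A, hA, fun x y => by rw [hA1, hB1], fun r hr hc => hA2 r hr (hB2 r hr hc)⟩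

/-- The conjugation by an Eichler element at `u`. -/
def ad (d u m : Fin k → F) (X : Matrix (Fin k) (Fin k) F) : Matrix (Fin k) (Fin k) F :=
  eich d u m * X * eich d u (-m)

lemma ad_eq (d u m : Fin k → F) (X : Matrix (Fin k) (Fin k) F) :
    ad d u m X = X + (wg d m u * X - X * wg d m u) - wg d m u * X * wg d m u -
      (fd d m m / 2) • (vd d u u * X + X * vd d u u) +
      (fd d m m / 2) • (vd d u u * X * wg d m u - wg d m u * X * vd d u u) +
      (fd d m m / 2 * (fd d m m / 2)) • (vd d u u * X * vd d u u) := by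
  rw [ad, eich, eich, fd_neg_left, fd_neg_right, neg_neg, ← neg_one_smul F m, wg_smul_left]
  simp only [add_mul, mul_add, sub_mul, mul_sub, one_mul, mul_one, smul_mul_assoc, mul_smul_comm, neg_one_smul,
    neg_mul, mul_neg]
  module

lemma z_sandwich (hd : ∀ p, d p ≠ 0) (X : Matrix (Fin k) (Fin k) F) :
    vd d u u * X * vd d u u = fd d u (X *ᵥ u) • vd d u u := by
  rw [mul_assoc, mul_vd, vd_mul_vd]

/-- The mixed part of the conjugation. -/
lemma ad_mixed (h2 : (2 : F) ≠ 0) (d u a b : Fin k → F) (X : Matrix (Fin k) (Fin k) F) :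
    ad d u (a + b) X - ad d u a X - ad d u b X + X =
      -(wg d a u * X * wg d b u + wg d b u * X * wg d a u) - fd d a b • (vd d u u * X + X * vd d u u) +
      (fd d a a / 2 + fd d a b) • (vd d u u * X * wg d b u - wg d b u * X * vd d u u) +
      (fd d b b / 2 + fd d a b) • (vd d u u * X * wg d a u - wg d a u * X * vd d u u) +
      ((fd d a a / 2 + fd d b b / 2 + fd d a b) * (fd d a a / 2 + fd d b b / 2 + fd d a b) -
        fd d a a / 2 * (fd d a a / 2) - fd d b b / 2 * (fd d b b / 2)) • (vd d u u * X * vd d u u) := by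
  simp only [ad_eq, wg_add_left, fd_add_left, fd_add_right, fd_symm d a b, add_mul, mul_add]
  match_scalars <;> field_simp <;> ring

variable [Fintype F] (hD : Dat d)
include hD

lemma op_ad (hf : Fr d u v) {m : Fin k → F} (hm : m ∈ Pp d u v) : Op (sqG d) (ad d u m) := by
  obtain ⟨g, hg, hgv⟩ := eich_mem_sqG hD.two hD.ne hf.uu hm.1
  refine (Op.conj hg).congr fun X => ?_
  rw [ad, hgv, Units.inv_eq_of_mul_eq_one_right (by
    rw [hgv, eich_neg hD.two hf.uu hm.1] : (g : Matrix (Fin k) (Fin k) F) * eich d u (-m) = 1)]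

lemma exists_scale (h5 : 5 ≤ Fintype.card F) : ∃ s : F, s ≠ 0 ∧ s * s ≠ 1 := by
  classical
  obtain ⟨s, -, hs⟩ := Finset.exists_mem_notMem_of_card_lt_card (s := ({0, 1, -1} : Finset F)) (t := Finset.univ)
    (Finset.card_le_three.trans_lt (by rw [Finset.card_univ]; omega))
  simp only [Finset.mem_insert, Finset.mem_singleton, not_or] at hs
  exact ⟨s, hs.1, fun e => by
    rcases mul_self_eq_one_iff.1 e with h | h
    · exact hs.2.1 h
    · exact hs.2.2 h⟩

/-- A combination of conjugations with one matrix as image. -/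
theorem exists_phi (hf : Fr d u v) : ∃ (φ : Matrix (Fin k) (Fin k) F → Matrix (Fin k) (Fin k) F) (κ : F),
    κ ≠ 0 ∧ Op (sqG d) φ ∧ ∀ X, φ X = (κ * fd d u (X *ᵥ u)) • vd d u u := by
  have h2 := hD.two
  obtain ⟨n, hn, hnn⟩ := hf.exists_aniso hD
  let G : (Fin k → F) → (Fin k → F) → Matrix (Fin k) (Fin k) F → Matrix (Fin k) (Fin k) F := fun a b X =>
    ad d u (a + b) X - ad d u a X - ad d u b X + X
  have hG : ∀ a b, a ∈ Pp d u v → b ∈ Pp d u v → Op (sqG d) (G a b) := fun a b ha hb =>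
    (((op_ad hD hf ((Pp d u v).add_mem ha hb)).sub (op_ad hD hf ha)).sub (op_ad hD hf hb)).add (Op.id' _)
  by_cases h3 : k = 3
  · obtain ⟨s, hs0, hs1⟩ := exists_scale hD (hD.five h3)
    have hne : s - s⁻¹ ≠ 0 := fun e => hs1 (by
      rw [sub_eq_zero] at e; nth_rw 2 [e]; exact mul_inv_cancel₀ hs0)
    have hS := fun c : F => (Pp d u v).smul_mem c hn
    refine ⟨fun X => (G (s • n) (s⁻¹ • n) X + G ((-s) • n) ((-s⁻¹) • n) X) -
        (G ((1 : F) • n) ((1 : F) • n) X + G ((-1 : F) • n) ((-1 : F) • n) X),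
      2 * (s - s⁻¹) * (s - s⁻¹) * fd d n n * fd d n n,
      mul_ne_zero (mul_ne_zero (mul_ne_zero (mul_ne_zero h2 hne) hne) hnn) hnn,
      ((hG _ _ (hS _) (hS _)).add (hG _ _ (hS _) (hS _))).sub ((hG _ _ (hS _) (hS _)).add (hG _ _ (hS _) (hS _))),
      fun X => ?_⟩
    simp only [G, ad_mixed h2, wg_smul_left, fd_smul_left, fd_smul_right, smul_mul_assoc, mul_smul_comm,
      z_sandwich hD.ne, smul_smul]
    match_scalars <;> field_simp <;> ring
  · obtain ⟨c, hc, hcc, hnc⟩ := hf.exists_orth hD (by have := hD.three; omega) hn hnn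
    refine ⟨fun X => (G n c X + G n (-c) X) + (G (-n) c X + G (-n) (-c) X), 2 * fd d n n * fd d c c,
      mul_ne_zero (mul_ne_zero h2 hnn) hcc,
      ((hG _ _ hn hc).add (hG _ _ hn ((Pp d u v).neg_mem hc))).add
        ((hG _ _ ((Pp d u v).neg_mem hn) hc).add (hG _ _ ((Pp d u v).neg_mem hn) ((Pp d u v).neg_mem hc))),
      fun X => ?_⟩
    simp only [G, ad_mixed h2, ← neg_one_smul F n, ← neg_one_smul F c, wg_smul_left, fd_smul_left, fd_smul_right,
      smul_mul_assoc, mul_smul_comm, z_sandwich hD.ne, smul_smul, hnc]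
    match_scalars <;> field_simp <;> ring

/-- The second difference kills the scalars and detects the orthogonal part of the image of `u`. -/
theorem exists_second (hf : Fr d u v) {n : Fin k → F} (hn : n ∈ Pp d u v) :
    ∃ φ : Matrix (Fin k) (Fin k) F → Matrix (Fin k) (Fin k) F, Op (sqG d) φ ∧
      ∀ (X : Matrix (Fin k) (Fin k) F) (σ : F), sa d X = σ • 1 - X → fd d u (X *ᵥ u) = 0 →
        φ X = wg d ((4 * fd d n (X *ᵥ u)) • n - (2 * fd d n n) • prj d u v (X *ᵥ u)) u := by
  have hS := fun c : F => op_ad hD hf ((Pp d u v).smul_mem c hn)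
  refine ⟨fun X => ((ad d u ((2 : F) • n) X + ad d u ((-2 : F) • n) X) -
      (ad d u ((1 : F) • n) X + ad d u ((1 : F) • n) X) -
      (ad d u ((-1 : F) • n) X + ad d u ((-1 : F) • n) X)) + (X + X),
    ((((hS _).add (hS _)).sub ((hS _).add (hS _))).sub ((hS _).add (hS _))).add ((Op.id' _).add (Op.id' _)),
    fun X σ hX hu => ?_⟩
  have h2 := hD.two
  have hnu : fd d n u = 0 := by rw [fd_symm, hn.1]
  have hXn : fd d u (X *ᵥ n) = -fd d n (X *ᵥ u) := by
    rw [fd_symm, fd_mulVec hD.ne, hX, Matrix.sub_mulVec, Matrix.smul_mulVec, Matrix.one_mulVec, fd_sub_right,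
      fd_smul_right, hnu, mul_zero, zero_sub]
  have hnXn : fd d n (X *ᵥ n) + fd d n (X *ᵥ n) = σ * fd d n n := by
    conv_lhs => arg 2; rw [fd_symm, fd_mulVec hD.ne, hX, Matrix.sub_mulVec, Matrix.smul_mulVec, Matrix.one_mulVec,
      fd_sub_right, fd_smul_right]
    ring
  have hzx : vd d u u * X + X * vd d u u = σ • vd d u u + wg d (prj d u v (X *ᵥ u)) u := by
    rw [vd_mul hD.ne, mul_vd, hX, Matrix.sub_mulVec, Matrix.smul_mulVec, Matrix.one_mulVec, vd_sub_right,
      vd_smul_right, wg]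
    nth_rw 1 2 [prj_decomp (d := d) (u := u) (v := v) (X *ᵥ u)]
    simp only [hu, vd_add_left, vd_add_right, vd_smul_left, vd_smul_right]
    module
  have hnxn : wg d n u * X * wg d n u = -fd d n (X *ᵥ u) • wg d n u - (σ * fd d n n / 2) • vd d u u := by
    simp only [wg, mul_sub, sub_mul, mul_assoc, mul_vd, vd_mulVec, vd_smul_left, hXn, hu]
    rw [show fd d n (X *ᵥ n) = σ * fd d n n / 2 by field_simp; linear_combination hnXn]
    module
  simp only [ad_eq, wg_smul_left, fd_smul_left, fd_smul_right, smul_mul_assoc, mul_smul_comm, z_sandwich hD.ne,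
    hu, hzx, hnxn, smul_smul, ← wg_smul_left, zero_smul, smul_zero]
  rw [sub_eq_add_neg ((4 * fd d n (X *ᵥ u)) • n), ← neg_smul, wg_add_left]
  simp only [wg_smul_left, smul_mul_assoc, mul_smul_comm, hnxn, hzx, smul_smul]
  match_scalars <;> field_simp <;> ring

/-- A combination sending the linear part at an anisotropic vector to any other. -/
theorem exists_swing (hf : Fr d u v) {n m : Fin k → F} (hn : n ∈ Pp d u v) (hnn : fd d n n ≠ 0)
    (hm : m ∈ Pp d u v) : ∃ φ : Matrix (Fin k) (Fin k) F → Matrix (Fin k) (Fin k) F, Op (sqG d) φ ∧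
      ∀ c : F, φ (c • wg d n u) = c • wg d m u := by
  have h2 := hD.two
  have hn' : n ∈ Pp d v u := by rw [Pp_swap]; exact hn
  set r := -(4 * fd d n n)⁻¹ with hr
  have hm' := (Pp d u v).smul_mem r hm
  refine ⟨fun X => ad d u (r • m) (ad d v n X - ad d v (-n) X) - ad d u (-(r • m)) (ad d v n X - ad d v (-n) X),
    ((op_ad hD hf hm').comp ((op_ad hD hf.swap hn').sub (op_ad hD hf.swap ((Pp d v u).neg_mem hn')))).sub
      ((op_ad hD hf ((Pp d u v).neg_mem hm')).comp
        ((op_ad hD hf.swap hn').sub (op_ad hD hf.swap ((Pp d v u).neg_mem hn')))),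
    fun c => ?_⟩
  have key : ∀ {x y a : Fin k → F}, Fr d x y → a ∈ Pp d x y → ∀ p q : Fin k → F,
      ad d x a (wg d p q) = wg d (eich d x a *ᵥ p) (eich d x a *ᵥ q) := fun {x y a} hxy ha p q => by
    obtain ⟨g, hg, hgv⟩ := exists_eich h2 hD.ne hxy.uu ha.1
    rw [← hgv, ← conj_wg hD.ne hg, ad, hgv]
    congr 1
    rw [inv_eq_sa hD.ne hg, hgv, sa_eich hD.ne]
  have hlin : ∀ (a : Fin k → F) (c : F) X, ad d v a (c • X) = c • ad d v a X := fun a c X => by
    simp [ad, mul_smul_comm, smul_mul_assoc]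
  have hlin' : ∀ (a : Fin k → F) (c : F) X, ad d u a (c • X) = c • ad d u a X := fun a c X => by
    simp [ad, mul_smul_comm, smul_mul_assoc]
  have hvu := hf.vu
  have hnu : fd d n u = 0 := by rw [fd_symm, hn.1]
  have hnv : fd d n v = 0 := by rw [fd_symm, hn.2]
  have e1 : ad d v n (wg d n u) - ad d v (-n) (wg d n u) = (-(2 * fd d n n)) • wg d v u := by
    rw [key hf.swap hn', key hf.swap ((Pp d v u).neg_mem hn')]
    simp only [eich_mulVec, fd_neg_left, fd_neg_right, neg_neg, hn.2, hvu, hnu, wg, vd_add_left, vd_add_right,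
      vd_sub_left, vd_sub_right, vd_smul_left, vd_smul_right, vd_neg_left, vd_neg_right]
    match_scalars <;> field_simp <;> ring
  have hmu : fd d m u = 0 := by rw [fd_symm, hm.1]
  have hmv : fd d m v = 0 := by rw [fd_symm, hm.2]
  have e2 : ad d u (r • m) (wg d v u) - ad d u (-(r • m)) (wg d v u) = (2 * r) • wg d m u := by
    rw [key hf hm', key hf ((Pp d u v).neg_mem hm')]
    simp only [eich_mulVec, fd_neg_left, fd_neg_right, fd_smul_left, fd_smul_right, hf.uu, hf.uv, hmu, hmv, wg,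
      vd_add_left, vd_add_right, vd_sub_left, vd_sub_right, vd_smul_left, vd_smul_right, vd_neg_left, vd_neg_right]
    match_scalars <;> field_simp <;> ring
  simp only [hlin, ← smul_sub, e1, hlin', e2, smul_smul]
  rw [hr]
  congr 1
  have h4 : (4 : F) ≠ 0 := by rw [show (4 : F) = 2 * 2 by norm_num]; exact mul_ne_zero h2 h2
  field_simp
  ring

end CfsgLib.Geo.TensorPow.O
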