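/-
Reduction of the matrices of an invariant group to monomials.
-/
import Cfsg.Agent.Geo.TensorPow.O.Ops
import Cfsg.Agent.Geo.TensorPow.U.Fix

set_option autoImplicit false
set_option linter.unusedSectionVars false

namespace CfsgLib.Geo.TensorPow.O

open Matrix Cfsg.Geo CfsgLib.Aschbacher
open CfsgLib.Geo.TensorPow.U (inSlot_of_com)
open scoped MatrixGroups

variable {F : Type*} [Field F] {t k : ℕ} {d u v : Fin k → F}

lemma conj_smul_wg (hd : ∀ p, d p ≠ 0) {g : GL (Fin k) F} (hg : g ∈ isoG d)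
    (hu : (g : Matrix (Fin k) (Fin k) F) *ᵥ u = u) (c : F) (w : Fin k → F) :
    (g : Matrix (Fin k) (Fin k) F) * (c • wg d w u) * ((g⁻¹ : GL (Fin k) F) : Matrix (Fin k) (Fin k) F) =
      c • wg d ((g : Matrix (Fin k) (Fin k) F) *ᵥ w) u := by
  rw [mul_smul_comm, smul_mul_assoc, conj_wg hd hg, hu]

lemma com_of_slot_mul [NeZero k] {l r : Fin t} (hr : r ≠ l) {A : Matrix (Fin k) (Fin k) F} (hA : A ≠ 0)
    {γ : Mt t k F} (hγ : Com l γ) : ∃ p q, ∃ a : F, γ = a • cmp l p q (slot l A * γ) := by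
  obtain ⟨p, q, hpq⟩ : ∃ p q, A p q ≠ 0 := by
    by_contra hc; push Not at hc; exact hA (Matrix.ext hc)
  refine ⟨p, q, (A p q)⁻¹, sl_ext (i := l) fun x y => ?_⟩
  obtain ⟨c, hc⟩ := com_iff_sl.1 hγ x y
  rw [sl_smul, sl_cmp, sl_slot_mul, hc, mul_smul_comm, mul_one, smul_smul]
  simp [hpq, mul_comm c]

lemma Com.of_slot_mul [NeZero k] {l r : Fin t} (hr : r ≠ l) {A : Matrix (Fin k) (Fin k) F} (hA : A ≠ 0)
    {γ : Mt t k F} (hγ : Com l γ) (h : Com r (slot l A * γ)) : Com r γ := by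
  obtain ⟨p, q, a, hγ'⟩ := com_of_slot_mul hr hA hγ
  rw [hγ']
  exact (com_sum _ fun x _ => ((com_eu hr x p).mul h).mul (com_eu hr q x)).smul a

lemma Op.mono {G H : Subgroup (GL (Fin k) F)} (hGH : G ≤ H)
    {φ : Matrix (Fin k) (Fin k) F → Matrix (Fin k) (Fin k) F} (h : Op G φ) : Op H φ := by
  induction h with
  | conj hg => exact Op.conj (hGH hg)
  | add _ _ h1 h2 => exact h1.add h2
  | sub _ _ h1 h2 => exact h1.sub h2
  | comp _ _ h1 h2 => exact h1.comp h2

/-- The matrices fixing two vectors. -/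
def fix2 (u v : Fin k → F) : Subgroup (GL (Fin k) F) where
  carrier := {g | (g : Matrix (Fin k) (Fin k) F) *ᵥ u = u ∧ (g : Matrix (Fin k) (Fin k) F) *ᵥ v = v}
  one_mem' := ⟨Matrix.one_mulVec u, Matrix.one_mulVec v⟩
  mul_mem' {g h} hg hh := ⟨by rw [Units.val_mul, ← Matrix.mulVec_mulVec, hh.1, hg.1],
    by rw [Units.val_mul, ← Matrix.mulVec_mulVec, hh.2, hg.2]⟩
  inv_mem' {g} hg := by
    constructor
    · conv_lhs => rw [← hg.1, Matrix.mulVec_mulVec, Units.inv_mul, Matrix.one_mulVec]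
    · conv_lhs => rw [← hg.2, Matrix.mulVec_mulVec, Units.inv_mul, Matrix.one_mulVec]

/-- Groups of matrices invariant under the squares of the isometries of the factors. -/
structure Opn (d : Fin k → F) (K : AddSubgroup (Mt t k F)) : Prop where
  sqm : ∀ l, ∀ g ∈ sqG d, ∀ X ∈ K, cj (slotU l g) X ∈ K
  full : Even k → 3 ≤ t → ∀ l, ∀ g ∈ isoG d, ∀ X ∈ K, cj (slotU l g) X ∈ K

/-- In few factors linear parts are proportional. -/
def Pur (d u v : Fin k → F) (K : AddSubgroup (Mt t k F)) : Prop :=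
  ∀ l, Even k → t < 3 → ∀ C ∈ K, Val l (SN d u v) C → ∃ w ∈ Pp d u v, ∃ γ, Com l γ ∧ C = slot l (wg d w u) * γ

variable [Fintype F] (hD : Dat d) (hf : Fr d u v)
include hD

lemma eq_zero_of_orth {w : Fin k → Fin k → F} (hw : ∀ j, fd d (w j) (w j) ≠ 0)
    (ho : ∀ j j', j ≠ j' → fd d (w j) (w j') = 0) {m : Fin k → F} (hm : ∀ j, fd d (w j) m = 0) : m = 0 := by
  by_contra hm0
  have hli : LinearIndependent F (Fin.cons m w : Fin (k + 1) → Fin k → F) := by
    rw [Fintype.linearIndependent_iff]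
    intro g hg
    rw [Fin.sum_univ_succ] at hg
    simp only [Fin.cons_zero, Fin.cons_succ] at hg
    have hj : ∀ j : Fin k, g j.succ = 0 := fun j => by
      let L : (Fin k → F) →ₗ[F] F :=
        LinearMap.mk ⟨fun a => fd d (w j) a, fun _ _ => fd_add_right _ _ _ _⟩ (fun c a => fd_smul_right _ c (w j) a)
      have := congrArg L hg
      simp only [map_add, map_sum, map_smul, map_zero, L, LinearMap.coe_mk, AddHom.coe_mk, hm, smul_eq_mul,
        mul_zero, zero_add] at this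
      rw [Finset.sum_eq_single j (fun l _ hl => by rw [ho j l hl.symm, mul_zero]) (by simp)] at this
      exact (mul_eq_zero.1 this).resolve_right (hw j)
    simp only [hj, zero_smul, Finset.sum_const_zero, add_zero, smul_eq_zero, hm0, or_false] at hg
    exact Fin.cases hg hj
  have := hli.fintype_card_le_finrank
  simp at this

include hf

lemma exists_aniso_meet {m : Fin k → F} (hm : m ∈ Pp d u v) (hm0 : m ≠ 0) :
    ∃ n ∈ Pp d u v, fd d n n ≠ 0 ∧ fd d n m ≠ 0 := by
  by_cases h : fd d m m = 0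
  · obtain ⟨n, hn, hnm⟩ : ∃ n ∈ Pp d u v, fd d m n ≠ 0 := by
      by_contra hc; push Not at hc; exact hm0 (Pp_nondeg hf hD.ne hm hc)
    rw [fd_symm] at hnm
    by_cases hnn : fd d n n = 0
    · refine ⟨n + m, (Pp d u v).add_mem hn hm, ?_, by rwa [fd_add_left, h, add_zero]⟩
      simp only [fd_add_left, fd_add_right, hnn, h, fd_symm d n m, zero_add, add_zero, ← two_mul]
      exact mul_ne_zero hD.two hnm
    · exact ⟨n, hn, hnn, hnm⟩
  · exact ⟨m, hm, h, h⟩

/-- Three orthogonal vectors of equal norm, one not orthogonal to a given vector. -/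
lemma exists_triple (hk : 5 ≤ k) (hodd : ¬ Even k) {m : Fin k → F} (hm : m ∈ Pp d u v) (hm0 : m ≠ 0) :
    ∃ n ∈ Pp d u v, ∃ c ∈ Pp d u v, ∃ c' ∈ Pp d u v, fd d n n ≠ 0 ∧ fd d c c = fd d n n ∧ fd d c' c' = fd d n n ∧
      fd d n c = 0 ∧ fd d n c' = 0 ∧ fd d c c' = 0 ∧ fd d n m ≠ 0 := by
  classical
  rcases eq_or_lt_of_le hk with h5 | h6
  · subst h5
    obtain ⟨a, ha, haa⟩ := hf.exists_aniso hD
    obtain ⟨b, hb, hbb, hab⟩ := hf.exists_orth hD (by norm_num) ha haa
    obtain ⟨e, he, hee, hae, hbe⟩ := hf.exists_orth₂ hD le_rfl ha haa hb hbb hab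
    obtain ⟨D, hDD⟩ : ∃ D, D = fd d a a * fd d b b * fd d e e := ⟨_, rfl⟩
    have hD0 : D ≠ 0 := by rw [hDD]; exact mul_ne_zero (mul_ne_zero haa hbb) hee
    obtain ⟨s, r, hn⟩ := exists_norm hD haa hbb hab D
    obtain ⟨n, hnd⟩ : ∃ n, n = s • a + r • b := ⟨_, rfl⟩
    rw [← hnd] at hn
    obtain ⟨a2, ha2d⟩ : ∃ a2, a2 = (-(r * fd d b b)) • a + (s * fd d a a) • b := ⟨_, rfl⟩
    have hnP : n ∈ Pp d u v := hnd ▸ (Pp d u v).add_mem ((Pp d u v).smul_mem _ ha) ((Pp d u v).smul_mem _ hb)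
    have ha2P : a2 ∈ Pp d u v := ha2d ▸ (Pp d u v).add_mem ((Pp d u v).smul_mem _ ha) ((Pp d u v).smul_mem _ hb)
    have hn' := hn
    simp only [hnd, fd_add_left, fd_add_right, fd_smul_left, fd_smul_right, hab, fd_symm d a b] at hn'
    have ha2n : fd d a2 a2 = fd d a a * fd d b b * D := by
      simp only [ha2d, fd_add_left, fd_add_right, fd_smul_left, fd_smul_right, hab, fd_symm d a b]
      linear_combination (fd d a a * fd d b b) * hn'
    have ha20 : fd d a2 a2 ≠ 0 := by rw [ha2n]; exact mul_ne_zero (mul_ne_zero haa hbb) hD0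
    have hna2 : fd d n a2 = 0 := by
      simp only [hnd, ha2d, fd_add_left, fd_add_right, fd_smul_left, fd_smul_right, hab, fd_symm d a b]; ring
    have hne : fd d n e = 0 := by simp [hnd, fd_add_left, fd_smul_left, hae, hbe]
    have ha2e : fd d a2 e = 0 := by simp [ha2d, fd_add_left, fd_smul_left, fd_neg_left, hae, hbe]
    obtain ⟨p, o, hc⟩ := exists_norm hD ha20 hee ha2e D
    obtain ⟨c, hcd⟩ : ∃ c, c = p • a2 + o • e := ⟨_, rfl⟩
    rw [← hcd] at hc
    obtain ⟨c', hc'd⟩ : ∃ c', c' = D⁻¹ • ((-(o * fd d e e)) • a2 + (p * fd d a2 a2) • e) := ⟨_, rfl⟩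
    have hcP : c ∈ Pp d u v := hcd ▸ (Pp d u v).add_mem ((Pp d u v).smul_mem _ ha2P) ((Pp d u v).smul_mem _ he)
    have hc'P : c' ∈ Pp d u v := hc'd ▸
      (Pp d u v).smul_mem _ ((Pp d u v).add_mem ((Pp d u v).smul_mem _ ha2P) ((Pp d u v).smul_mem _ he))
    have hc' : fd d c' c' = D := by
      have hcn := hc
      simp only [hcd, fd_add_left, fd_add_right, fd_smul_left, fd_smul_right, ha2e, fd_symm d a2 e] at hcn
      simp only [hc'd, fd_add_left, fd_add_right, fd_smul_left, fd_smul_right, ha2e, fd_symm d a2 e]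
      rw [ha2n] at hcn ⊢
      field_simp
      rw [hDD] at hcn ⊢
      linear_combination (fd d a a * fd d b b * fd d e e) * hcn
    have hnc : fd d n c = 0 := by simp [hcd, fd_add_right, fd_smul_right, hna2, hne]
    have hnc' : fd d n c' = 0 := by simp [hc'd, fd_add_right, fd_smul_right, fd_neg_right, hna2, hne]
    have hcc' : fd d c c' = 0 := by
      simp only [hcd, hc'd, fd_add_left, fd_add_right, fd_smul_left, fd_smul_right, ha2e, fd_symm d a2 e]; ring
    by_cases h1 : fd d n m ≠ 0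
    · exact ⟨n, hnP, c, hcP, c', hc'P, by rwa [hn], by rw [hn, hc], by rw [hn, hc'], hnc, hnc', hcc', h1⟩
    by_cases h2 : fd d c m ≠ 0
    · exact ⟨c, hcP, n, hnP, c', hc'P, by rwa [hc], by rw [hn, hc], by rw [hc, hc'], by rw [fd_symm, hnc], hcc',
        hnc', h2⟩
    by_cases h3 : fd d c' m ≠ 0
    · exact ⟨c', hc'P, n, hnP, c, hcP, by rwa [hc'], by rw [hn, hc'], by rw [hc, hc'], by rw [fd_symm, hnc'],
        by rw [fd_symm, hcc'], hnc, h3⟩
    push Not at h1 h2 h3
    refine absurd ?_ hm0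
    clear hnd ha2d hcd hc'd hn' hDD
    have hvu := hf.vu
    refine eq_zero_of_orth hD (w := ![u + v, u - v, n, c, c']) (fun j => ?_) (fun j j' hjj => ?_) (fun j => ?_)
    · fin_cases j <;> simp [fd_add_left, fd_add_right, fd_sub_left, fd_sub_right, hf.uu, hf.vv, hf.uv, hvu, hn, hc,
        hc', hD0]
      all_goals intro h; exact hD.two (by first | linear_combination h | linear_combination -h)
    · fin_cases j <;> fin_cases j' <;> simp_all [fd_add_left, fd_add_right, fd_sub_left, fd_sub_right, hf.uu, hf.vv,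
        hf.uv, hnP.1, hnP.2, hcP.1, hcP.2, hc'P.1, hc'P.2, fd_symm d u n, fd_symm d v n, fd_symm d u c, fd_symm d v c,
        fd_symm d u c', fd_symm d v c', fd_symm d n c, fd_symm d n c', fd_symm d c c']
    · fin_cases j <;> simp [fd_add_left, fd_sub_left, hm.1, hm.2, h1, h2, h3]
  · have h7 : 7 ≤ k := by
      rcases Nat.even_or_odd k with h | ⟨j, hj⟩
      · exact absurd h hodd
      · omega
    obtain ⟨n, hn, hnn, hnm⟩ := exists_aniso_meet hD hf hm hm0
    obtain ⟨a, ha, haa, hna⟩ := hf.exists_orth hD (by omega) hn hnn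
    obtain ⟨b, hb, hbb, hnb, hab⟩ := hf.exists_orth₂ hD (by omega) hn hnn ha haa hna
    obtain ⟨s, r, hc⟩ := exists_norm hD haa hbb hab (fd d n n)
    obtain ⟨c, hcd⟩ : ∃ c, c = s • a + r • b := ⟨_, rfl⟩
    rw [← hcd] at hc
    have hcP : c ∈ Pp d u v := hcd ▸ (Pp d u v).add_mem ((Pp d u v).smul_mem _ ha) ((Pp d u v).smul_mem _ hb)
    have hnc : fd d n c = 0 := by simp [hcd, fd_add_right, fd_smul_right, hna, hnb]
    have hcc : fd d c c ≠ 0 := by rwa [hc]
    clear hcd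
    obtain ⟨a', ha', ha'a', hna', hca'⟩ := hf.exists_orth₂ hD (by omega) hn hnn hcP hcc hnc
    obtain ⟨b', hb', hb'b', ho⟩ := hf.exists_more hD (r := 3) (by omega) ![n, c, a']
      (fun j => by fin_cases j <;> assumption) (fun j => by fin_cases j <;> assumption)
      (fun j j' h => by fin_cases j <;> fin_cases j' <;> simp_all [fd_symm d n c, fd_symm d n a', fd_symm d c a'])
    obtain ⟨p, o, hc'⟩ := exists_norm hD ha'a' hb'b' (ho 2) (fd d n n)
    refine ⟨n, hn, c, hcP, p • a' + o • b', (Pp d u v).add_mem ((Pp d u v).smul_mem _ ha') ((Pp d u v).smul_mem _ hb'),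
      hnn, hc, hc', hnc, ?_, ?_, hnm⟩
    · have := ho 0; simp at this; simp [fd_add_right, fd_smul_right, hna', this]
    · have := ho 1; simp at this; simp [fd_add_right, fd_smul_right, hca', this]

/-- The quadratic values at the orbit of `u` determine the symmetric part. -/
lemma sym_scalar {X : Matrix (Fin k) (Fin k) F}
    (hQ : ∀ g ∈ sqG d, fd d ((g : Matrix (Fin k) (Fin k) F) *ᵥ u)
      (X *ᵥ ((g : Matrix (Fin k) (Fin k) F) *ᵥ u)) = 0) : ∃ σ : F, sa d X = σ • 1 - X := by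
  have h2 := hD.two
  have hu : fd d u (X *ᵥ u) = 0 := by simpa using hQ 1 (sqG d).one_mem
  obtain ⟨n, hn, hnn⟩ := hf.exists_aniso hD
  obtain ⟨w, hw, hwu, -, -, -⟩ := exists_weyl hD hf hn hnn
  have hv : fd d v (X *ᵥ v) = 0 := by
    have := hQ w hw
    rw [hwu, Matrix.mulVec_smul, fd_smul_left, fd_smul_right, ← mul_assoc] at this
    exact (mul_eq_zero.1 this).resolve_left (mul_ne_zero (neg_ne_zero.2 (div_ne_zero hnn h2))
      (neg_ne_zero.2 (div_ne_zero hnn h2)))
  let S : (Fin k → F) → (Fin k → F) → F := fun a b => fd d a (X *ᵥ b) + fd d b (X *ᵥ a)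
  have hSadd : ∀ a b b', S a (b + b') = S a b + S a b' := fun a b b' => by
    simp only [S, Matrix.mulVec_add, fd_add_left, fd_add_right]; ring
  have hSsmul : ∀ a (c : F) b, S a (c • b) = c * S a b := fun a c b => by
    simp only [S, Matrix.mulVec_smul, fd_smul_left, fd_smul_right]; ring
  set σ := S u v with hσ
  have hE : ∀ m ∈ Pp d u v, fd d m (X *ᵥ m) + S u m - (fd d m m / 2) * (S v m + σ) = 0 := by
    intro m hm
    obtain ⟨g, hg, hgv⟩ := eich_mem_sqG h2 hD.ne hf.vv hm.2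
    have := hQ g hg
    rw [hgv, eich_mulVec, hf.vu, fd_symm d u m, hm.1] at this
    simp only [one_smul, zero_smul, sub_zero, mul_one, Matrix.mulVec_add, Matrix.mulVec_sub, Matrix.mulVec_smul,
      fd_add_left, fd_add_right, fd_sub_left, fd_sub_right, fd_smul_left, fd_smul_right, hu, hv] at this
    simp only [S, hσ]
    linear_combination this
  have hpm : ∀ m ∈ Pp d u v, S u m = (fd d m m / 2) * S v m ∧ fd d m (X *ᵥ m) = fd d m m / 2 * σ := by
    intro m hm
    have e1 := hE m hm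
    have e2 := hE (-m) ((Pp d u v).neg_mem hm)
    rw [← neg_one_smul F m, hSsmul, hSsmul, Matrix.mulVec_smul, fd_smul_left, fd_smul_right, fd_smul_left,
      fd_smul_right] at e2
    have e3 : fd d m (X *ᵥ m) = fd d m m / 2 * σ :=
      mul_left_cancel₀ h2 (by linear_combination e1 + e2)
    exact ⟨by linear_combination e1 - e3, e3⟩
  have hβ : ∀ m ∈ Pp d u v, S v m = 0 := by
    have haniso : ∀ m ∈ Pp d u v, fd d m m ≠ 0 → S v m = 0 := by
      intro m hm hmm
      have hh : fd d m m / 2 ≠ 0 := div_ne_zero hmm h2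
      by_cases h3 : k = 3
      · obtain ⟨s, hs0, hs1⟩ := exists_scale hD (hD.five h3)
        have e1 := (hpm m hm).1
        have e2 := (hpm (s • m) ((Pp d u v).smul_mem s hm)).1
        rw [hSsmul, hSsmul, fd_smul_left, fd_smul_right, e1] at e2
        have e3 : s * (fd d m m / 2) * (s * s - 1) * S v m = 0 := by linear_combination -e2
        exact (mul_eq_zero.1 e3).resolve_left (mul_ne_zero (mul_ne_zero hs0 hh) (sub_ne_zero.2 hs1))
      · obtain ⟨c, hc, hcc, hmc⟩ := hf.exists_orth hD (by have := hD.three; omega) hm hmm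
        have e1 := (hpm m hm).1
        have e2 := (hpm c hc).1
        have e3 := (hpm (m + c) ((Pp d u v).add_mem hm hc)).1
        have e4 := (hpm (m + (-1 : F) • c) ((Pp d u v).add_mem hm ((Pp d u v).smul_mem _ hc))).1
        simp only [hSadd, hSsmul, fd_add_left, fd_add_right, fd_smul_left, fd_smul_right, hmc, fd_symm d m c,
          e1, e2] at e3 e4
        have e5 : 2 * (fd d c c / 2) * S v m = 0 := by linear_combination -e3 - e4
        exact (mul_eq_zero.1 e5).resolve_left (mul_ne_zero h2 (div_ne_zero hcc h2))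
    intro m hm
    by_cases hmm : fd d m m = 0
    · by_cases h1 : fd d (m + n) (m + n) = 0
      · have h1' : fd d (m + (-1 : F) • n) (m + (-1 : F) • n) ≠ 0 := by
          intro h
          simp only [fd_add_left, fd_add_right, fd_smul_left, fd_smul_right, hmm, fd_symm d m n] at h h1
          exact mul_ne_zero h2 hnn (by linear_combination h + h1)
        have e1 := haniso _ ((Pp d u v).add_mem hm ((Pp d u v).smul_mem _ hn)) h1'
        rw [hSadd, hSsmul, haniso n hn hnn, mul_zero, add_zero] at e1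
        exact e1
      · have e1 := haniso _ ((Pp d u v).add_mem hm hn) h1
        rwa [hSadd, haniso n hn hnn, add_zero] at e1
    · exact haniso m hm hmm
  have hall : ∀ a b, (a = u ∨ a = v ∨ a ∈ Pp d u v) → (b = u ∨ b = v ∨ b ∈ Pp d u v) → S a b = σ * fd d a b := by
    have hsym : ∀ a b, S a b = S b a := fun a b => add_comm _ _
    intro a b ha hb
    rcases ha with rfl | rfl | ha <;> rcases hb with hb | hb | hb
    · rw [hb, hf.uu, mul_zero]; simp [S, hu]
    · rw [hb, hf.uv, mul_one]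
    · rw [hb.1, mul_zero, (hpm b hb).1, hβ b hb, mul_zero]
    · rw [hb, hf.vu, mul_one, hsym]
    · rw [hb, hf.vv, mul_zero]; simp [S, hv]
    · rw [hb.2, mul_zero, hβ b hb]
    · rw [hb, fd_symm d u a, ha.1, mul_zero, hsym, (hpm a ha).1, hβ a ha, mul_zero]
    · rw [hb, fd_symm d v a, ha.2, mul_zero, hsym, hβ a ha]
    · have e := (hpm _ ((Pp d u v).add_mem ha hb)).2
      simp only [Matrix.mulVec_add, fd_add_left, fd_add_right, (hpm a ha).2, (hpm b hb).2, fd_symm d a b] at e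
      simp only [S]
      field_simp at e
      refine mul_left_cancel₀ h2 ?_
      linear_combination e
  refine ⟨σ, eq_sub_iff_add_eq.2 (hf.ext hD.ne fun a b ha hb => ?_)⟩
  rw [Matrix.add_mulVec, Matrix.smul_mulVec, Matrix.one_mulVec, fd_add_right, fd_smul_right, ← fd_mulVec hD.ne,
    fd_symm d b (X *ᵥ a), ← hall a b ha hb]
  simp only [S]; ring

/-- A matrix whose conjugates send `u` to multiples of `u` is scalar. -/
lemma scalar_of_conj {X : Matrix (Fin k) (Fin k) F}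
    (hQ : ∀ g ∈ sqG d, fd d ((g : Matrix (Fin k) (Fin k) F) *ᵥ u)
      (X *ᵥ ((g : Matrix (Fin k) (Fin k) F) *ᵥ u)) = 0)
    {σ : F} (hX : sa d X = σ • 1 - X)
    (hP : ∀ g ∈ sqG d, ∀ m ∈ Pp d u v, fd d ((g : Matrix (Fin k) (Fin k) F) *ᵥ m)
      (X *ᵥ ((g : Matrix (Fin k) (Fin k) F) *ᵥ u)) = 0) : ∃ c : F, X = c • 1 := by
  have h2 := hD.two
  have hvu := hf.vu
  have hswap : ∀ a b, fd d b (X *ᵥ a) = σ * fd d a b - fd d a (X *ᵥ b) := fun a b => by
    rw [fd_symm, fd_mulVec hD.ne, hX, Matrix.sub_mulVec, Matrix.smul_mulVec, Matrix.one_mulVec, fd_sub_right,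
      fd_smul_right]
  have hu : fd d u (X *ᵥ u) = 0 := by simpa using hQ 1 (sqG d).one_mem
  have hum : ∀ m ∈ Pp d u v, fd d m (X *ᵥ u) = 0 := fun m hm => by simpa using hP 1 (sqG d).one_mem m hm
  obtain ⟨n, hn, hnn⟩ := hf.exists_aniso hD
  obtain ⟨w, hw, hwu, -, hwn, hwp⟩ := exists_weyl hD hf hn hnn
  have hα : -(fd d n n / 2) ≠ 0 := neg_ne_zero.2 (div_ne_zero hnn h2)
  have hv : fd d v (X *ᵥ v) = 0 := by
    have := hQ w hw
    rw [hwu, Matrix.mulVec_smul, fd_smul_left, fd_smul_right, ← mul_assoc] at this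
    exact (mul_eq_zero.1 this).resolve_left (mul_ne_zero hα hα)
  have hvm : ∀ m ∈ Pp d u v, fd d m (X *ᵥ v) = 0 := fun m hm => by
    set β := fd d n m / fd d n n with hβ
    have hm' : m - β • n ∈ Pp d u v := (Pp d u v).sub_mem hm ((Pp d u v).smul_mem _ hn)
    have h := hP w hw ((m - β • n) + (-β) • n) ((Pp d u v).add_mem hm' ((Pp d u v).smul_mem _ hn))
    rw [Matrix.mulVec_add, Matrix.mulVec_smul _ _ n, hwn,
      hwp _ hm' (by rw [fd_sub_right, fd_smul_right, hβ, div_mul_cancel₀ _ hnn, sub_self]), neg_smul_neg,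
      sub_add_cancel, hwu, Matrix.mulVec_smul, fd_smul_right] at h
    exact (mul_eq_zero.1 h).resolve_left hα
  set κ := fd d v (X *ᵥ u) with hκ
  have hmm : ∀ m ∈ Pp d u v, ∀ m' ∈ Pp d u v, fd d m (X *ᵥ m') = fd d m' m * κ := fun m hm m' hm' => by
    obtain ⟨g, hg, hgv⟩ := eich_mem_sqG h2 hD.ne hf.vv hm'.2
    have := hP g hg m hm
    rw [hgv, eich_mulVec, eich_mulVec, hvu, hm.2, fd_symm d u m', hm'.1] at this
    simp only [one_smul, zero_smul, sub_zero, mul_one, mul_zero, add_zero, Matrix.mulVec_add, Matrix.mulVec_sub,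
      Matrix.mulVec_smul, fd_add_left, fd_add_right, fd_sub_left, fd_sub_right, fd_smul_left, fd_smul_right,
      hum m hm, hvm m hm, hv, hswap m' v, hvm m' hm', fd_symm d v m', hm'.2, sub_self] at this
    linear_combination this
  have hσ : σ = 2 * κ := by
    have e1 := hmm n hn n hn
    have e2 := hswap n n
    rw [e1] at e2
    exact mul_left_cancel₀ hnn (by linear_combination -e2)
  refine ⟨κ, hf.ext hD.ne fun a b ha hb => ?_⟩
  rw [Matrix.smul_mulVec, Matrix.one_mulVec, fd_smul_right]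
  rcases ha with rfl | rfl | ha <;> rcases hb with hb | hb | hb
  · rw [hb, hu, hf.uu, mul_zero]
  · rw [hb, hf.uv, hswap v a, hvu, ← hκ, hσ]; ring
  · rw [hb.1, hswap b a, fd_symm d a b, hb.1, hum b hb]; ring
  · rw [hb, hvu, mul_one]
  · rw [hb, hv, hf.vv, mul_zero]
  · rw [hb.2, hswap b a, fd_symm d a b, hb.2, hvm b hb]; ring
  · rw [hb, hum a ha, fd_symm d u a, ha.1, mul_zero]
  · rw [hb, hvm a ha, fd_symm d v a, ha.2, mul_zero]
  · rw [hmm a ha b hb, fd_symm d a b, mul_comm]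

variable {K : AddSubgroup (Mt t k F)}

/-- Reduction at one factor to the centre or to linear parts. -/
lemma exists_center_or_linear [NeZero k] {l : Fin t} (hG : ∀ g ∈ sqG d, ∀ X ∈ K, cj (slotU l g) X ∈ K)
    {C : Mt t k F} (hC : C ∈ K) (hl : ¬ Com l C) :
    ∃ C' ∈ K, C' ≠ 0 ∧ (Val l (SZ d u) C' ∨ Val l (SN d u v) C') ∧ ∀ r, r ≠ l → Com r C → Com r C' := by
  by_cases hA : ∃ x y, ∃ g ∈ sqG d, fd d ((g : Matrix (Fin k) (Fin k) F) *ᵥ u)
      (sl l C x y *ᵥ ((g : Matrix (Fin k) (Fin k) F) *ᵥ u)) ≠ 0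
  · obtain ⟨x₀, y₀, g, hg, hne⟩ := hA
    obtain ⟨φ, κ, hκ, hφ, hφv⟩ := exists_phi hD hf
    obtain ⟨C', hC', h1, h2⟩ := (hφ.comp (Op.conj ((sqG d).inv_mem hg))).apply hG C hC
    refine ⟨C', hC', fun h0 => hne ?_, Or.inl fun x y => by
      rw [h1, hφv]; exact Submodule.smul_mem _ _ (Submodule.mem_span_singleton_self _), h2⟩
    have := h1 x₀ y₀
    rw [h0, sl_zero, hφv, eq_comm, smul_eq_zero, or_iff_left (vd_ne_zero hD.ne hf.u_ne hf.u_ne), mul_eq_zero,
      or_iff_right hκ, ← Matrix.mulVec_mulVec, ← Matrix.mulVec_mulVec, inv_inv] at this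
    have hi := sqG_le d hg
    rw [← hi, Matrix.mulVec_mulVec _ (g : Matrix (Fin k) (Fin k) F), Units.mul_inv, Matrix.one_mulVec] at this
    exact this
  push Not at hA
  choose σ hσ using fun x y => sym_scalar hD hf (hA x y)
  by_cases hB : ∃ x y, ∃ g ∈ sqG d, ∃ m ∈ Pp d u v, fd d ((g : Matrix (Fin k) (Fin k) F) *ᵥ m)
      (sl l C x y *ᵥ ((g : Matrix (Fin k) (Fin k) F) *ᵥ u)) ≠ 0
  · obtain ⟨x₀, y₀, g, hg, m, hm, hne⟩ := hB
    obtain ⟨n, hn, hnn⟩ := hf.exists_aniso hD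
    obtain ⟨φ, hφ, hφv⟩ := exists_second hD hf hn
    have hi : g ∈ isoG d := sqG_le d hg
    obtain ⟨C', hC', h1, h2⟩ := (hφ.comp (Op.conj ((sqG d).inv_mem hg))).apply hG C hC
    set Y := fun x y => ((g⁻¹ : GL (Fin k) F) : Matrix (Fin k) (Fin k) F) * sl l C x y *
      (((g⁻¹)⁻¹ : GL (Fin k) F) : Matrix (Fin k) (Fin k) F) with hY
    have hYm : ∀ x y a, fd d a (Y x y *ᵥ u) = fd d ((g : Matrix (Fin k) (Fin k) F) *ᵥ a)
        (sl l C x y *ᵥ ((g : Matrix (Fin k) (Fin k) F) *ᵥ u)) := fun x y a => by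
      rw [hY, ← hi a]
      simp only [← Matrix.mulVec_mulVec, inv_inv]
      rw [Matrix.mulVec_mulVec _ (g : Matrix (Fin k) (Fin k) F), Units.mul_inv, Matrix.one_mulVec]
    have hval : ∀ x y, sl l C' x y =
        wg d ((4 * fd d n (Y x y *ᵥ u)) • n - (2 * fd d n n) • prj d u v (Y x y *ᵥ u)) u := fun x y => by
      rw [h1, hφv _ (σ x y) ?_ ?_]
      · rw [inv_inv, sa_mul hD.ne, sa_mul hD.ne, hσ, ← inv_eq_sa hD.ne hi, ← inv_eq_sa hD.ne ((isoG d).inv_mem hi),
          inv_inv]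
        simp [mul_sub, sub_mul, mul_assoc]
      · show fd d u (Y x y *ᵥ u) = 0
        rw [hYm]; exact hA x y g hg
    refine ⟨C', hC', fun h0 => hne ?_, Or.inr fun x y => ?_, h2⟩
    · have e := hval x₀ y₀
      rw [h0, sl_zero] at e
      have e' := nm_eq_zero hf ((Pp d u v).sub_mem ((Pp d u v).smul_mem _ hn)
        ((Pp d u v).smul_mem _ (prj_mem hf _))) e.symm
      have hprj : ∀ a ∈ Pp d u v, fd d a (prj d u v (Y x₀ y₀ *ᵥ u)) = fd d a (Y x₀ y₀ *ᵥ u) := fun a ha => by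
        rw [prj, fd_sub_right, fd_sub_right, fd_smul_right, fd_smul_right, fd_symm d u a, fd_symm d v a, ha.1, ha.2]
        ring
      have en := congrArg (fd d n) e'
      simp only [fd_sub_right, fd_smul_right, hprj n hn, fd_zero_right] at en
      have h0n : fd d n (Y x₀ y₀ *ᵥ u) = 0 :=
        mul_left_cancel₀ (mul_ne_zero hD.two hnn) (by linear_combination en)
      have em := congrArg (fd d m) e'
      simp only [fd_sub_right, fd_smul_right, hprj m hm, fd_zero_right, h0n, mul_zero, zero_mul, zero_sub,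
        neg_eq_zero, mul_eq_zero, hD.two, hnn, or_self, false_or] at em
      rw [← hYm]; exact em
    · rw [hval]
      exact mem_SN.2 ⟨_, (Pp d u v).sub_mem ((Pp d u v).smul_mem _ hn) ((Pp d u v).smul_mem _ (prj_mem hf _)), rfl⟩
  push Not at hB
  exact absurd (com_iff_sl.2 fun x y => scalar_of_conj hD hf (hA x y) (hσ x y) (hB x y)) hl

/-- Linear parts reduce to one line. -/
lemma exists_line [NeZero k] {l : Fin t} (hs : ∀ g ∈ sqG d ⊓ fix2 u v, ∀ X ∈ K, cj (slotU l g) X ∈ K)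
    (hfull : Even k → 3 ≤ t → ∀ g ∈ isoG d ⊓ fix2 u v, ∀ X ∈ K, cj (slotU l g) X ∈ K)
    (hP : Even k → t < 3 → ∀ C ∈ K, Val l (SN d u v) C →
      ∃ w ∈ Pp d u v, ∃ γ, Com l γ ∧ C = slot l (wg d w u) * γ)
    {C : Mt t k F} (hC : C ∈ K) (hC0 : C ≠ 0)
    (hS : Val l (SN d u v) C) : ∃ w ∈ Pp d u v, w ≠ 0 ∧ ∃ γ, Com l γ ∧ γ ≠ 0 ∧ slot l (wg d w u) * γ ∈ K ∧
      ∀ r, r ≠ l → Com r C → Com r γ := by
  obtain ⟨x₀, y₀, hxy⟩ : ∃ x y, sl l C x y ≠ 0 := by
    by_contra hc; push Not at hc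
    exact hC0 (sl_ext (i := l) fun x y => by rw [hc, sl_zero])
  choose m hm hmv using fun x y => mem_SN.1 (hS x y)
  have hm0 : m x₀ y₀ ≠ 0 := fun h => hxy (by rw [hmv, h, wg_zero_left])
  have fin : ∀ w ∈ Pp d u v, ∀ C' ∈ K, C' ≠ 0 → Val l (F ∙ wg d w u) C' →
      (∀ r, r ≠ l → Com r C → Com r C') → ∃ w ∈ Pp d u v, w ≠ 0 ∧ ∃ γ, Com l γ ∧ γ ≠ 0 ∧
        slot l (wg d w u) * γ ∈ K ∧ ∀ r, r ≠ l → Com r C → Com r γ := by
    intro w hw C' hC' h0 hv' hc
    obtain ⟨γ, hγ, rfl⟩ := exists_slot_mul hv'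
    have hA : wg d w u ≠ 0 := fun h => h0 (by rw [h, slot_zero, zero_mul])
    exact ⟨w, hw, fun h => hA (by rw [h, wg_zero_left]), γ, hγ, fun h => h0 (by rw [h, mul_zero]), hC',
      fun r hr hr' => Com.of_slot_mul hr hA hγ (hc r hr hr')⟩
  by_cases h3 : k = 3
  · obtain ⟨n, hn, hnn⟩ := hf.exists_aniso hD
    refine fin n hn C hC hC0 (fun x y => ?_) fun r _ h => h
    rw [hmv, hf.three_line hD h3 hn hnn (hm x y), wg_smul_left]
    exact Submodule.smul_mem _ _ (Submodule.mem_span_singleton_self _)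
  by_cases he : Even k
  · by_cases ht : 3 ≤ t
    · obtain ⟨n, hn, hnn, hnm⟩ := exists_aniso_meet hD hf (hm x₀ y₀) hm0
      obtain ⟨g, hg, hgv⟩ := exists_refl hD.ne hnn
      have hgu : (g : Matrix (Fin k) (Fin k) F) *ᵥ u = u := by
        rw [hgv, Matrix.sub_mulVec, Matrix.smul_mulVec, Matrix.one_mulVec, vd_mulVec, fd_symm d u n, hn.1,
          zero_smul, smul_zero, sub_zero]
      have hgv2 : (g : Matrix (Fin k) (Fin k) F) *ᵥ v = v := by
        rw [hgv, Matrix.sub_mulVec, Matrix.smul_mulVec, Matrix.one_mulVec, vd_mulVec, fd_symm d v n, hn.2,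
          zero_smul, smul_zero, sub_zero]
      obtain ⟨C', hC', h1, h2⟩ :=
        ((Op.id' (isoG d ⊓ fix2 u v)).sub (Op.conj (Subgroup.mem_inf.2 ⟨hg, hgu, hgv2⟩))).apply (hfull he ht) C hC
      have hval : ∀ x y, sl l C' x y = (2 / fd d n n * fd d n (m x y)) • wg d n u := fun x y => by
        rw [h1, hmv, ← one_smul F (wg d (m x y) u), conj_smul_wg hD.ne hg hgu, one_smul, hgv, Matrix.sub_mulVec,
          Matrix.smul_mulVec, Matrix.one_mulVec, vd_mulVec, smul_smul, sub_eq_add_neg (m x y), ← neg_smul,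
          wg_add_left, wg_smul_left, one_smul]
        module
      refine fin n hn C' hC' (fun h => ?_) (fun x y => by
        rw [hval]; exact Submodule.smul_mem _ _ (Submodule.mem_span_singleton_self _)) h2
      have := hval x₀ y₀
      rw [h, sl_zero, eq_comm, smul_eq_zero, mul_eq_zero, or_iff_left (fun e => hnn (by
        rw [nm_eq_zero hf hn e, fd_zero_left]))] at this
      exact this.elim (div_ne_zero hD.two hnn) hnm
    · obtain ⟨w, hw, γ, hγ, hCe⟩ := hP he (by omega) C hC hS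
      refine fin w hw C hC hC0 (fun x y => ?_) fun r _ h => h
      obtain ⟨c, hc⟩ := com_iff_sl.1 hγ x y
      rw [hCe, sl_slot_mul, hc, mul_smul_comm, mul_one]
      exact Submodule.smul_mem _ _ (Submodule.mem_span_singleton_self _)
  · have hk5 : 5 ≤ k := by
      have := hD.three
      rcases Nat.even_or_odd k with h | ⟨j, hj⟩
      · exact absurd h he
      · omega
    obtain ⟨n, hn, c, hc, c', hc', hnn, hcn, hc'n, hnc, hnc', hcc', hnm⟩ :=
      exists_triple hD hf hk5 he (hm x₀ y₀) hm0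
    obtain ⟨g, hg, hgv⟩ := exists_flip hD.ne hnn hcn hnc
    obtain ⟨g', hg', hgv'⟩ := exists_flip hD.ne hnn hc'n hnc'
    have act : ∀ {g : GL (Fin k) F} {c : Fin k → F}, g ∈ sqG d → c ∈ Pp d u v →
        (g : Matrix (Fin k) (Fin k) F) = 1 - (2 / fd d n n) • (vd d n n + vd d c c) → ∀ (a : F) w,
        a • wg d w u - (g : Matrix (Fin k) (Fin k) F) * (a • wg d w u) * ((g⁻¹ : GL (Fin k) F) : Matrix (Fin k) (Fin k) F)
          = (a * (2 / fd d n n) * fd d n w) • wg d n u + (a * (2 / fd d n n) * fd d c w) • wg d c u := by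
      intro g c hg hc hgv a w
      have hgu : (g : Matrix (Fin k) (Fin k) F) *ᵥ u = u := by
        rw [hgv, Matrix.sub_mulVec, Matrix.smul_mulVec, Matrix.one_mulVec, Matrix.add_mulVec, vd_mulVec, vd_mulVec,
          fd_symm d u n, hn.1, fd_symm d u c, hc.1]
        simp
      rw [conj_smul_wg hD.ne (sqG_le d hg) hgu, hgv, Matrix.sub_mulVec, Matrix.smul_mulVec, Matrix.one_mulVec,
        Matrix.add_mulVec, vd_mulVec, vd_mulVec, sub_eq_add_neg w, ← neg_smul, smul_add, smul_smul, smul_smul,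
        wg_add_left, wg_add_left, wg_smul_left, wg_smul_left]
      module
    have hfix : ∀ {g : GL (Fin k) F} {c : Fin k → F}, c ∈ Pp d u v →
        (g : Matrix (Fin k) (Fin k) F) = 1 - (2 / fd d n n) • (vd d n n + vd d c c) → g ∈ fix2 u v :=
      fun {g c} hc hgv => by
        constructor <;> rw [hgv] <;> simp [Matrix.sub_mulVec, Matrix.smul_mulVec, Matrix.add_mulVec, vd_mulVec,
          fd_symm d u n, fd_symm d u c, fd_symm d v n, fd_symm d v c, hn.1, hn.2, hc.1, hc.2]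
    have hG1 : g ∈ sqG d ⊓ fix2 u v := Subgroup.mem_inf.2 ⟨hg, hfix hc hgv⟩
    have hG2 : g' ∈ sqG d ⊓ fix2 u v := Subgroup.mem_inf.2 ⟨hg', hfix hc' hgv'⟩
    obtain ⟨C', hC', h1, h2⟩ :=
      (((Op.id' _).sub (Op.conj hG1)).comp ((Op.id' _).sub (Op.conj hG2))).apply hs C hC
    have hval : ∀ x y, sl l C' x y = (4 / fd d n n * fd d n (m x y)) • wg d n u := fun x y => by
      have e := act hg' hc' hgv' 1 (m x y)
      rw [one_smul] at e
      rw [h1, hmv, e, mul_add, add_mul, add_sub_add_comm, act hg hc hgv, act hg hc hgv, hnc', hcc', fd_symm d n c,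
        hnc]
      simp only [one_mul, mul_zero, zero_smul, add_zero]
      congr 1
      field_simp
      ring
    refine fin n hn C' hC' (fun h => ?_) (fun x y => by
      rw [hval]; exact Submodule.smul_mem _ _ (Submodule.mem_span_singleton_self _)) h2
    have := hval x₀ y₀
    rw [h, sl_zero, eq_comm, smul_eq_zero, mul_eq_zero, or_iff_left (fun e => hnn (by
      rw [nm_eq_zero hf hn e, fd_zero_left]))] at this
    refine this.elim (div_ne_zero ?_ hnn) hnm
    rw [show (4 : F) = 2 * 2 by norm_num]; exact mul_ne_zero hD.two hD.two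

/-- A linear part changes to an anisotropic one. -/
lemma exists_aniso_line {w : Fin k → F} (hw : w ∈ Pp d u v) (hw0 : w ≠ 0) :
    ∃ w₁ ∈ Pp d u v, fd d w₁ w₁ ≠ 0 ∧ ∃ φ : Matrix (Fin k) (Fin k) F → Matrix (Fin k) (Fin k) F,
      Op (sqG d ⊓ fix2 u v) φ ∧ ∀ c : F, φ (c • wg d w u) = c • wg d w₁ u := by
  by_cases hww : fd d w w = 0
  · have h2 := hD.two
    obtain ⟨n, hn, hnn, hnw⟩ := exists_aniso_meet hD hf hw hw0
    obtain ⟨z, hz⟩ : ∃ z, z = (fd d n w)⁻¹ • n := ⟨_, rfl⟩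
    obtain ⟨w', hw'd⟩ : ∃ w', w' = z - (fd d z z / 2) • w := ⟨_, rfl⟩
    have hw'P : w' ∈ Pp d u v := by
      rw [hw'd, hz]; exact (Pp d u v).sub_mem ((Pp d u v).smul_mem _ hn) ((Pp d u v).smul_mem _ hw)
    have hzw : fd d z w = 1 := by rw [hz, fd_smul_left, inv_mul_cancel₀ hnw]
    have hw'w : fd d w' w = 1 := by rw [hw'd, fd_sub_left, fd_smul_left, hzw, hww, mul_zero, sub_zero]
    have hw'w' : fd d w' w' = 0 := by
      rw [hw'd]
      simp only [fd_sub_left, fd_sub_right, fd_smul_left, fd_smul_right, hww, hzw, fd_symm d z w]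
      field_simp
      ring
    have hk5 : 5 ≤ k := by
      by_contra hk
      have := hD.three
      rcases (show k = 3 ∨ k = 4 by omega) with h | h
      · refine hw0 ?_
        have e := hf.three_line hD h hn hnn hw
        have e' := hww
        rw [e, fd_smul_left, fd_smul_right, mul_eq_zero, mul_eq_zero] at e'
        rcases e' with e' | e' | e'
        · rw [e, e', zero_smul]
        · rw [e, e', zero_smul]
        · exact absurd e' hnn
      · exact hw0 (hf.four_aniso hD h hw hww)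
    clear hw'd hz
    have hww' : fd d w w' = 1 := by rw [fd_symm, hw'w]
    obtain ⟨m, hm, hmm, ho⟩ := hf.exists_more hD (r := 2) (by omega) ![w + w', w - w']
      (fun j => by fin_cases j <;> simp [(Pp d u v).add_mem hw hw'P, (Pp d u v).sub_mem hw hw'P])
      (fun j => by
        fin_cases j <;> simp [fd_add_left, fd_add_right, fd_sub_left, fd_sub_right, hww, hw'w', hw'w, hww']
        all_goals intro h; exact h2 (by first | linear_combination h | linear_combination -h))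
      (fun j j' hjj => by
        fin_cases j <;> fin_cases j' <;>
          simp_all [fd_add_left, fd_add_right, fd_sub_left, fd_sub_right, hww, hw'w', hw'w, hww'])
    have h0 := ho 0
    have h1 := ho 1
    simp [fd_add_left, fd_sub_left] at h0 h1
    have hwm : fd d w m = 0 :=
      (mul_eq_zero.1 (show (2 : F) * fd d w m = 0 by linear_combination h0 + h1)).resolve_left h2
    have hw'm : fd d w' m = 0 := by linear_combination h0 - hwm
    obtain ⟨g, hg, hgv⟩ := eich_mem_sqG h2 hD.ne hw'w' hw'm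
    obtain ⟨g', hg', hgv'⟩ := eich_mem_sqG h2 hD.ne hw'w' (a := -m) (by rw [fd_neg_right, hw'm, neg_zero])
    have hfix : ∀ a : Fin k → F, fd d w' u = 0 → fd d a u = 0 → eich d w' a *ᵥ u = u := fun a e1 e2 => by
      rw [eich_mulVec, e1, e2]; simp
    have e1 : fd d w' u = 0 := by rw [fd_symm, hw'P.1]
    have hmu : fd d m u = 0 := by rw [fd_symm, hm.1]
    have e1v : fd d w' v = 0 := by rw [fd_symm, hw'P.2]
    have hmv : fd d m v = 0 := by rw [fd_symm, hm.2]
    have hfixv : ∀ a : Fin k → F, fd d a v = 0 → eich d w' a *ᵥ v = v := fun a e2 => by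
      rw [eich_mulVec, e1v, e2]; simp
    have hG1 : g ∈ sqG d ⊓ fix2 u v :=
      Subgroup.mem_inf.2 ⟨hg, by rw [hgv]; exact hfix _ e1 hmu, by rw [hgv]; exact hfixv _ hmv⟩
    have hG2 : g' ∈ sqG d ⊓ fix2 u v :=
      Subgroup.mem_inf.2 ⟨hg', by rw [hgv']; exact hfix _ e1 (by rw [fd_neg_left, hmu, neg_zero]),
        by rw [hgv']; exact hfixv _ (by rw [fd_neg_left, hmv, neg_zero])⟩
    refine ⟨(2 : F) • m, (Pp d u v).smul_mem _ hm,
      by rw [fd_smul_left, fd_smul_right]; exact mul_ne_zero h2 (mul_ne_zero h2 hmm),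
      _, (Op.conj hG1).sub (Op.conj hG2), fun c => ?_⟩
    have hcm : ∀ {g : GL (Fin k) F} {a : Fin k → F}, g ∈ sqG d → (g : Matrix (Fin k) (Fin k) F) = eich d w' a →
        fd d a u = 0 → (g : Matrix (Fin k) (Fin k) F) * (c • wg d w u) *
          ((g⁻¹ : GL (Fin k) F) : Matrix (Fin k) (Fin k) F) = c • wg d (eich d w' a *ᵥ w) u :=
      fun hg hgv ha => by
        rw [conj_smul_wg hD.ne (sqG_le d hg) (by rw [hgv]; exact hfix _ e1 ha), hgv]
    rw [hcm hg hgv hmu, hcm hg' hgv' (by rw [fd_neg_left, hmu, neg_zero]), ← smul_sub, wg_smul_left]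
    congr 1
    simp only [eich_mulVec, hw'w, fd_neg_left, fd_neg_right, neg_neg, fd_symm d w m, hwm, wg, vd_add_left,
      vd_add_right, vd_sub_left, vd_sub_right, vd_smul_left, vd_smul_right, vd_neg_left, vd_neg_right]
    match_scalars <;> ring
  · exact ⟨w, hw, hww, fun X => X, Op.id' _, fun _ => rfl⟩

/-- A linear part changes to any other. -/
lemma exists_upgrade {w : Fin k → F} (hw : w ∈ Pp d u v) (hw0 : w ≠ 0) {n₀ : Fin k → F} (hn₀ : n₀ ∈ Pp d u v) :
    ∃ φ : Matrix (Fin k) (Fin k) F → Matrix (Fin k) (Fin k) F, Op (sqG d) φ ∧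
      ∀ c : F, φ (c • wg d w u) = c • wg d n₀ u := by
  obtain ⟨w₁, hw₁, hww₁, φ, hφ, hφv⟩ := exists_aniso_line hD hf hw hw0
  obtain ⟨ψ, hψ, hψv⟩ := exists_swing hD hf hw₁ hww₁ hn₀
  exact ⟨_, hψ.comp (hφ.mono inf_le_left), fun c => by show ψ (φ _) = _; rw [hφv, hψv]⟩

end CfsgLib.Geo.TensorPow.O
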