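/-
The Eichler elements of a pair: commutators, and the algebra they generate.
-/
import Cfsg.Agent.Geo.TensorPow.O.Mono

set_option autoImplicit false
set_option linter.unusedSectionVars false

namespace CfsgLib.Geo.TensorPow.O

open Matrix Cfsg.Geo CfsgLib.Aschbacher
open scoped MatrixGroups commutatorElement

variable {F : Type*} [Field F] {k : ℕ} {d u v : Fin k → F}

/-- The Eichler elements of a pair. -/
def eset (d u v : Fin k → F) : Set (GL (Fin k) F) :=
  {g | ∃ m ∈ Pp d u v, (g : Matrix (Fin k) (Fin k) F) = eich d u m ∨ (g : Matrix (Fin k) (Fin k) F) = eich d v m}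

lemma eset_swap (d u v : Fin k → F) : eset d v u = eset d u v := by
  ext g
  simp only [eset, Set.mem_ofPred_eq, Pp_swap, or_comm]

variable [Fintype F] (hD : Dat d) (hf : Fr d u v)
include hD hf

lemma exists_eset {m : Fin k → F} (hm : m ∈ Pp d u v) :
    ∃ g ∈ eset d u v, g ∈ sqG d ∧ (g : Matrix (Fin k) (Fin k) F) = eich d u m := by
  obtain ⟨g, hg, hgv⟩ := eich_mem_sqG hD.two hD.ne hf.uu hm.1
  exact ⟨g, ⟨m, hm, Or.inl hgv⟩, hg, hgv⟩

lemma eset_sub_sqG : eset d u v ⊆ (sqG d : Set (GL (Fin k) F)) := by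
  rintro g ⟨m, hm, h | h⟩
  · obtain ⟨g', hg', hv⟩ := eich_mem_sqG hD.two hD.ne hf.uu hm.1
    rwa [show g = g' from Units.ext (h.trans hv.symm)]
  · obtain ⟨g', hg', hv⟩ := eich_mem_sqG hD.two hD.ne hf.vv hm.2
    rwa [show g = g' from Units.ext (h.trans hv.symm)]

/-- The exchange of the lines of a pair, generated by Eichler elements. -/
lemma exists_weyl_eset {n : Fin k → F} (hn : n ∈ Pp d u v) (hnn : fd d n n ≠ 0) :
    ∃ g ∈ Subgroup.closure (eset d u v), (g : Matrix (Fin k) (Fin k) F) *ᵥ u = -(fd d n n / 2) • v ∧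
      (g : Matrix (Fin k) (Fin k) F) *ᵥ v = -(2 / fd d n n) • u ∧ (g : Matrix (Fin k) (Fin k) F) *ᵥ n = -n ∧
      ∀ m ∈ Pp d u v, fd d n m = 0 → (g : Matrix (Fin k) (Fin k) F) *ᵥ m = m := by
  have h2 := hD.two
  obtain ⟨g1, hg1, hv1⟩ := eich_mem_sqG h2 hD.ne hf.vv hn.2
  have hn2 : (2 / fd d n n) • n ∈ Pp d u v := (Pp d u v).smul_mem _ hn
  obtain ⟨g2, hg2, hv2⟩ := eich_mem_sqG h2 hD.ne hf.uu hn2.1
  have e1 : g1 ∈ Subgroup.closure (eset d u v) := Subgroup.subset_closure ⟨n, hn, Or.inr hv1⟩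
  have e2 : g2 ∈ Subgroup.closure (eset d u v) := Subgroup.subset_closure ⟨_, hn2, Or.inl hv2⟩
  refine ⟨g1 * g2 * g1, mul_mem (mul_mem e1 e2) e1, ?_⟩
  have e : ∀ z, ((g1 * g2 * g1 : GL (Fin k) F) : Matrix (Fin k) (Fin k) F) *ᵥ z =
      eich d v n *ᵥ (eich d u ((2 / fd d n n) • n) *ᵥ (eich d v n *ᵥ z)) := fun z => by
    rw [CfsgLib.Geo.mul_mulVec, CfsgLib.Geo.mul_mulVec, hv1, hv2]
  have hnu : fd d n u = 0 := by rw [fd_symm, hn.1]
  have hnv : fd d n v = 0 := by rw [fd_symm, hn.2]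
  refine ⟨?_, ?_, ?_, fun m hm hnm => ?_⟩
  all_goals
    rw [e]
    simp only [eich_mulVec, fd_add_right, fd_sub_right, fd_smul_right, fd_smul_left, hf.uu, hf.vv, hf.uv, hf.vu,
      hn.1, hn.2, hnu, hnv]
  · match_scalars <;> field_simp <;> ring
  · match_scalars <;> field_simp <;> ring
  · match_scalars <;> field_simp <;> ring
  · simp only [hm.1, hm.2, hnm]
    match_scalars <;> field_simp <;> ring

/-- Every Eichler element is in the derived group of the group they generate. -/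
lemma eset_sub_derived : eset d u v ⊆ (⁅Subgroup.closure (eset d u v), Subgroup.closure (eset d u v)⁆ :
    Subgroup (GL (Fin k) F)) := by
  suffices H : ∀ {x y : Fin k → F}, Fr d x y → eset d x y = eset d u v → ∀ m ∈ Pp d x y, ∀ g : GL (Fin k) F,
      (g : Matrix (Fin k) (Fin k) F) = eich d x m →
        g ∈ ⁅Subgroup.closure (eset d u v), Subgroup.closure (eset d u v)⁆ by
    rintro g ⟨m, hm, h | h⟩
    · exact H hf rfl m hm g h
    · exact H hf.swap (eset_swap d u v) m (by rw [Pp_swap]; exact hm) g h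
  clear hf
  intro x y hf heq
  rw [← heq]
  have h2 := hD.two
  set D := ⁅Subgroup.closure (eset d x y), Subgroup.closure (eset d x y)⁆
  have hmove : ∀ (T : GL (Fin k) F), T ∈ Subgroup.closure (eset d x y) → T ∈ isoG d → ∀ (l : F),
      (T : Matrix (Fin k) (Fin k) F) *ᵥ x = l • x → ∀ m ∈ Pp d x y, ∀ m', m' ∈ Pp d x y →
      l • (T : Matrix (Fin k) (Fin k) F) *ᵥ m = m + m' → ∀ g : GL (Fin k) F,
      (g : Matrix (Fin k) (Fin k) F) = eich d x m' → g ∈ D := by
    intro T hT hTi l hTx m hm m' hm' hdiff g hg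
    obtain ⟨E, hE, -, hEv⟩ := exists_eset hD hf hm
    have : g = ⁅T, E⁆ := by
      refine Units.ext ?_
      rw [commutatorElement_def, Units.val_mul, Units.val_mul, Units.val_mul, hEv, conj_eich hD.ne hTi, hTx,
        eich_smul_left, hdiff, Units.inv_eq_of_mul_eq_one_right (u := E) (a := eich d x (-m)) (by
          rw [hEv, eich_neg h2 hf.uu hm.1]), eich_mul h2 hf.uu ((Pp d x y).add_mem hm hm').1
          ((Pp d x y).neg_mem hm).1, hg]
      congr 1; abel
    rw [this]
    exact Subgroup.commutator_mem_commutator hT (Subgroup.subset_closure hE)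
  -- anisotropic vectors
  have haniso : ∀ m ∈ Pp d x y, fd d m m ≠ 0 → ∀ g : GL (Fin k) F,
      (g : Matrix (Fin k) (Fin k) F) = eich d x m → g ∈ D := by
    intro m hm hmm g hg
    have hcl : Subgroup.closure (eset d x y) ≤ isoG d :=
      (Subgroup.closure_le _).2 ((eset_sub_sqG hD hf).trans (sqG_le d))
    by_cases h5 : 5 ≤ Fintype.card F
    · obtain ⟨s, hs0, hs1⟩ := exists_scale hD h5
      obtain ⟨W₁, hW₁, hu1, hv1, hn1, -⟩ := exists_weyl_eset hD hf hm hmm
      have hsm : s • m ∈ Pp d x y := (Pp d x y).smul_mem _ hm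
      have hsn : fd d (s • m) (s • m) ≠ 0 := by
        rw [fd_smul_left, fd_smul_right]; exact mul_ne_zero hs0 (mul_ne_zero hs0 hmm)
      obtain ⟨W₂, hW₂, hu2, hv2, hn2, -⟩ := exists_weyl_eset hD hf hsm hsn
      have hs2 : (W₂ : Matrix (Fin k) (Fin k) F) *ᵥ m = -m := by
        rw [Matrix.mulVec_smul, ← smul_neg] at hn2
        exact smul_right_injective _ hs0 hn2
      have hTx : ((W₁ * W₂ : GL (Fin k) F) : Matrix (Fin k) (Fin k) F) *ᵥ x = (s * s) • x := by
        rw [CfsgLib.Geo.mul_mulVec, hu2, Matrix.mulVec_smul, hv1, smul_smul, fd_smul_left, fd_smul_right]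
        congr 1; field_simp
      have hTm : ((W₁ * W₂ : GL (Fin k) F) : Matrix (Fin k) (Fin k) F) *ᵥ m = m := by
        rw [CfsgLib.Geo.mul_mulVec, hs2, Matrix.mulVec_neg, hn1, neg_neg]
      refine hmove _ (mul_mem hW₁ hW₂) (hcl (mul_mem hW₁ hW₂)) _ hTx ((s * s - 1)⁻¹ • m)
        ((Pp d x y).smul_mem _ hm) m hm ?_ g hg
      rw [Matrix.mulVec_smul, hTm, smul_smul]
      have h0 := sub_ne_zero.2 hs1
      have e : s * s * (s * s - 1)⁻¹ = (s * s - 1)⁻¹ + 1 := by
        rw [← sub_eq_zero]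
        linear_combination mul_inv_cancel₀ h0
      rw [e, add_smul, one_smul]
    · have h3 : k ≠ 3 := fun e => h5 (hD.five e)
      obtain ⟨c, hc, hcc, hmc⟩ : ∃ c ∈ Pp d x y, fd d c c = fd d m m ∧ fd d m c = 0 := by
        obtain ⟨a, ha, haa, hma⟩ := hf.exists_orth hD (by have := hD.three; omega) hm hmm
        by_cases h4 : k = 4
        · refine ⟨a, ha, ?_, hma⟩
          have hq : Fintype.card F = 3 := by
            have := Fintype.one_lt_card (α := F)
            have := hD.odd_card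
            omega
          have hsq : ∀ r : F, r ≠ 0 → r * r = 1 := fun r hr => by
            have := FiniteField.pow_card_sub_one_eq_one r hr
            rw [hq] at this
            rw [← sq]; exact this
          rcases mul_self_eq_mul_self_iff.1 ((hsq _ haa).trans (hsq _ hmm).symm) with h | h
          · exact h
          · exfalso
            have h0 := hf.four_aniso hD h4 ((Pp d x y).add_mem hm ha) (by
              simp [fd_add_left, fd_add_right, hma, fd_symm d m a, h])
            have := congrArg (fd d m) h0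
            rw [fd_add_right, hma, add_zero, fd_zero_right] at this
            exact hmm this
        · obtain ⟨b, hb, hbb, hmb, hab⟩ := hf.exists_orth₂ hD (by have := hD.three; omega) hm hmm ha haa hma
          obtain ⟨p, r, hpr⟩ := exists_norm hD haa hbb hab (fd d m m)
          exact ⟨p • a + r • b, (Pp d x y).add_mem ((Pp d x y).smul_mem _ ha) ((Pp d x y).smul_mem _ hb), hpr,
            by simp [fd_add_right, fd_smul_right, hma, hmb]⟩
      have hcc0 : fd d c c ≠ 0 := by rwa [hcc]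
      obtain ⟨W₁, hW₁, hu1, hv1, hn1, -⟩ := exists_weyl_eset hD hf hm hmm
      obtain ⟨W₂, hW₂, hu2, hv2, -, hp2⟩ := exists_weyl_eset hD hf hc hcc0
      have hTx : ((W₁ * W₂ : GL (Fin k) F) : Matrix (Fin k) (Fin k) F) *ᵥ x = (1 : F) • x := by
        rw [CfsgLib.Geo.mul_mulVec, hu2, Matrix.mulVec_smul, hv1, smul_smul, hcc]
        congr 1; field_simp
      have hTm : ((W₁ * W₂ : GL (Fin k) F) : Matrix (Fin k) (Fin k) F) *ᵥ m = -m := by
        rw [CfsgLib.Geo.mul_mulVec, hp2 m hm (by rw [fd_symm, hmc]), hn1]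
      refine hmove _ (mul_mem hW₁ hW₂) (hcl (mul_mem hW₁ hW₂)) _ hTx ((-2 : F)⁻¹ • m)
        ((Pp d x y).smul_mem _ hm) m hm ?_ g hg
      rw [Matrix.mulVec_smul, hTm, one_smul]
      match_scalars
      field_simp
      ring
  intro m hm g hg
  obtain ⟨n, hn, hnn⟩ := hf.exists_aniso hD
  by_cases hmm : fd d m m = 0
  · by_cases h1 : fd d (m + n) (m + n) = 0
    · have h1' : fd d (m + (-1 : F) • n) (m + (-1 : F) • n) ≠ 0 := by
        intro h
        simp only [fd_add_left, fd_add_right, fd_smul_left, fd_smul_right, hmm, fd_symm d m n] at h h1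
        exact mul_ne_zero h2 hnn (by linear_combination h + h1)
      obtain ⟨g₁, -, -, hv₁⟩ := exists_eset hD hf hn
      obtain ⟨g₂, -, -, hv₂⟩ := exists_eset hD hf ((Pp d x y).add_mem hm ((Pp d x y).smul_mem (-1) hn))
      have : g = g₂ * g₁ := Units.ext (by
        rw [Units.val_mul, hv₁, hv₂, eich_mul h2 hf.uu ((Pp d x y).add_mem hm ((Pp d x y).smul_mem _ hn)).1 hn.1, hg]
        congr 1; simp)
      rw [this]
      exact mul_mem (haniso _ ((Pp d x y).add_mem hm ((Pp d x y).smul_mem _ hn)) h1' _ hv₂) (haniso _ hn hnn _ hv₁)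
    · obtain ⟨g₁, -, -, hv₁⟩ := exists_eset hD hf ((Pp d x y).neg_mem hn)
      obtain ⟨g₂, -, -, hv₂⟩ := exists_eset hD hf ((Pp d x y).add_mem hm hn)
      have : g = g₂ * g₁ := Units.ext (by
        rw [Units.val_mul, hv₁, hv₂, eich_mul h2 hf.uu ((Pp d x y).add_mem hm hn).1 ((Pp d x y).neg_mem hn).1, hg]
        congr 1; simp)
      rw [this]
      exact mul_mem (haniso _ ((Pp d x y).add_mem hm hn) h1 _ hv₂)
        (haniso _ ((Pp d x y).neg_mem hn) (by rwa [fd_neg_left, fd_neg_right, neg_neg]) _ hv₁)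
  · exact haniso m hm hmm g hg

/-- The Eichler elements of a pair generate every matrix as an algebra. -/
lemma eset_generates (A : Submodule F (Matrix (Fin k) (Fin k) F)) (h1 : (1 : Matrix (Fin k) (Fin k) F) ∈ A)
    (hmul : ∀ X ∈ A, ∀ Y ∈ A, X * Y ∈ A) (hE : ∀ g ∈ eset d u v, (g : Matrix (Fin k) (Fin k) F) ∈ A)
    (X : Matrix (Fin k) (Fin k) F) : X ∈ A := by
  have h2 := hD.two
  have hd := hD.ne
  obtain ⟨n, hn, hnn⟩ := hf.exists_aniso hD
  have key : ∀ {x y : Fin k → F}, Fr d x y → eset d x y = eset d u v → n ∈ Pp d x y →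
      (∀ m ∈ Pp d x y, wg d m x ∈ A) ∧ vd d x x ∈ A := by
    intro x y hxy heq hnP
    have hN : ∀ m ∈ Pp d x y, wg d m x ∈ A := fun m hm => by
      obtain ⟨g, hg, -, hgv⟩ := exists_eset hD hxy hm
      obtain ⟨g', hg', -, hgv'⟩ := exists_eset hD hxy ((Pp d x y).neg_mem hm)
      have := A.smul_mem (2 : F)⁻¹ (A.sub_mem (hE g (heq ▸ hg)) (hE g' (heq ▸ hg')))
      rw [hgv, hgv', eich, eich, fd_neg_left, fd_neg_right, neg_neg, ← neg_one_smul F m, wg_smul_left] at this
      convert this using 1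
      match_scalars <;> field_simp <;> ring
    refine ⟨hN, ?_⟩
    have := A.smul_mem (-fd d n n)⁻¹ (hmul _ (hN n hnP) _ (hN n hnP))
    rwa [nm_mul hxy hnP hnP, inv_smul_smul₀ (neg_ne_zero.2 hnn)] at this
  obtain ⟨hNu, hZu⟩ := key hf rfl hn
  obtain ⟨hNv, hZv⟩ := key hf.swap (eset_swap d u v) (by rw [Pp_swap]; exact hn)
  have huv : vd d u v ∈ A := by
    have := hmul _ hZu _ hZv; rwa [vd_mul_vd, hf.uv, one_smul] at this
  have hvu : vd d v u ∈ A := by
    have := hmul _ hZv _ hZu; rwa [vd_mul_vd, hf.vu, one_smul] at this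
  have hmx : ∀ m ∈ Pp d u v, vd d m u ∈ A ∧ vd d u m ∈ A ∧ vd d m v ∈ A ∧ vd d v m ∈ A := fun m hm => by
    have hm' : m ∈ Pp d v u := by rw [Pp_swap]; exact hm
    have hmv : fd d m v = 0 := by rw [fd_symm, hm.2]
    have hmu : fd d m u = 0 := by rw [fd_symm, hm.1]
    refine ⟨?_, ?_, ?_, ?_⟩
    · have := hmul _ (hNu m hm) _ hvu
      simpa [wg, sub_mul, vd_mul_vd, hf.uv, hmv] using this
    · have := A.neg_mem (hmul _ huv _ (hNu m hm))
      simpa [wg, mul_sub, vd_mul_vd, hf.vu, hm.2] using this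
    · have := hmul _ (hNv m hm') _ huv
      simpa [wg, sub_mul, vd_mul_vd, hf.vu, hmu] using this
    · have := A.neg_mem (hmul _ hvu _ (hNv m hm'))
      simpa [wg, mul_sub, vd_mul_vd, hf.uv, hm.1] using this
  have hfr : ∀ a b, (a = u ∨ a = v ∨ a ∈ Pp d u v) → (b = u ∨ b = v ∨ b ∈ Pp d u v) → vd d a b ∈ A := by
    intro a b ha hb
    rcases ha with rfl | rfl | ha <;> rcases hb with hb | hb | hb
    · rw [hb]; exact hZu
    · rw [hb]; exact huv
    · exact (hmx b hb).2.1
    · rw [hb]; exact hvu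
    · rw [hb]; exact hZv
    · exact (hmx b hb).2.2.2
    · rw [hb]; exact (hmx a ha).1
    · rw [hb]; exact (hmx a ha).2.2.1
    · have := hmul _ (hmx a ha).1 _ (hmx b hb).2.2.2
      rwa [vd_mul_vd, hf.uv, one_smul] at this
  have hall : ∀ a b, vd d a b ∈ A := fun a b => by
    have ha := prj_mem hf a
    have hb := prj_mem hf b
    rw [prj_decomp (d := d) (u := u) (v := v) a, prj_decomp (d := d) (u := u) (v := v) b]
    simp only [vd_add_left, vd_add_right, vd_smul_left, vd_smul_right]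
    repeat' first | apply A.add_mem | apply A.smul_mem
    all_goals apply hfr <;> simp [ha, hb]
  rw [Matrix.matrix_eq_sum_single X]
  refine A.sum_mem fun i _ => A.sum_mem fun j _ => ?_
  have : Matrix.single i j (X i j) = (X i j * (d j)⁻¹) • vd d (Pi.single i 1) (Pi.single j 1) := Matrix.ext fun a b => by
    have := hd j
    simp only [Matrix.single_apply, Matrix.smul_apply, vd_apply, Pi.single_apply, smul_eq_mul]
    by_cases h1 : i = a <;> by_cases h2 : j = b <;> simp [h1, h2, eq_comm]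
    subst h2; field_simp
  rw [this]
  exact A.smul_mem _ (hall _ _)

end CfsgLib.Geo.TensorPow.O
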