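/-
The derived group of the isometries of a diagonal form: squares and two full root groups.
-/
import Cfsg.Agent.Geo.TensorPow.O.Base
import Cfsg.Agent.Geo.OrthSiegel
import Cfsg.Agent.Quad.OmegaMem

set_option autoImplicit false
set_option linter.unusedSectionVars false

namespace CfsgLib.Geo.TensorPow.O

open Matrix CfsgLib.Geo CfsgLib.Quad QuadraticMap
open scoped MatrixGroups

variable {F : Type*} [Field F] {ι : Type} [Fintype ι] [DecidableEq ι]

/-- The derived group of the isometries. -/
def omD (e : ι → F) : Subgroup (GL ι F) := ⁅isoG e, isoG e⁆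

lemma omD_le (e : ι → F) : omD e ≤ isoG e := Subgroup.commutator_le_self _

/-- The quadratic form of a diagonal form. -/
noncomputable def qd (e : ι → F) : QuadraticForm F (ι → F) :=
  LinearMap.BilinMap.toQuadraticMap (LinearMap.mk₂ F (fun x y => fd e x y / 2)
    (fun x x' y => by rw [fd_add_left, add_div]) (fun c x y => by rw [fd_smul_left, smul_eq_mul, mul_div_assoc])
    (fun x y y' => by rw [fd_add_right, add_div]) fun c x y => by rw [fd_smul_right, smul_eq_mul, mul_div_assoc])

lemma qd_apply (e x : ι → F) : qd e x = fd e x x / 2 := rfl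

variable {e : ι → F} (h2 : (2 : F) ≠ 0) (he : ∀ i, e i ≠ 0)
include h2

lemma qd_polar (x y : ι → F) : polar (qd e) x y = fd e x y := by
  simp only [polar, qd_apply, fd_add_left, fd_add_right, fd_symm e x y]
  field_simp
  ring

include he

lemma qd_nondeg : (polarBilin (qd e)).Nondegenerate :=
  ⟨fun v hv => eq_zero_of_fd he fun y => by rw [← qd_polar h2]; exact hv y,
    fun v hv => eq_zero_of_fd he fun y => by rw [fd_symm, ← qd_polar h2]; exact hv y⟩

lemma qd_gen : (∃ t : F, t ≠ 0 ∧ t ≠ 1) ∨ Module.finrank F (ι → F) ≠ 4 :=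
  Or.inl ⟨-1, by simp, fun e => h2 (by linear_combination -e)⟩

omit he in
lemma isometryGroup_qd : Cfsg.isometryGroup F ⇑(qd e) = isoG e := by
  ext g
  constructor
  · intro h x y
    rw [← qd_polar h2, ← qd_polar h2]
    have h' : ∀ x, qd e ((g : Matrix ι ι F) *ᵥ x) = qd e x := fun x => h x x
    simp only [polar, ← mulVec_add, h']
  · intro h x _
    show qd e ((g : Matrix ι ι F) *ᵥ x) = qd e x
    rw [qd_apply, qd_apply, h]

/-- The matrix of an isometry of the quadratic form. -/
noncomputable def toG (e : ι → F) : oGroup (qd e) →* GL ι F :=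
  (Cfsg.isometryGroup F ⇑(qd e)).subtype.comp (isoGroupEquiv (qd e)).symm.toMonoidHom

omit he h2 in
lemma toG_mulVec (g : oGroup (qd e)) (x : ι → F) : (toG e g : Matrix ι ι F) *ᵥ x = g.1 x :=
  (isoGroupEquiv_eq_iff (qd e) ((isoGroupEquiv (qd e)).symm g) g).1 (MulEquiv.apply_symm_apply _ g) x

omit he in
lemma range_toG : (toG e).range = isoG e := by
  rw [← isometryGroup_qd h2, toG, MonoidHom.range_comp,
    MonoidHom.range_eq_top.2 (isoGroupEquiv (qd e)).symm.surjective, ← MonoidHom.range_eq_map, Subgroup.range_subtype]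

omit he in
lemma map_commutator_qd : (commutator (oGroup (qd e))).map (toG e) = omD e := by
  rw [commutator_def, Subgroup.map_commutator, ← MonoidHom.range_eq_map, range_toG h2, omD]

variable [Finite F]

lemma sq_mem_omD {g : GL ι F} (hg : g ∈ isoG e) : g * g ∈ omD e := by
  rw [← range_toG h2] at hg
  obtain ⟨h, rfl⟩ := hg
  obtain ⟨vs, hvs, rfl⟩ := exists_reflProd (qd_nondeg h2 he) (qd_gen h2 he) h
  rw [← map_mul, ← reflProd_append, ← map_commutator_qd h2]
  refine Subgroup.mem_map_of_mem _ ((reflProd_mem_commutator_iff (qd_nondeg h2 he) (qd_gen h2 he)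
    (List.forall_mem_append.2 ⟨hvs, hvs⟩)).2 ⟨⟨vs.length, by rw [List.length_append]⟩, ?_⟩)
  rw [List.map_append, List.prod_append]
  exact ⟨_, rfl⟩

lemma sqG_le_omD : sqG e ≤ omD e :=
  (Subgroup.closure_le _).2 (Set.image_subset_iff.2 fun _ hh => sq_mem_omD h2 he hh)

/-- Two full root groups generate the derived group. -/
theorem omD_le_of_full (h5 : 5 ≤ Fintype.card ι) {M : Subgroup (GL ι F)} (h : TwoFull e M) : omD e ≤ M := by
  obtain ⟨x, y, hx, hy, hxy, hFx, hFy⟩ := h
  have key : ∀ {z : ι → F}, fd e z z = 0 → FullAt e M z → OS.Full (M.comap (toG e)) z := fun {z} hz hFz a ha => by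
    have hqz : qd e z = 0 := by rw [qd_apply, hz, zero_div]
    obtain ⟨g, hg, hgv⟩ := hFz a (by rw [← qd_polar h2]; exact ha)
    show toG e (siegel (qd e) z a) ∈ M
    convert hg using 1
    refine Units.ext (Matrix.ext_iff_mulVec.2 fun w => ?_)
    rw [hgv, toG_mulVec, eich_mulVec, siegel_apply hqz ha, qd_polar h2, qd_polar h2, qd_apply,
      fd_symm e z w, fd_symm e a w, add_smul]
    abel
  rw [← map_commutator_qd h2]
  refine Subgroup.map_le_iff_le_comap.2 (OS.commutator_le_of_two (qd_nondeg h2 he) ?_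
    (by rw [qd_apply, hx, zero_div]) (by rw [qd_apply, hy, zero_div]) (by rwa [qd_polar h2])
    (key hx hFx) (key hy hFy))
  rwa [Module.finrank_fintype_fun_eq_card]

end CfsgLib.Geo.TensorPow.O
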