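/-
One root element of the simplest shape gives two full root groups.
-/
import Cfsg.Agent.Geo.TensorPow.O.Base

set_option autoImplicit false
set_option linter.unusedSectionVars false

namespace CfsgLib.Geo.TensorPow.O

open Matrix Cfsg.Geo CfsgLib.Aschbacher
open scoped MatrixGroups

variable {F : Type*} [Field F]

section asub

variable {ι : Type} [Fintype ι] [DecidableEq ι] {e : ι → F} {M : Subgroup (GL ι F)} {x : ι → F}

/-- The vectors whose multiples give Eichler transformations of the group at a vector. -/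
def asub (M : Subgroup (GL ι F)) (h2 : (2 : F) ≠ 0) (hx : fd e x x = 0) : Submodule F (ι → F) where
  carrier := {a | fd e x a = 0 ∧ ∀ f : F, InA e M x (f • a)}
  add_mem' {a b} ha hb := ⟨by rw [fd_add_right, ha.1, hb.1, add_zero], fun f => by
    rw [smul_add]
    exact (ha.2 f).add h2 hx (by rw [fd_smul_right, ha.1, mul_zero]) (by rw [fd_smul_right, hb.1, mul_zero]) (hb.2 f)⟩
  zero_mem' := ⟨fd_zero_right e x, fun f => by rw [smul_zero]; exact InA.zero x⟩
  smul_mem' c a ha := ⟨by rw [fd_smul_right, ha.1, mul_zero], fun f => by rw [smul_smul]; exact ha.2 _⟩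

variable {h2 : (2 : F) ≠ 0} {hx : fd e x x = 0}

lemma mem_asub {a : ι → F} : a ∈ asub M h2 hx ↔ fd e x a = 0 ∧ ∀ f : F, InA e M x (f • a) := Iff.rfl

lemma asub_move (he : ∀ i, e i ≠ 0) (hM : M ≤ isoG e) {g : GL ι F} (hg : g ∈ M)
    (hgx : (g : Matrix ι ι F) *ᵥ x = x) {a : ι → F} (ha : a ∈ asub M h2 hx) :
    (g : Matrix ι ι F) *ᵥ a ∈ asub M h2 hx := by
  obtain ⟨h0, h1⟩ := ha
  refine ⟨?_, fun f => ?_⟩
  · have := hM hg x a
    rw [hgx] at this
    rw [this, h0]
  · have := (h1 f).conj he hM hg
    rwa [hgx, Matrix.mulVec_smul] at this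

end asub

variable [Fintype F] {t k : ℕ} {d u v : Fin k → F} {M : Subgroup (GL (Fin t → Fin k) F)}

lemma exists_sq_add_sq (hD : Dat d) (f : F) : ∃ a b : F, a * a + b * b = f := by
  obtain ⟨a, b, h⟩ := FiniteField.exists_root_sum_quadratic
    (f := Polynomial.X ^ 2 - Polynomial.C f) (g := (Polynomial.X : Polynomial F) ^ 2)
    (by rw [Polynomial.degree_X_pow_sub_C (by norm_num)]; rfl)
    (by rw [Polynomial.degree_X_pow]; rfl) hD.odd_card
  refine ⟨a, b, ?_⟩
  simp at h
  linear_combination h

lemma pvU_mulVec (i : Fin t) (A : Matrix (Fin k) (Fin k) F) (y : Fin t → Fin k → F) (z : Fin k → F) :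
    slot i A *ᵥ pvU y i z = pvU y i (A *ᵥ z) := by
  rw [pvU_apply, slot_mulVec_pv, Function.update_self, Function.update_idem, pvU_apply]

lemma fd_pv_zero {a b : Fin t → Fin k → F} (l : Fin t) (h : fd d (a l) (b l) = 0) :
    fd (dt d t) (pv a) (pv b) = 0 := by
  rw [fd_pv]; exact Finset.prod_eq_zero (Finset.mem_univ l) h

lemma Base.slot_pv (hM : Base d M) (hd : ∀ p, d p ≠ 0) (i : Fin t) {g : GL (Fin k) F} (hg : g ∈ sqG d) :
    ∃ G ∈ M, ∀ y : Fin t → Fin k → F, (G : Mt t k F) *ᵥ pv y =
      pv (Function.update y i ((g : Matrix (Fin k) (Fin k) F) *ᵥ y i)) :=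
  ⟨slotU i g, hM.slot_sq hd i hg, fun y => by rw [slotU_val, slot_mulVec_pv]⟩

lemma Base.tens_sq (hM : Base d M) (hd : ∀ p, d p ≠ 0) (W : Fin t → GL (Fin k) F) (hW : ∀ l, W l ∈ sqG d) :
    ∃ G ∈ M, (G : Mt t k F) = tens fun l => (W l : Matrix (Fin k) (Fin k) F) := by
  classical
  suffices H : ∀ s : Finset (Fin t), ∃ G ∈ M, (G : Mt t k F) =
      tens (s.piecewise (fun l => (W l : Matrix (Fin k) (Fin k) F)) fun _ => 1) by
    obtain ⟨G, hG, hGv⟩ := H Finset.univ
    exact ⟨G, hG, by rw [hGv, Finset.piecewise_univ]⟩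
  intro s
  induction s using Finset.induction with
  | empty => exact ⟨1, M.one_mem, by rw [Finset.piecewise_empty, tens_one]; rfl⟩
  | insert a s ha ih =>
    obtain ⟨G, hG, hGv⟩ := ih
    refine ⟨slotU a (W a) * G, M.mul_mem (hM.slot_sq hd a (hW a)) hG, ?_⟩
    rw [Units.val_mul, slotU_val, hGv, slot, tens_mul]
    congr 1
    funext l
    rcases eq_or_ne l a with rfl | hl
    · simp [ha]
    · simp [hl, Function.update_of_ne hl, Finset.piecewise]

/-- Raising one coordinate of the tensors of `asub`. -/
lemma asub_raise (hD : Dat d) (hM : Base d M) (hf : Fr d u v) {hU : fd (dt d t) (pv fun _ => u) (pv fun _ => u) = 0}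
    (r : Fin t) (y : Fin t → Fin k → F) (hy : pvU y r v ∈ asub M hD.two hU) (z : Fin k → F) :
    pvU y r z ∈ asub M hD.two hU := by
  have h2 := hD.two
  set P := asub M hD.two hU
  have hmove : ∀ m ∈ Pp d u v, pvU y r (v + m - (fd d m m / 2) • u) ∈ P := fun m hm => by
    obtain ⟨g, hg, hgv⟩ := eich_mem_sqG h2 hD.ne hf.uu hm.1
    obtain ⟨G, hG, hGv⟩ := hM.slot_pv hD.ne r hg
    have hfix : (g : Matrix (Fin k) (Fin k) F) *ᵥ u = u := by
      rw [hgv, eich_mulVec, hf.uu, fd_symm d u m, hm.1]; simp
    have := asub_move (dt_ne hD.ne) hM.iso hG (by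
      rw [hGv, hfix]; congr 1; exact Function.update_eq_self r _) hy
    rw [pvU_apply, hGv, Function.update_self, Function.update_idem, hgv, eich_mulVec, hf.uv,
      fd_symm d v m, hm.2] at this
    simpa [pvU_apply] using this
  have hperp : ∀ m ∈ Pp d u v, pvU y r m ∈ P := fun m hm => by
    have := P.smul_mem (2 : F)⁻¹ (P.sub_mem (hmove m hm) (hmove (-m) ((Pp d u v).neg_mem hm)))
    rw [← map_sub, ← map_smul, fd_neg_left, fd_neg_right, neg_neg] at this
    convert this using 2
    rw [add_sub_right_comm, add_sub_right_comm v (-m), add_sub_add_left_eq_sub, sub_neg_eq_add, smul_add,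
      ← add_smul, show (2 : F)⁻¹ + 2⁻¹ = 1 by field_simp; norm_num, one_smul]
  have hu : pvU y r u ∈ P := by
    obtain ⟨n, hn, hnn⟩ := hf.exists_aniso hD
    have := P.smul_mem (-(2 / fd d n n)) (P.sub_mem (P.sub_mem (hmove n hn) (hperp n hn)) hy)
    rw [← map_sub, ← map_sub, ← map_smul] at this
    convert this using 2
    rw [add_sub_right_comm, add_sub_cancel_right, sub_sub_cancel_left, neg_smul_neg, smul_smul]
    field_simp
    rw [one_smul]
  rw [prj_decomp (d := d) (u := u) (v := v) z, map_add, map_add, map_smul, map_smul]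
  exact P.add_mem (P.add_mem (P.smul_mem _ hu) (P.smul_mem _ hy)) (hperp _ (prj_mem hf z))

/-- All tensors with given coordinate `u` or a perpendicular one. -/
lemma asub_all (hD : Dat d) (hM : Base d M) (hf : Fr d u v) {hU : fd (dt d t) (pv fun _ => u) (pv fun _ => u) = 0}
    (j : Fin t) (w : Fin k → F) (h : pvU (fun _ => v) j w ∈ asub M hD.two hU) (y : Fin t → Fin k → F) :
    pvU y j w ∈ asub M hD.two hU := by
  classical
  suffices H : ∀ s : Finset (Fin t), j ∉ s → pvU (s.piecewise y fun _ => v) j w ∈ asub M hD.two hU by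
    have := H (Finset.univ.erase j) (Finset.notMem_erase j _)
    rw [pvU_apply] at this ⊢
    convert this using 2
    funext l
    rcases eq_or_ne l j with rfl | hl
    · simp
    · simp [Function.update_of_ne hl, hl]
  intro s
  induction s using Finset.induction with
  | empty => intro _; rwa [Finset.piecewise_empty]
  | insert a s ha ih =>
    intro hj
    rw [Finset.mem_insert, not_or] at hj
    have h1 := ih hj.2
    rw [pvU_apply] at h1
    have := asub_raise hD hM hf a (Function.update (s.piecewise y fun _ => v) j w) (by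
      rwa [pvU_apply, Function.update_eq_self_iff.2 (by simp [Function.update_of_ne (Ne.symm hj.1), ha])]) (y a)
    rw [pvU_apply] at this ⊢
    convert this using 2
    rw [Finset.piecewise_insert, Function.update_comm (Ne.symm hj.1)]

/-- One root element of the simplest shape gives two full root groups. -/
theorem twoFull_of_root (hD : Dat d) (hM : Base d M) (hf : Fr d u v) (ht : 2 ≤ t) {j : Fin t} {n : Fin k → F}
    (hn : n ∈ Pp d u v) (hnn : fd d n n ≠ 0) {c : F} (hc : c ≠ 0)
    (h : InA (dt d t) M (pv fun _ => u) (c • pvU (fun _ => u) j n)) : TwoFull (dt d t) M := by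
  classical
  have h2 := hD.two
  have he := dt_ne (t := t) hD.ne
  set eU : (Fin t → Fin k) → F := pv fun _ => u with heU
  have hU : fd (dt d t) eU eU = 0 := fd_pv_zero ⟨0, by omega⟩ hf.uu
  set P := asub M h2 hU with hP
  obtain ⟨w₀, hw₀, hwu, hwv, hwn, -⟩ := exists_weyl hD hf hn hnn
  set α := -(fd d n n / 2) with hα
  have hα0 : α ≠ 0 := neg_ne_zero.2 (div_ne_zero hnn h2)
  -- transport to the tensors with one coordinate
  have hflip : ∀ (l : Fin t) (n' : Fin k → F), n' ∈ Pp d u v → pvU (fun _ => u) l n' ∈ P → ∀ f : F,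
      InA (dt d t) M (pvU (fun _ => v) l u) (f • pvU (fun _ => v) l n') := by
    intro l n' hn' hP' f
    obtain ⟨G, hG, hGv⟩ := hM.tens_sq hD.ne (Function.update (fun _ => w₀) l 1) fun r => by
      rcases eq_or_ne r l with rfl | hr
      · simp [(sqG d).one_mem]
      · simpa [Function.update_of_ne hr] using hw₀
    have hval : ∀ z, (G : Mt t k F) *ᵥ pvU (fun _ => u) l z = α ^ (t - 1) • pvU (fun _ => v) l z := fun z => by
      rw [hGv, pvU_apply, tens_mulVec_pv, pvU_apply]
      funext x
      rw [Pi.smul_apply, smul_eq_mul, pv_update_apply]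
      simp only [pv]
      rw [← Finset.mul_prod_erase _ _ (Finset.mem_univ l), Finset.prod_congr rfl (g := fun r => α * v (x r))
        fun r hr => by
          rw [Function.update_of_ne (Finset.ne_of_mem_erase hr), Function.update_of_ne (Finset.ne_of_mem_erase hr),
            hwu, Pi.smul_apply, smul_eq_mul],
        Finset.prod_mul_distrib, Finset.prod_const, Finset.card_erase_of_mem (Finset.mem_univ l), Finset.card_univ,
        Fintype.card_fin]
      simp
      ring
    have hpu : eU = pvU (fun _ => u) l u := (pvU_self (fun _ => u) l).symm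
    have := ((hP'.2 (f / (α ^ (t - 1) * α ^ (t - 1)))).conj he hM.iso hG)
    rw [hpu, Matrix.mulVec_smul, hval, hval] at this
    have := this.smul_left
    rw [smul_smul, smul_smul] at this
    convert this using 2
    field_simp
  have hfix : ∀ (l : Fin t) (n' : Fin k → F), n' ∈ Pp d u v → pvU (fun _ => u) l n' ∈ P → ∀ f : F,
      ∀ a ∈ P, a + (f * fd (dt d t) (pvU (fun _ => v) l u) a) • pvU (fun _ => v) l n' -
        (f * fd (dt d t) (pvU (fun _ => v) l n') a) • pvU (fun _ => v) l u -
        (f * f * fd (dt d t) (pvU (fun _ => v) l n') (pvU (fun _ => v) l n') / 2 *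
          fd (dt d t) (pvU (fun _ => v) l u) a) • pvU (fun _ => v) l u ∈ P := by
    intro l n' hn' hP' f a ha
    obtain ⟨g, hg, hgv⟩ := hflip l n' hn' hP' f
    have := asub_move he hM.iso hg (by
      rw [hgv, eich_mulVec, fd_smul_left, heU, pvU_apply, pvU_apply, fd_pv_zero l (by simp [hf.uu]),
        fd_pv_zero l (by simp [fd_symm d u n', hn'.1])]
      simp) ha
    rw [hgv, eich_mulVec] at this
    convert this using 1
    simp only [fd_smul_left, fd_smul_right, smul_smul]
    match_scalars <;> ring
  -- the first coordinate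
  have haj : pvU (fun _ => u) j n ∈ P := by
    refine ⟨by rw [heU, pvU_apply]; exact fd_pv_zero j (by simp [hn.1]), fun f => ?_⟩
    have hsq : ∀ a : F, InA (dt d t) M eU ((a * a * c) • pvU (fun _ => u) j n) := by
      intro a
      rcases eq_or_ne a 0 with rfl | ha
      · simpa using InA.zero eU
      obtain ⟨g, hg, hgu, -, hgm⟩ := exists_torus_sq hD.ne hf ha
      obtain ⟨G, hG, hGv⟩ := hM.slot_pv hD.ne j hg
      have h1 : (G : Mt t k F) *ᵥ eU = (a * a) • eU := by
        rw [heU, hGv, hgu, ← pvU_apply, map_smul, pvU_self]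
      have h2' : (G : Mt t k F) *ᵥ (c • pvU (fun _ => u) j n) = c • pvU (fun _ => u) j n := by
        rw [Matrix.mulVec_smul, pvU_apply, hGv, Function.update_self, Function.update_idem, hgm n hn]
      have := h.conj he hM.iso hG
      rw [h1, h2'] at this
      have := this.smul_left
      rwa [smul_smul] at this
    obtain ⟨a, b, hab⟩ := exists_sq_add_sq hD (f / c)
    have := (hsq a).add h2 hU (by rw [fd_smul_right, heU, pvU_apply, fd_pv_zero j (by simp [hn.1]), mul_zero])
      (by rw [fd_smul_right, heU, pvU_apply, fd_pv_zero j (by simp [hn.1]), mul_zero]) (hsq b)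
    rwa [← add_smul, ← add_mul, hab, div_mul_cancel₀ _ hc] at this
  -- the tensors with one coordinate `u`
  have hwithU : ∀ (l : Fin t) (n' : Fin k → F), n' ∈ Pp d u v → fd d n' n' ≠ 0 → pvU (fun _ => u) l n' ∈ P →
      ∀ y, pvU y l u ∈ P := by
    intro l n' hn' hnn' hP' y
    refine asub_all hD hM hf l u ?_ y
    have := hfix l n' hn' hP' 1 _ hP'
    rw [pvU_apply (fun _ => v) l u, pvU_apply (fun _ => u) l n', fd_pv_zero l (by simp [hn'.1]),
      pvU_apply (fun _ => v) l n', fd_pv, ← Finset.mul_prod_erase _ _ (Finset.mem_univ l), Function.update_self,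
      Function.update_self, Finset.prod_eq_one (fun r hr => by
        rw [Function.update_of_ne (Finset.ne_of_mem_erase hr), Function.update_of_ne (Finset.ne_of_mem_erase hr),
          hf.vu]), mul_one] at this
    simp only [mul_zero, zero_smul, add_zero, one_mul, sub_zero, ← pvU_apply] at this
    have hh := P.smul_mem (fd d n' n')⁻¹ (P.sub_mem hP' this)
    rwa [sub_sub_cancel, smul_smul, inv_mul_cancel₀ hnn', one_smul] at hh
  obtain ⟨l₀, hl₀⟩ := Fintype.exists_ne_of_one_lt_card (by simp; omega) j
  have hallU : ∀ (l : Fin t) (y : Fin t → Fin k → F), pvU y l u ∈ P := by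
    intro l y
    rcases eq_or_ne l j with rfl | hl
    · exact hwithU l n hn hnn haj y
    · refine hwithU l n hn hnn ?_ y
      have := hwithU j n hn hnn haj (Function.update (fun _ => u) l n)
      rwa [pvU_apply, Function.update_eq_self_iff.2 (by simp [Function.update_of_ne hl.symm]),
        ← pvU_apply] at this
  have hbase : ∀ (l : Fin t) (n' : Fin k → F), pvU (fun _ => u) l n' ∈ P := by
    intro l n'
    obtain ⟨r, hr⟩ := Fintype.exists_ne_of_one_lt_card (by simp; omega) l
    have := hallU r (Function.update (fun _ => u) l n')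
    rwa [pvU_apply, Function.update_eq_self_iff.2 (by simp [Function.update_of_ne hr]), ← pvU_apply] at this
  have hperp : ∀ (l : Fin t) (n' : Fin k → F), n' ∈ Pp d u v → ∀ y, pvU y l n' ∈ P := by
    intro l n' hn'
    refine asub_all hD hM hf l n' ?_
    have ha : pvU (fun _ => u) l v ∈ P := by
      obtain ⟨r, hr⟩ := Fintype.exists_ne_of_one_lt_card (by simp; omega) l
      have := hallU r (Function.update (fun _ => u) l v)
      rwa [pvU_apply, Function.update_eq_self_iff.2 (by simp [Function.update_of_ne hr]), ← pvU_apply] at this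
    have := hfix l n' hn' (hbase l n') 1 _ ha
    rw [pvU_apply (fun _ => v) l u, pvU_apply (fun _ => u) l v, pvU_apply (fun _ => v) l n',
      fd_pv_zero l (a := Function.update (fun _ => v) l n') (b := Function.update (fun _ => u) l v)
        (by simp [fd_symm d v n', hn'.2]), fd_pv (Function.update (fun _ => v) l u),
      Finset.prod_eq_one (fun r _ => by
        rcases eq_or_ne r l with rfl | hr
        · simp [hf.uv]
        · simp [Function.update_of_ne hr, hf.vu])] at this
    obtain ⟨r, hr⟩ := Fintype.exists_ne_of_one_lt_card (by simp; omega) l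
    rw [fd_pv_zero r (a := Function.update (fun _ => v) l n') (b := Function.update (fun _ => v) l n')
      (by simp [Function.update_of_ne hr, hf.vv])] at this
    simp only [one_mul, mul_one, mul_zero, zero_div, zero_smul, sub_zero, one_smul, ← pvU_apply] at this
    simpa using P.sub_mem this ha
  -- every vector perpendicular to `eU`
  have hstep : ∀ y : Fin t → Fin k → F, pv y - (∏ l, fd d u (y l)) • pv (fun _ => v) ∈ P := by
    intro y
    suffices H : ∀ s : Finset (Fin t), pv y - pv (s.piecewise (fun l => fd d u (y l) • v) y) ∈ P by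
      have := H Finset.univ
      rw [Finset.piecewise_univ] at this
      convert this using 2
      funext x
      simp [pv, Finset.prod_mul_distrib]
    intro s
    induction s using Finset.induction with
    | empty => simp [P.zero_mem]
    | insert a s ha ih =>
      set z := s.piecewise (fun l => fd d u (y l) • v) y with hz
      have e : y a - fd d u (y a) • v = fd d v (y a) • u + prj d u v (y a) := by
        conv_lhs => arg 1; rw [prj_decomp (d := d) (u := u) (v := v) (y a)]
        abel
      have h1 : pvU z a (y a - fd d u (y a) • v) ∈ P := by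
        rw [e, map_add, map_smul]
        exact P.add_mem (P.smul_mem _ (hallU a z)) (hperp a _ (prj_mem hf _) z)
      rw [map_sub, show y a = z a by simp [hz, ha], pvU_self] at h1
      have h2 := P.add_mem ih h1
      rw [sub_add_sub_cancel, pvU_apply] at h2
      rw [Finset.piecewise_insert]
      simpa [hz, ha] using h2
  have hfull : FullAt (dt d t) M eU := by
    intro a ha
    suffices H : a - fd (dt d t) eU a • pv (fun _ => v) ∈ P by
      rw [ha, zero_smul, sub_zero] at H
      simpa using H.2 1
    let R : Submodule F ((Fin t → Fin k) → F) :=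
      P.comap (LinearMap.id - (LinearMap.mk ⟨fun a => fd (dt d t) eU a, fun _ _ => fd_add_right _ _ _ _⟩
        (fun c a => fd_smul_right _ c eU a)).smulRight (pv fun _ => v))
    show a ∈ R
    rw [pi_eq_sum_univ a]
    refine R.sum_mem fun x _ => R.smul_mem _ ?_
    show _ - _ ∈ P
    have := hstep fun l => Pi.single (x l) 1
    rw [← fd_pv (fun _ : Fin t => u), pv_single, ← heU] at this
    rw [show (fun j : Fin t → Fin k => if x = j then (1 : F) else 0) = Pi.single x 1 from
      funext fun y => by simp [Pi.single_apply, eq_comm]]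
    exact this
  have hV : FullAt (dt d t) M (pv fun _ => v) := by
    intro a ha
    obtain ⟨G, hG, hGv⟩ := hM.tens_sq hD.ne (fun _ => w₀) fun _ => hw₀
    have hval : (G : Mt t k F) *ᵥ eU = α ^ t • pv (fun _ => v) := by
      rw [hGv, heU, tens_mulVec_pv]
      funext x
      simp [pv, hwu, Finset.prod_mul_distrib]
    have hinv : (G : Mt t k F) *ᵥ (((G⁻¹ : GL (Fin t → Fin k) F) : Mt t k F) *ᵥ ((α ^ t)⁻¹ • a)) = (α ^ t)⁻¹ • a := by
      rw [Matrix.mulVec_mulVec, Units.mul_inv, Matrix.one_mulVec]
    have h0 : fd (dt d t) eU (((G⁻¹ : GL (Fin t → Fin k) F) : Mt t k F) *ᵥ ((α ^ t)⁻¹ • a)) = 0 := by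
      rw [← hM.iso hG, hval, hinv, fd_smul_left, fd_smul_right, ha]; simp
    have := (hfull _ h0).conj he hM.iso hG
    rw [hinv, hval] at this
    have := this.smul_left
    rwa [smul_smul, mul_inv_cancel₀ (pow_ne_zero _ hα0), one_smul] at this
  exact ⟨eU, pv fun _ => v, hU, fd_pv_zero ⟨0, by omega⟩ hf.vv, by
    rw [heU, fd_pv, Finset.prod_eq_one fun _ _ => hf.uv]; exact one_ne_zero, hfull, hV⟩

end CfsgLib.Geo.TensorPow.O
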