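/-
Restriction to the factors other than one.
-/
import Cfsg.Agent.Geo.TensorPow.O.Root
import Cfsg.Agent.Geo.TensorPow.O.Om
import Cfsg.Agent.Geo.TensorPow.U.Rec

set_option autoImplicit false
set_option linter.unusedSectionVars false

namespace CfsgLib.Geo.TensorPow.O

open Matrix Cfsg.Geo CfsgLib.Aschbacher
open CfsgLib.Geo.TensorPow.U (emb embHom emb_mul emb_one emb_injective exists_emb exists_embHom emb_tens emb_add
  emb_smul embHom_val embHom_mem_wreath)
open scoped MatrixGroups

variable {F : Type*} [Field F] {s t k : ℕ} {d u v : Fin k → F}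

lemma emb_sub (b : Fin (s + 1)) (X Y : Mt s k F) : emb b (X - Y) = emb b X - emb b Y := by
  rw [sub_eq_add_neg, emb_add, ← neg_one_smul F Y, emb_smul, neg_one_smul, ← sub_eq_add_neg]

lemma emb_zero (b : Fin (s + 1)) : emb b (0 : Mt s k F) = 0 := by
  rw [← zero_smul F (1 : Mt s k F), emb_smul, zero_smul]

lemma emb_neg (b : Fin (s + 1)) (X : Mt s k F) : emb b (-X) = -emb b X := by
  rw [← zero_sub, emb_sub, emb_zero, zero_sub]

lemma com_emb (b : Fin (s + 1)) (X : Mt s k F) [NeZero k] : Com b (emb b X) := by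
  refine com_iff_sl.2 fun x y => ⟨X (b.removeNth x) (b.removeNth y), Matrix.ext fun p r => ?_⟩
  simp only [sl_apply, emb, Matrix.of_apply, Function.update_self, Matrix.smul_apply, Matrix.one_apply,
    Fin.removeNth_update, smul_eq_mul]
  split_ifs <;> simp

lemma emb_slot (b : Fin (s + 1)) (i : Fin s) (A : Matrix (Fin k) (Fin k) F) :
    emb b (slot i A : Mt s k F) = slot (b.succAbove i) A := by
  rw [slot, emb_tens, slot]
  congr 1
  funext l
  rcases Fin.eq_self_or_eq_succAbove b l with rfl | ⟨l, rfl⟩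
  · simp [Function.update_of_ne (Fin.succAbove_ne _ i).symm]
  · rcases eq_or_ne l i with rfl | hli <;>
      simp [*, Function.update_of_ne, (Fin.succAbove_right_injective (p := b)).ne_iff]

lemma embHom_slotU (b : Fin (s + 1)) (i : Fin s) (g : GL (Fin k) F) :
    embHom b (slotU i g) = slotU (b.succAbove i) g :=
  Units.ext (by rw [embHom_val, slotU_val, slotU_val, emb_slot])

variable (hd : ∀ p, d p ≠ 0)
include hd

lemma sa_emb (b : Fin (s + 1)) (X : Mt s k F) :
    sa (dt d (s + 1)) (emb b X) = emb b (sa (dt d s) X) := Matrix.ext fun x y => by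
  simp only [sa_apply, emb, Matrix.of_apply, dt, Fin.prod_univ_succAbove _ b, Fin.removeNth]
  by_cases h : x b = y b
  · rw [if_pos h, if_pos h.symm, h]
    have := hd (y b)
    field_simp
  · rw [if_neg h, if_neg (Ne.symm h)]
    simp

variable [Fintype F] {M : Subgroup (GL (Fin (s + 1) → Fin k) F)}

lemma embHom_mem_iso (b : Fin (s + 1)) [NeZero k] {g : GL (Fin s → Fin k) F} :
    embHom b g ∈ isoG (dt d (s + 1)) ↔ g ∈ isoG (dt d s) := by
  rw [mem_isoG (dt_ne hd), mem_isoG (dt_ne hd), embHom_val, sa_emb hd, ← emb_mul, ← emb_one b,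
    (emb_injective b).eq_iff]

lemma comap_base (hM : Base d M) (b : Fin (s + 1)) [NeZero k] : Base d (M.comap (embHom b)) where
  iso _ hg := (embHom_mem_iso hd b).1 (hM.iso hg)
  sq x hx := by
    show embHom b (x * x) ∈ M
    rw [map_mul]
    exact hM.sq _ ⟨embHom_mem_wreath b hx.1, (embHom_mem_iso hd b).2 hx.2⟩
  full he ht i h hh := by
    show embHom b (slotU i h) ∈ M
    rw [embHom_slotU]
    exact hM.full he (by omega) _ h hh

omit hd in
lemma mem_comap {b : Fin (s + 1)} {X : Mt s k F} (h : Mem (M.comap (embHom b)) X) : Mem M (emb b X) := by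
  obtain ⟨g, hg, rfl⟩ := h
  exact ⟨embHom b g, hg, embHom_val b g⟩

omit hd in
/-- The commutator of two unipotent elements. -/
lemma mem_comm_sub {M : Subgroup (GL (Fin t → Fin k) F)} {P Q : Mt t k F}
    (hP : Mem M (1 + P)) (hQ : Mem M (1 + Q)) (hPP : P * P = 0) (hQQ : Q * Q = 0) (hPQP : P * Q * P = 0)
    (hQPQ : Q * P * Q = 0) : Mem M (1 + (P * Q - Q * P)) := by
  have := ((hP.mul hQ).mul (hP.one_sub hPP)).mul (hQ.one_sub hQQ)
  convert this using 1
  have e1 : ∀ Z, P * (P * Z) = 0 := fun Z => by rw [← mul_assoc, hPP, zero_mul]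
  have e2 : ∀ Z, Q * (Q * Z) = 0 := fun Z => by rw [← mul_assoc, hQQ, zero_mul]
  have e3 : ∀ Z, P * (Q * (P * Z)) = 0 := fun Z => by rw [← mul_assoc, ← mul_assoc, hPQP, zero_mul]
  simp only [mul_assoc] at hPQP hQPQ
  simp only [add_mul, mul_add, mul_sub, sub_mul, one_mul, mul_one, mul_assoc, e1, e2, e3, hPP, hQQ, hPQP, hQPQ, zero_mul,
    mul_zero]
  abel

/-- Unipotent elements of the isometries over a full restriction. -/
lemma mem_of_skew (hD : Dat d) (hs : 2 ≤ s) {b : Fin (s + 1)}
    (h : TwoFull (dt d s) (M.comap (embHom b))) {X : Mt (s + 1) k F} (hb : Com b X) (hXX : X * X = 0)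
    (hX : sa (dt d (s + 1)) X = -X) : Mem M (1 + X) := by
  have := hD.neZero
  obtain ⟨Y, rfl⟩ := exists_emb hb
  have hYY : Y * Y = 0 := emb_injective b (by rw [emb_mul, hXX, emb_zero])
  have hY : sa (dt d s) Y = -Y := emb_injective b (by rw [← sa_emb hd, hX, emb_neg])
  set H := (2 : F)⁻¹ • Y with hH
  have hHH : H * H = 0 := by rw [hH, smul_mul_smul_comm, hYY, smul_zero]
  have hHH' : (-H) * (-H) = 0 := by rw [neg_mul_neg, hHH]
  let g : GL (Fin s → Fin k) F := ⟨1 + H, 1 - H, one_add_mul_one_sub hHH,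
    by rw [sub_eq_add_neg, ← sub_neg_eq_add (1 : Mt s k F) H]; simpa [sub_eq_add_neg] using one_add_mul_one_sub hHH'⟩
  have hg : g ∈ isoG (dt d s) := (mem_isoG (dt_ne hd)).2 (by
    show sa _ (1 + H) * (1 + H) = 1
    rw [sa_add, sa_one (dt_ne hd), hH, sa_smul, hY, smul_neg, ← hH, add_comm 1 H, ← sub_eq_add_neg, add_comm H 1]
    exact g.4)
  have h5 : 5 ≤ Fintype.card (Fin s → Fin k) := by
    rw [Fintype.card_fun, Fintype.card_fin, Fintype.card_fin]
    calc 5 ≤ 3 ^ 2 := by norm_num
      _ ≤ k ^ 2 := Nat.pow_le_pow_left hD.three 2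
      _ ≤ k ^ s := Nat.pow_le_pow_right (by have := hD.three; omega) hs
  have := mem_comap (b := b) ⟨g * g, omD_le_of_full hD.two (dt_ne hd) h5 h (sq_mem_omD hD.two (dt_ne hd) hg), rfl⟩
  convert this using 1
  rw [Units.val_mul]
  show _ = emb b ((1 + H) * (1 + H))
  rw [mul_add, add_mul, add_mul, hHH, one_mul, mul_one, one_mul, add_zero, add_assoc, hH, ← add_smul,
    show (2 : F)⁻¹ + 2⁻¹ = 1 by have := hD.two; field_simp; norm_num, one_smul, emb_add, emb_one]

omit hd in
lemma mem_conj_perm {M : Subgroup (GL (Fin t → Fin k) F)} {X : Mt t k F} {π : Equiv.Perm (Fin t)}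
    (hπ : Mem M (permMat k π)) (h : Mem M X) : Mem M (permMat k π * X * permMat k π.symm) :=
  (hπ.mul h).mul (hπ.inv (permMat_mul_inv π))

omit hd in
lemma perm_conj_tens (π : Equiv.Perm (Fin t)) (a : Fin t → Matrix (Fin k) (Fin k) F) :
    (permMat k π : Mt t k F) * tens a * permMat k π.symm = tens fun l => a (π.symm l) := by
  rw [permMat_mul_tens, mul_assoc, permMat_mul_inv, mul_one]

/-- The restriction of an overgroup without full root groups has none. -/
theorem comap_bad (hD : Dat d) (hM : Bad d M) (b : Fin (s + 1)) : Bad d (M.comap (embHom b)) := by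
  have := hD.neZero
  classical
  refine ⟨comap_base hd hM.toBase b, fun hs h => hM.nfull (by omega) ?_⟩
  obtain ⟨a, hab⟩ := Fintype.exists_ne_of_one_lt_card (by simp; omega) b
  obtain ⟨c, hca, hcb⟩ : ∃ c : Fin (s + 1), c ≠ a ∧ c ≠ b := by
    obtain ⟨c, hc⟩ := Finset.exists_mem_notMem_of_card_lt_card (s := ({a, b} : Finset (Fin (s + 1))))
      (t := Finset.univ) (Finset.card_le_two.trans_lt (by simp; omega))
    exact ⟨c, fun e => hc.2 (by simp [e]), fun e => hc.2 (by simp [e])⟩
  obtain ⟨u, v, hf⟩ := exists_fr hD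
  obtain ⟨n, hn, hnn⟩ := hf.exists_aniso hD
  set Z := vd d u u with hZ
  set p : Fin (s + 1) → Matrix (Fin k) (Fin k) F := fun l => if l = a then Z else if l = b then 1 else vd d v u
    with hp
  set p' : Fin (s + 1) → Matrix (Fin k) (Fin k) F := fun l => if l = a then Z else if l = b then 1 else vd d u v
    with hp'
  set w : Fin (s + 1) → Matrix (Fin k) (Fin k) F := fun l => if l = a then 1 else if l = c then vd d n u else Z
    with hw
  set w' : Fin (s + 1) → Matrix (Fin k) (Fin k) F := fun l => if l = a then 1 else if l = c then vd d u n else Z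
    with hw'
  have hsp : ∀ l, sa d (p l) = p' l ∧ sa d (p' l) = p l := fun l => by
    simp only [hp, hp', hZ]; constructor <;> split_ifs <;> simp [sa_vd hd, sa_one hd]
  have hsw : ∀ l, sa d (w l) = w' l ∧ sa d (w' l) = w l := fun l => by
    simp only [hw, hw', hZ]; constructor <;> split_ifs <;> simp [sa_vd hd, sa_one hd]
  set P := (tens p : Mt (s + 1) k F) - tens p' with hP
  set Q := (tens w : Mt (s + 1) k F) - tens w' with hQ
  have hZZ : Z * Z = 0 := by rw [hZ, vd_mul_vd, hf.uu, zero_smul]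
  have hz : ∀ (f g : Fin (s + 1) → Matrix (Fin k) (Fin k) F) l, f l * g l = 0 → (tens f : Mt (s + 1) k F) * tens g = 0 :=
    fun f g l h => by
      rw [tens_mul]
      exact Matrix.ext fun x y => Finset.prod_eq_zero (Finset.mem_univ l)
        (congrFun (congrFun h (x l)) (y l))
  have hPP : P * P = 0 := by
    simp only [hP, sub_mul, mul_sub, hz p p a (by simp [hp, hZZ]), hz p p' a (by simp [hp, hp', hZZ]),
      hz p' p a (by simp [hp, hp', hZZ]), hz p' p' a (by simp [hp', hZZ]), sub_self]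
  have hQQ : Q * Q = 0 := by
    simp only [hQ, sub_mul, mul_sub, hz w w b (by simp [hw, hab.symm, hcb.symm, hZZ]),
      hz w w' b (by simp [hw, hw', hab.symm, hcb.symm, hZZ]), hz w' w b (by simp [hw, hw', hab.symm, hcb.symm, hZZ]),
      hz w' w' b (by simp [hw', hab.symm, hcb.symm, hZZ]), sub_self]
  have hPm : Mem M (1 + P) := by
    refine mem_of_skew hd hD hs h ?_ hPP ?_
    · exact (com_tens (by simp [hp, hab.symm])).sub (com_tens (by simp [hp', hab.symm]))
    · rw [hP, sa_sub, sa_tens, sa_tens, neg_sub]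
      simp only [hsp]
  set σ : Equiv.Perm (Fin (s + 1)) := Equiv.swap a b * Equiv.swap b c with hσ
  set π := σ * σ with hπ
  have hπb : π b = a := by
    simp [hπ, hσ, Equiv.swap_apply_def, hab, hab.symm, hca, hcb]
  have hQm : Mem M (1 + Q) := by
    set Q₀ := (tens (w ∘ π) : Mt (s + 1) k F) - tens (w' ∘ π) with hQ₀
    have hconj : permMat k π * Q₀ * permMat k π.symm = Q := by
      rw [hQ₀, mul_sub, sub_mul, perm_conj_tens, perm_conj_tens, hQ]
      simp [Function.comp_def]
    have hQ₀m : Mem M (1 + Q₀) := by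
      refine mem_of_skew hd hD hs h ?_ ?_ ?_
      · exact (com_tens (by simp [hw, hπb])).sub (com_tens (by simp [hw', hπb]))
      · have e : (permMat k π.symm : Mt (s + 1) k F) * permMat k π = 1 := by
          simpa using permMat_mul_inv (m := k) (F := F) π.symm
        have h0 : Q₀ = permMat k π.symm * Q * permMat k π := by
          rw [← hconj]; simp [mul_assoc, e, ← mul_assoc (permMat k π.symm), ← mul_assoc (permMat k π.symm : Mt _ k F)]
        rw [h0]
        have e' : (permMat k π : Mt (s + 1) k F) * permMat k π.symm = 1 := permMat_mul_inv π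
        calc permMat k π.symm * Q * permMat k π * (permMat k π.symm * Q * permMat k π)
            = permMat k π.symm * (Q * ((permMat k π * permMat k π.symm) * Q)) * permMat k π := by
              simp only [mul_assoc]
          _ = 0 := by rw [e', one_mul, hQQ, mul_zero, zero_mul]
      · rw [hQ₀, sa_sub, sa_tens, sa_tens, neg_sub]
        simp only [Function.comp_def, hsw]
    have := mem_conj_perm (hM.perm_sq hd σ) hQ₀m
    rwa [← hπ, mul_add, mul_one, add_mul, permMat_mul_inv, hconj] at this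
  -- the commutator
  set av : Fin (s + 1) → Fin k → F := Function.update (fun _ => u) c n with hav
  have huv := hf.uv
  have hpw : ∀ l, p' l * w' l = vd d u (av l) ∧ w l * p l = vd d (av l) u := fun l => by
    rcases eq_or_ne l a with rfl | hla
    · simp [hp, hp', hw, hw', hav, hca.symm, hZ]
    rcases eq_or_ne l b with rfl | hlb
    · simp [hp, hp', hw, hw', hav, hla, hcb.symm, hZ]
    rcases eq_or_ne l c with rfl | hlc
    · simp [hp, hp', hw, hw', hav, hla, hlb, vd_mul_vd, hf.vu, hf.uv]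
    · simp [hp, hp', hw, hw', hav, hla, hlb, hlc, vd_mul_vd, hf.vu, hf.uv, hZ]
  have hnu : fd d n u = 0 := by rw [fd_symm, hn.1]
  have hPQ : P * Q - Q * P = wg (dt d (s + 1)) (pv fun _ => u) (pv av) := by
    have e1 := hz p w c (by simp [hp, hw, hca, hcb, vd_mul_vd, hn.1])
    have e2 := hz p w' c (by simp [hp, hw', hca, hcb, vd_mul_vd, hf.uu])
    have e3 := hz p' w c (by simp [hp', hw, hca, hcb, vd_mul_vd, hn.2])
    have e4 := hz w p' c (by simp [hp', hw, hca, hcb, vd_mul_vd, hf.uu])
    have e5 := hz w' p c (by simp [hp, hw', hca, hcb, vd_mul_vd, fd_symm d v n, hn.2])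
    have e6 := hz w' p' c (by simp [hp', hw', hca, hcb, vd_mul_vd, hnu])
    simp only [hP, hQ, sub_mul, mul_sub, e1, e2, e3, e4, e5, e6]
    rw [tens_mul, tens_mul, funext fun l => (hpw l).1, funext fun l => (hpw l).2, tens_vd, tens_vd, wg]
    abel
  have hzero : ∀ X Y Z : Fin (s + 1) → Matrix (Fin k) (Fin k) F, X a = Z a → Z a * Y a * Z a = 0 →
      (tens X : Mt (s + 1) k F) * tens Y * tens Z = 0 := fun X Y Z h1 h2 => by
    rw [tens_mul]; exact hz _ _ a (by simp [h1, h2])
  have hPQP : P * Q * P = 0 := by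
    simp only [hP, hQ, sub_mul, mul_sub]
    rw [hzero p w p rfl (by simp [hp, hw, hZZ]), hzero p w' p rfl (by simp [hp, hw', hZZ]),
      hzero p' w p (by simp [hp, hp']) (by simp [hp, hw, hZZ]), hzero p' w' p (by simp [hp, hp']) (by simp [hp, hw', hZZ]),
      hzero p w p' (by simp [hp, hp']) (by simp [hp', hw, hZZ]), hzero p w' p' (by simp [hp, hp']) (by simp [hp', hw', hZZ]),
      hzero p' w p' rfl (by simp [hp', hw, hZZ]), hzero p' w' p' rfl (by simp [hp', hw', hZZ])]
    simp
  have hzero' : ∀ X Y Z : Fin (s + 1) → Matrix (Fin k) (Fin k) F, X b = Z b → Z b * Y b * Z b = 0 →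
      (tens X : Mt (s + 1) k F) * tens Y * tens Z = 0 := fun X Y Z h1 h2 => by
    rw [tens_mul]; exact hz _ _ b (by simp [h1, h2])
  have hQPQ : Q * P * Q = 0 := by
    simp only [hP, hQ, sub_mul, mul_sub]
    have hb' := hab.symm
    have hb'' := hcb.symm
    rw [hzero' w p w rfl (by simp [hp, hw, hb', hb'', hZZ]), hzero' w p' w rfl (by simp [hp', hw, hb', hb'', hZZ]),
      hzero' w' p w (by simp [hw, hw', hb', hb'']) (by simp [hp, hw, hb', hb'', hZZ]),
      hzero' w' p' w (by simp [hw, hw', hb', hb'']) (by simp [hp', hw, hb', hb'', hZZ]),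
      hzero' w p w' (by simp [hw, hw', hb', hb'']) (by simp [hp, hw', hb', hb'', hZZ]),
      hzero' w p' w' (by simp [hw, hw', hb', hb'']) (by simp [hp', hw', hb', hb'', hZZ]),
      hzero' w' p w' rfl (by simp [hp, hw', hb', hb'', hZZ]), hzero' w' p' w' rfl (by simp [hp', hw', hb', hb'', hZZ])]
    simp
  obtain ⟨g, hg, hgv⟩ := mem_comm_sub hPm hQm hPP hQQ hPQP hQPQ
  refine twoFull_of_root hD hM.toBase hf (by omega) (j := c) hn hnn (c := -1) (by simp) ⟨g, hg, ?_⟩
  have hQ0 : fd (dt d (s + 1)) (pv av) (pv av) = 0 := fd_pv_zero a (by simp [hav, hca.symm, hf.uu])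
  rw [hgv, hPQ, eich, fd_smul_left, fd_smul_right, neg_one_smul, pvU_apply, ← hav, hQ0,
    show (-1 : F) * (-1 * 0) / 2 = 0 by ring, zero_smul, sub_zero, ← neg_one_smul F (pv av), wg_smul_left,
    neg_one_smul, ← wg_swap]

end CfsgLib.Geo.TensorPow.O
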