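/-
Monomials in an invariant group of matrices.
-/
import Cfsg.Agent.Geo.TensorPow.O.Mono

set_option autoImplicit false
set_option linter.unusedSectionVars false

namespace CfsgLib.Geo.TensorPow.O

open Matrix Cfsg.Geo CfsgLib.Aschbacher
open scoped MatrixGroups

variable {F : Type*} [Field F] {t k : ℕ} {d u v : Fin k → F}

lemma cmp_slot_mul {l r : Fin t} (h : r ≠ l) (p q : Fin k) (B : Matrix (Fin k) (Fin k) F) (X : Mt t k F) :
    cmp l p q (slot r B * X) = slot r B * cmp l p q X := by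
  simp only [cmp, Finset.mul_sum]
  refine Finset.sum_congr rfl fun a _ => ?_
  rw [eu, ← mul_assoc (slot l _), slot_mul_comm h.symm]
  simp [mul_assoc]

lemma cj_slotU_com [NeZero k] {l : Fin t} {X : Mt t k F} (hX : Com l X) (g : GL (Fin k) F) :
    cj (slotU l g) X = X := by
  rw [cj, slotU_val, hX.slot_comm, mul_assoc, ← slotU_val, Units.mul_inv, mul_one]

lemma nm_ne_one {n : Fin k → F} (hd : ∀ p, d p ≠ 0) (hf : Fr d u v) (hn : n ∈ Pp d u v) :
    wg d n u ≠ (1 : Matrix (Fin k) (Fin k) F) ∧ vd d u u ≠ (1 : Matrix (Fin k) (Fin k) F) :=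
  ⟨fun h => vd_ne_zero hd hf.u_ne hf.u_ne (by rw [← nm_mul_z hf hn, h, one_mul]),
    fun h => vd_ne_zero hd hf.u_ne hf.u_ne (by have e := z_mul_z hf; rw [h, one_mul] at e; rw [h]; exact e)⟩

/-- The coefficients of one matrix of a factor in an invariant group. -/
def coefGroup (K : AddSubgroup (Mt t k F)) (l : Fin t) (A : Matrix (Fin k) (Fin k) F) : AddSubgroup (Mt t k F) where
  carrier := {γ | Com l γ ∧ slot l A * γ ∈ K}
  add_mem' {a b} ha hb := ⟨ha.1.add hb.1, by rw [mul_add]; exact K.add_mem ha.2 hb.2⟩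
  zero_mem' := ⟨com_zero l, by rw [mul_zero]; exact K.zero_mem⟩
  neg_mem' {a} ha := ⟨by rw [← zero_sub]; exact (com_zero l).sub ha.1, by rw [mul_neg]; exact K.neg_mem ha.2⟩

variable [Fintype F] [NeZero k] {K : AddSubgroup (Mt t k F)}

lemma Opn.coef (hK : Opn d K) (l : Fin t) (A : Matrix (Fin k) (Fin k) F) : Opn d (coefGroup K l A) := by
  have key : ∀ r (g : GL (Fin k) F), (∀ X ∈ K, cj (slotU r g) X ∈ K) →
      ∀ X ∈ coefGroup K l A, cj (slotU r g) X ∈ coefGroup K l A := by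
    intro r g h X hX
    rcases eq_or_ne r l with rfl | hr
    · rwa [cj_slotU_com hX.1]
    · refine ⟨com_cj_slotU hr.symm g hX.1, ?_⟩
      have := h _ hX.2
      rwa [cj_mul, cj_slotU_com (com_slot hr A)] at this
  exact ⟨fun r g hg => key r g (hK.sqm r g hg), fun he ht r g hg => key r g (hK.full he ht r g hg)⟩

lemma Pur.coef (hd : ∀ p, d p ≠ 0) (hf : Fr d u v) (hP : Pur d u v K) (l : Fin t) {A : Matrix (Fin k) (Fin k) F} (hA : A ≠ 0) :
    Pur d u v (coefGroup K l A) := by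
  intro r he ht C hC hS
  rcases eq_or_ne r l with rfl | hr
  · by_cases h0 : C = 0
    · exact ⟨0, (Pp d u v).zero_mem, 0, com_zero r, by rw [h0, mul_zero]⟩
    obtain ⟨x, y, hxy⟩ : ∃ x y, sl r C x y ≠ 0 := by
      by_contra hc; push Not at hc; exact h0 (sl_ext (i := r) fun x y => by rw [hc, sl_zero])
    obtain ⟨c, hc⟩ := com_iff_sl.1 hC.1 x y
    obtain ⟨m, hm, hmv⟩ := mem_SN.1 (hS x y)
    refine absurd ?_ hxy
    have hc' : c = 0 := by
      have e := congrArg (· * vd d u u) (hc.symm.trans hmv)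
      simp only [smul_mul_assoc, one_mul, nm_mul_z hf hm, smul_eq_zero] at e
      exact e.resolve_right (vd_ne_zero hd hf.u_ne hf.u_ne)
    rw [hc, hc', zero_smul]
  · have hcom : Com r (slot l A : Mt t k F) := com_slot hr A
    obtain ⟨w, hw, γ, hγ, he'⟩ := hP r he ht _ hC.2 (hS.com_mul hcom)
    obtain ⟨p, q, a, hC'⟩ := com_of_slot_mul hr hA hC.1
    refine ⟨w, hw, a • cmp l p q γ, (com_sum _ fun x _ => ((com_eu hr x p).mul hγ).mul (com_eu hr q x)).smul a, ?_⟩
    rw [hC', he', cmp_slot_mul hr, mul_smul_comm]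

/-- A monomial in the group, with trivial factors where the given matrix is trivial. -/
theorem exists_monomial (hD : Dat d) (hf : Fr d u v) {n₀ : Fin k → F} (hn₀ : n₀ ∈ Pp d u v) (hnn : fd d n₀ n₀ ≠ 0)
    (hK : Opn d K) (hP : Pur d u v K) {C : Mt t k F} (hC : C ∈ K) (hC0 : C ≠ 0) :
    ∃ (c : F) (f : Fin t → Matrix (Fin k) (Fin k) F), c ≠ 0 ∧ c • tens f ∈ K ∧
      (∀ l, f l = 1 ∨ f l = vd d u u ∨ f l = wg d n₀ u) ∧ (∀ l, Com l C → f l = 1) := by
  classical
  induction hn : (Finset.univ.filter fun l => ¬ Com l C).card using Nat.strong_induction_on generalizing K C with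
  | _ j ih =>
  by_cases hall : ∀ l, Com l C
  · obtain ⟨c, rfl⟩ := scalar_of_com hall
    exact ⟨c, fun _ => 1, fun h => hC0 (by rw [h, zero_smul]), by rwa [tens_one], fun _ => Or.inl rfl, fun _ _ => rfl⟩
  push Not at hall
  obtain ⟨l, hl⟩ := hall
  obtain ⟨A, γ, hA, hγ, hγ0, hγK, hcom⟩ : ∃ A γ, (A = vd d u u ∨ A = wg d n₀ u) ∧ Com l γ ∧ γ ≠ 0 ∧
      slot l A * γ ∈ K ∧ ∀ r, r ≠ l → Com r C → Com r γ := by
    obtain ⟨C', hC', hC'0, hv | hv, hcm⟩ := exists_center_or_linear hD hf (fun g hg X hX => hK.sqm l g hg X hX) hC hl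
    · obtain ⟨γ, hγ, rfl⟩ := exists_slot_mul hv
      exact ⟨_, γ, Or.inl rfl, hγ, fun h => hC'0 (by rw [h, mul_zero]), hC',
        fun r hr h => Com.of_slot_mul hr (vd_ne_zero hD.ne hf.u_ne hf.u_ne) hγ (hcm r hr h)⟩
    · obtain ⟨w, hw, hw0, γ, hγ, hγ0, hK', hcm'⟩ := exists_line hD hf
        (fun g hg X hX => hK.sqm l g (Subgroup.mem_inf.1 hg).1 X hX)
        (fun he ht g hg X hX => hK.full he ht l g (Subgroup.mem_inf.1 hg).1 X hX) (hP l) hC' hC'0 hv
      obtain ⟨φ, hφ, hφv⟩ := exists_upgrade hD hf hw hw0 hn₀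
      obtain ⟨C'', hC'', h1, h2⟩ := hφ.apply (fun g hg X hX => hK.sqm l g hg X hX) _ hK'
      refine ⟨_, γ, Or.inr rfl, hγ, hγ0, ?_, fun r hr h => hcm' r hr (hcm r hr h)⟩
      have e : C'' = slot l (wg d n₀ u) * γ := sl_ext (i := l) fun x y => by
        obtain ⟨c, hc⟩ := com_iff_sl.1 hγ x y
        rw [h1, sl_slot_mul, sl_slot_mul, hc, mul_smul_comm, mul_one, hφv, mul_smul_comm, mul_one]
      rwa [← e]
  have hA0 : A ≠ 0 := by
    rcases hA with rfl | rfl
    · exact vd_ne_zero hD.ne hf.u_ne hf.u_ne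
    · exact fun e => hnn (by rw [nm_eq_zero hf hn₀ e, fd_zero_left])
  have hlt : (Finset.univ.filter fun r => ¬ Com r γ).card < j := by
    rw [← hn]
    refine Finset.card_lt_card ((Finset.ssubset_iff_of_subset fun r hr => ?_).2 ⟨l, by simpa using hl, by simpa using hγ⟩)
    simp only [Finset.mem_filter, Finset.mem_univ, true_and] at hr ⊢
    intro h
    rcases eq_or_ne r l with rfl | hrl
    · exact hr hγ
    · exact hr (hcom r hrl h)
  obtain ⟨c, f, hc, hcK, hf3, hf1⟩ := ih _ hlt (hK.coef l A) (hP.coef hD.ne hf l hA0) (C := γ) ⟨hγ, hγK⟩ hγ0 rfl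
  refine ⟨c, Function.update f l A, hc, ?_, fun r => ?_, fun r hr => ?_⟩
  · have := hcK.2
    rwa [mul_smul_comm, slot_mul_tens, hf1 l hγ, mul_one] at this
  · rcases eq_or_ne r l with rfl | hr
    · rw [Function.update_self]; exact Or.inr hA
    · rw [Function.update_of_ne hr]; exact hf3 r
  · rcases eq_or_ne r l with rfl | hrl
    · exact absurd hr hl
    · rw [Function.update_of_ne hrl]; exact hf1 r (hcom r hrl hr)

end CfsgLib.Geo.TensorPow.O
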