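/-
Root elements centred in one factor are trivial in an overgroup without full root groups.
-/
import Cfsg.Agent.Geo.TensorPow.O.Reduce
import Cfsg.Agent.Geo.TensorPow.O.Lift

set_option autoImplicit false
set_option linter.unusedSectionVars false

namespace CfsgLib.Geo.TensorPow.O

open Matrix Cfsg.Geo CfsgLib.Aschbacher
open CfsgLib.Geo.TensorPow.U (inSlot_of_com emb embHom emb_mul emb_one emb_injective exists_embHom emb_tens emb_add
  emb_smul embHom_val)
open scoped MatrixGroups

variable {F : Type*} [Field F] {t k : ℕ} {d u v : Fin k → F}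

lemma com_sa [NeZero k] (hd : ∀ p, d p ≠ 0) {i : Fin t} {X : Mt t k F} (h : Com i X) :
    Com i (sa (dt d t) X) := com_iff_sl.2 fun x y => by
  obtain ⟨c, hc⟩ := com_iff_sl.1 h y x
  exact ⟨_, by rw [sl_sa hd, hc, sa_smul, sa_one hd, smul_smul]⟩

lemma slot_z_sq [NeZero k] (hf : Fr d u v) (i : Fin t) {γ γ' : Mt t k F} (h : Com i γ) :
    (slot i (vd d u u) * γ) * (slot i (vd d u u) * γ') = 0 := by
  rw [mul_assoc, ← mul_assoc γ, ← h.slot_comm, ← mul_assoc, ← mul_assoc, slot_mul, z_mul_z hf, slot_zero, zero_mul,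
    zero_mul]

/-- The coefficients of the centre of one factor in the group. -/
def centGroup [NeZero k] {M : Subgroup (GL (Fin t → Fin k) F)} (hf : Fr d u v) (i : Fin t) :
    AddSubgroup (Mt t k F) where
  carrier := {γ | Com i γ ∧ Mem M (1 + slot i (vd d u u) * γ)}
  add_mem' {a b} ha hb := ⟨ha.1.add hb.1, by
    have := ha.2.mul hb.2
    rwa [add_mul, mul_add, mul_add, one_mul, mul_one, one_mul, slot_z_sq hf i ha.1, add_zero, add_assoc,
      add_comm (slot i _ * b), ← mul_add] at this⟩
  zero_mem' := ⟨com_zero i, by rw [mul_zero, add_zero]; exact Mem.one⟩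
  neg_mem' {a} ha := ⟨by rw [← zero_sub]; exact (com_zero i).sub ha.1, by
    rw [mul_neg, ← sub_eq_add_neg]
    exact ha.2.one_sub (slot_z_sq hf i ha.1)⟩

variable [Fintype F] {M : Subgroup (GL (Fin t → Fin k) F)}

lemma InA.slot_move (hD : Dat d) (hM : Base d M) (r : Fin t) {g : GL (Fin k) F} (hg : g ∈ sqG d) {c : F}
    {x y : Fin t → Fin k → F} (h : InA (dt d t) M (pv x) (c • pv y)) :
    InA (dt d t) M (pv (Function.update x r ((g : Matrix (Fin k) (Fin k) F) *ᵥ x r)))
      (c • pv (Function.update y r ((g : Matrix (Fin k) (Fin k) F) *ᵥ y r))) := by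
  obtain ⟨G, hG, hGv⟩ := hM.slot_pv hD.ne r hg
  have := h.conj (dt_ne hD.ne) hM.iso hG
  rwa [hGv, Matrix.mulVec_smul, hGv] at this

/-- The difference along two moves fixing the centre. -/
lemma InA.slot_diff (hD : Dat d) (hM : Base d M) (r : Fin t) {g g' : GL (Fin k) F} (hg : g ∈ sqG d)
    (hg' : g' ∈ sqG d) {c : F} {x y : Fin t → Fin k → F} (hx : fd (dt d t) (pv x) (pv x) = 0)
    (hgx : (g : Matrix (Fin k) (Fin k) F) *ᵥ x r = x r) (hgx' : (g' : Matrix (Fin k) (Fin k) F) *ᵥ x r = x r)
    (h0 : ∀ z, fd (dt d t) (pv x) (pvU y r z) = 0) (h : InA (dt d t) M (pv x) (c • pv y)) :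
    InA (dt d t) M (pv x) (c • pvU y r ((g : Matrix (Fin k) (Fin k) F) *ᵥ y r - (g' : Matrix (Fin k) (Fin k) F) *ᵥ y r)) := by
  have h1 := h.slot_move hD hM r hg
  have h2 := h.slot_move hD hM r hg'
  rw [hgx, Function.update_eq_self] at h1
  rw [hgx', Function.update_eq_self] at h2
  rw [← pvU_apply] at h1 h2
  have := h1.add hD.two hx (by rw [fd_smul_right, h0, mul_zero]) (by rw [fd_neg_right, fd_smul_right, h0]; simp)
    (h2.neg hD.two hx (by rw [fd_smul_right, h0, mul_zero]))
  rwa [← sub_eq_add_neg, ← smul_sub, ← map_sub] at this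

theorem center_eq_zero_aux (hD : Dat d) (hf : Fr d u v) : ∀ (t : ℕ) (M : Subgroup (GL (Fin t → Fin k) F)),
    Bad d M → ∀ (i : Fin t) (C : Mt t k F), Com i C → Mem M (1 + slot i (vd d u u) * C) → C = 0 := by
  classical
  have := hD.neZero
  intro t
  induction t using Nat.strong_induction_on with
  | _ t ih =>
  intro M hM i C hC hMem
  by_contra hC0
  have hd := hD.ne
  have h2 := hD.two
  set K : AddSubgroup (Mt t k F) := centGroup (M := M) hf i with hKdef
  have hskew : ∀ γ ∈ K, sa (dt d t) γ = -γ := by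
    rintro γ ⟨hγ, hγM⟩
    have e := hM.toBase.mem_iso hd hγM
    rw [sa_add, sa_one (dt_ne hd), sa_mul (dt_ne hd), sa_slot hd, sa_vd hd, ← (com_sa hd hγ).slot_comm, add_mul,
      mul_add, mul_add, one_mul, mul_one, one_mul, slot_z_sq hf i (com_sa hd hγ), add_zero, add_assoc, ← mul_add,
      add_eq_left] at e
    exact eq_neg_of_add_eq_zero_right (slot_mul_com_zero (vd_ne_zero hd hf.u_ne hf.u_ne) (hγ.add (com_sa hd hγ)) e)
  have hcjK : ∀ l (g : GL (Fin k) F), slotU l g ∈ M → ∀ γ ∈ K, cj (slotU l g) γ ∈ K := by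
    rintro l g hg γ ⟨hγ, hγM⟩
    rcases eq_or_ne l i with rfl | hl
    · rw [cj_slotU_com hγ]; exact ⟨hγ, hγM⟩
    · refine ⟨com_cj_slotU hl.symm g hγ, ?_⟩
      have := hγM.cj hg
      rwa [cj_mul, cj_slotU_com (com_slot hl _)] at this
  have hK : Opn d K := ⟨fun l g hg => hcjK l g (hM.toBase.slot_sq hd l hg),
    fun he ht l g hg => hcjK l g (hM.full he ht l g hg)⟩
  have hP : Pur d u v K := by
    rintro l - ht X ⟨hX, hXM⟩ hS
    rcases eq_or_ne l i with rfl | hl
    · refine ⟨0, (Pp d u v).zero_mem, 0, com_zero l, sl_ext (i := l) fun x y => ?_⟩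
      obtain ⟨c, hc⟩ := com_iff_sl.1 hX x y
      obtain ⟨m, hm, hmv⟩ := mem_SN.1 (hS x y)
      have e := congrArg (· * vd d u u) (hc.symm.trans hmv)
      simp only [smul_mul_assoc, one_mul, nm_mul_z hf hm, smul_eq_zero] at e
      rw [hc, e.resolve_right (vd_ne_zero hd hf.u_ne hf.u_ne), zero_smul, mul_zero, sl_zero]
    · obtain ⟨A, rfl⟩ := inSlot_of_com (j := l) fun r hr => by
        have : r = i := by
          have hli : (l : ℕ) ≠ i := fun e => hl (Fin.ext e)
          have hrl : (r : ℕ) ≠ l := fun e => hr (Fin.ext e)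
          exact Fin.ext (by omega)
        rw [this]; exact hX
      have := hS (fun _ => 0) (fun _ => 0)
      rw [sl_slot, if_pos fun _ _ => rfl] at this
      obtain ⟨m, hm, rfl⟩ := mem_SN.1 this
      exact ⟨m, hm, 1, com_one l, by rw [mul_one]⟩
  obtain ⟨n, hn, hnn⟩ := hf.exists_aniso hD
  obtain ⟨c, f, hc, hcK, hf3, hf1⟩ := exists_monomial hD hf hn hnn hK hP ⟨hC, hMem⟩ hC0
  have hfi := hf1 i hC
  have hne : ∀ l, f l ≠ 0 := fun l => by
    rcases hf3 l with h | h | h <;> rw [h]
    · exact one_ne_zero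
    · exact vd_ne_zero hd hf.u_ne hf.u_ne
    · exact fun e => hnn (by rw [nm_eq_zero hf hn e, fd_zero_left])
  have hct : c • (tens f : Mt t k F) ≠ 0 := smul_ne_zero hc (tens_ne_zero hne)
  by_cases hone : ∃ l, l ≠ i ∧ f l = 1
  · obtain ⟨l, hli, hl⟩ := hone
    obtain ⟨s, rfl⟩ : ∃ s, t = s + 1 := ⟨t - 1, by omega⟩
    obtain ⟨i', rfl⟩ : ∃ i', l.succAbove i' = i := Fin.exists_succAbove_eq hli.symm
    set f' : Fin s → Matrix (Fin k) (Fin k) F := fun r => f (l.succAbove r) with hf'
    have hemb : c • (tens f : Mt (s + 1) k F) = emb l (c • tens f') := by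
      rw [emb_smul, emb_tens]
      congr 2
      funext r
      rcases Fin.eq_self_or_eq_succAbove l r with rfl | ⟨r, rfl⟩ <;> simp [hl, hf']
    have hmem : Mem (M.comap (embHom l)) (1 + slot i' (vd d u u) * (c • tens f')) := by
      obtain ⟨g, hg, hgv⟩ := hcK.2
      rw [← emb_slot, hemb, ← emb_mul, ← emb_one l, ← emb_add] at hgv
      obtain ⟨g', rfl⟩ := exists_embHom (b := l) (g := g) (by rw [hgv]; exact com_emb l _)
      exact ⟨g', hg, emb_injective l (by rw [← embHom_val, hgv])⟩
    have := ih s (Nat.lt_succ_self s) _ (comap_bad hd hD hM l) i' _ ((com_tens (by simpa [hf'] using hfi)).smul c) hmem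
    exact hct (by rw [hemb, this, emb_zero])
  push Not at hone
  set G : Fin t → Matrix (Fin k) (Fin k) F := Function.update f i (vd d u u) with hG
  set Z := vd d u u with hZ
  set N := wg d n u with hN
  have hG2 : ∀ l, G l = Z ∨ G l = N := fun l => by
    rcases eq_or_ne l i with rfl | hl
    · simp [hG]
    · rw [hG, Function.update_of_ne hl]; exact (hf3 l).resolve_left (hone l hl)
  have hZN : Z ≠ N := fun e => hnn (by
    have := congrArg (· *ᵥ v) e
    simp only [hZ, hN, nm_mulVec_v hf hn, vd_mulVec, hf.uv, one_smul] at this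
    rw [← this, hf.uu])
  have hX : slot i Z * (c • tens f) = c • (tens G : Mt t k F) := by
    rw [mul_smul_comm, slot_mul_tens, hfi, mul_one]
  have hXmem : Mem M (1 + c • (tens G : Mt t k F)) := by rw [← hX]; exact hcK.2
  set S := Finset.univ.filter fun l => G l = N with hS
  have hGne : ∀ l, G l ≠ 0 := fun l => by
    rcases hG2 l with h | h <;> rw [h]
    · exact vd_ne_zero hd hf.u_ne hf.u_ne
    · exact fun e => hnn (by rw [nm_eq_zero hf hn e, fd_zero_left])
  have hparity : (-1 : F) ^ S.card = -1 := by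
    have e := hskew _ hcK
    rw [sa_smul, sa_tens] at e
    have e' : (fun l => sa d (f l)) = fun l => (if G l = N then (-1 : F) else 1) • f l := funext fun l => by
      rcases eq_or_ne l i with rfl | hl
      · rw [hfi, sa_one hd, if_neg (by rw [hG, Function.update_self]; exact hZN), one_smul]
      · rw [show G l = f l by rw [hG, Function.update_of_ne hl]]
        rcases (hf3 l).resolve_left (hone l hl) with h | h
        · rw [h, if_neg hZN, sa_vd hd, one_smul]
        · rw [h, if_pos rfl, sa_wg hd, neg_one_smul]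
    rw [e', tens_smul, ← neg_smul, smul_smul] at e
    have := smul_left_injective F (tens_ne_zero hne) e
    rw [Finset.prod_ite, Finset.prod_const, Finset.prod_const, one_pow, mul_one, ← hS] at this
    exact mul_left_cancel₀ hc (by rw [this]; ring)
  have hS0 : S.Nonempty := by
    rw [← Finset.card_pos]
    by_contra h0
    rw [Nat.eq_zero_of_not_pos h0, pow_zero] at hparity
    exact h2 (by linear_combination hparity)
  obtain ⟨a, ha⟩ := hS0
  simp only [hS, Finset.mem_filter, Finset.mem_univ, true_and] at ha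
  have hai : a ≠ i := fun e => hZN (by rw [← ha, e, hG, Function.update_self])
  have ht2 : 2 ≤ t := by
    have := Fintype.one_lt_card_iff.2 ⟨a, i, hai⟩
    simp at this; omega
  refine hM.nfull ht2 ?_
  have hiZ : G i = Z := by simp [hG]
  by_cases h1 : ∃ r r', G r = N ∧ G r' = N ∧ r ≠ a ∧ r' ≠ a ∧ r ≠ r'
  swap
  · -- one linear part
    have hsub : ∀ r, r ≠ a → G r = Z := by
      intro r hr
      refine (hG2 r).resolve_right fun hrN => ?_
      have hcard : S = {a, r} := by
        ext x
        simp only [hS, Finset.mem_filter, Finset.mem_univ, true_and, Finset.mem_insert, Finset.mem_singleton]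
        refine ⟨fun hx => ?_, fun hx => hx.elim (fun e => e ▸ ha) fun e => e ▸ hrN⟩
        by_contra hc
        rw [not_or] at hc
        exact h1 ⟨r, x, hrN, hx, hr, hc.1, Ne.symm hc.2⟩
      rw [hcard, Finset.card_pair hr.symm] at hparity
      exact h2 (by linear_combination hparity)
    obtain ⟨g, hg, hgv⟩ := hXmem
    refine twoFull_of_root hD hM.toBase hf ht2 (j := a) hn hnn hc ⟨g, hg, ?_⟩
    have hl1 : (fun l => vd d ((Function.update (fun _ => u) a n : Fin t → Fin k → F) l) u -
        vd d u ((Function.update (fun _ => u) a n : Fin t → Fin k → F) l)) = Function.update (fun _ => 0) a N := funext fun l => by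
      rcases eq_or_ne l a with rfl | hl
      · simp [hN, wg]
      · simp [Function.update_of_ne hl]
    have hG' : (tens G : Mt t k F) = wg (dt d t) (pvU (fun _ => u) a n) (pv fun _ => u) := by
      rw [wg, pvU_apply, ← tens_vd, ← tens_vd]
      ext x y
      simp only [tens, Matrix.of_apply, Matrix.sub_apply]
      rw [← Finset.mul_prod_erase _ _ (Finset.mem_univ a), ← Finset.mul_prod_erase _ _ (Finset.mem_univ a),
        ← Finset.mul_prod_erase _ _ (Finset.mem_univ a), ha, Function.update_self]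
      have e : ∀ r ∈ Finset.univ.erase a, G r (x r) (y r) = vd d u u (x r) (y r) := fun r hr => by
        rw [hsub r (Finset.ne_of_mem_erase hr)]
      have e1 : ∀ r ∈ Finset.univ.erase a, vd d ((Function.update (fun _ => u) a n : Fin t → Fin k → F) r) u (x r) (y r) = vd d u u (x r) (y r) :=
        fun r hr => by rw [Function.update_of_ne (Finset.ne_of_mem_erase hr)]
      have e2 : ∀ r ∈ Finset.univ.erase a, vd d u ((Function.update (fun _ => u) a n : Fin t → Fin k → F) r) (x r) (y r) = vd d u u (x r) (y r) :=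
        fun r hr => by rw [Function.update_of_ne (Finset.ne_of_mem_erase hr)]
      rw [Finset.prod_congr rfl e, Finset.prod_congr rfl e1, Finset.prod_congr rfl e2, ← sub_mul, hN, wg,
        Matrix.sub_apply]
    have hq : fd (dt d t) (pvU (fun _ => u) a n) (pvU (fun _ => u) a n) = 0 := by
      rw [pvU_apply]; exact fd_pv_zero i (by simp [Function.update_of_ne hai.symm, hf.uu])
    rw [hgv, hG', eich, fd_smul_left, fd_smul_right, hq, mul_zero, mul_zero, zero_div, zero_smul, sub_zero,
      wg_smul_left]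
  -- three linear parts or more
  obtain ⟨r, r', hr, hr', hra, hr'a, hrr⟩ := h1
  have hri : r ≠ i := fun e => hZN (by rw [← hr, e, hiZ])
  have hr'i : r' ≠ i := fun e => hZN (by rw [← hr', e, hiZ])
  obtain ⟨w₀, hw₀, hwu, hwv, hwn, -⟩ := exists_weyl hD hf hn hnn
  set α := -(fd d n n / 2) with hα
  have hα0 : α ≠ 0 := neg_ne_zero.2 (div_ne_zero hnn h2)
  set σ : Equiv.Perm (Fin t) := Equiv.swap a r * Equiv.swap r i * Equiv.swap i r' with hσ
  have hσσ : ∀ l, G ((σ * σ) l) = if l = a then Z else if l = i then N else G l := by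
    intro l
    have e1 : σ a = r := by simp [hσ, Equiv.swap_apply_def, hai, hai.symm, hra.symm, hr'a.symm]
    have e2 : σ r = i := by simp [hσ, Equiv.swap_apply_def, hri, hrr, hai.symm, hri.symm, hra]
    have e3 : σ i = r' := by simp [hσ, Equiv.swap_apply_def, hrr.symm, hr'i, hr'a, hri.symm, hr'i.symm]
    have e4 : σ r' = a := by simp [hσ, Equiv.swap_apply_def, hri.symm, hr'i, hr'a, hrr.symm]
    rcases eq_or_ne l a with rfl | h1
    · rw [if_pos rfl, Equiv.Perm.mul_apply, e1, e2, hiZ]
    rcases eq_or_ne l i with rfl | h2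
    · rw [if_neg h1, if_pos rfl, Equiv.Perm.mul_apply, e3, e4, ha]
    rw [if_neg h1, if_neg h2]
    rcases eq_or_ne l r with rfl | h3
    · rw [Equiv.Perm.mul_apply, e2, e3, hr, hr']
    rcases eq_or_ne l r' with rfl | h4
    · rw [Equiv.Perm.mul_apply, e4, e1, hr, hr']
    rw [Equiv.Perm.mul_apply, show σ l = l by simp [hσ, Equiv.swap_apply_def, h1, h2, h3, h4],
      show σ l = l by simp [hσ, Equiv.swap_apply_def, h1, h2, h3, h4]]
  have hm1 : Mem M (1 + c • (tens (fun l => G ((σ * σ) l)) : Mt t k F)) := by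
    have := mem_conj_perm (hM.toBase.perm_sq hd σ.symm) hXmem
    rw [mul_add, mul_one, add_mul, permMat_mul_inv, mul_smul_comm, smul_mul_assoc, perm_conj_tens] at this
    convert this using 5
    simp [Equiv.Perm.mul_def]
  obtain ⟨W, hW, hWv⟩ := hM.toBase.tens_sq hd (fun l => if l = a ∨ G l = Z then w₀ else 1) fun l => by
    split_ifs
    · exact hw₀
    · exact (sqG d).one_mem
  have hWi : ((W⁻¹ : GL (Fin t → Fin k) F) : Mt t k F) =
      tens fun l => (((if l = a ∨ G l = Z then w₀ else 1)⁻¹ : GL (Fin k) F) : Matrix (Fin k) (Fin k) F) :=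
    Units.inv_eq_of_mul_eq_one_right (by rw [hWv, tens_mul]; simp [tens_one])
  set B : Fin t → Matrix (Fin k) (Fin k) F := fun l =>
    if l = i then wg d n v else if l = a ∨ G l = Z then vd d v v else N with hB
  set e : Fin t → F := fun l => if l = i then -α else if l = a ∨ G l = Z then α * α else 1 with he
  have hcjB : cj W (tens fun l => G ((σ * σ) l) : Mt t k F) = (∏ l, e l) • tens B := by
    rw [cj, hWv, hWi, tens_mul, tens_mul, ← tens_smul]
    congr 1
    funext l
    have hw' := sqG_le d hw₀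
    rw [hσσ]
    rcases eq_or_ne l i with rfl | hl
    · simp only [hB, he, if_neg hai.symm, if_pos, hiZ, or_true]
      rw [hN, conj_wg hd hw', hwn, hwu, wg, wg]
      simp only [vd_neg_left, vd_neg_right, vd_smul_left, vd_smul_right]
      module
    by_cases hla : l = a ∨ G l = Z
    · simp only [hB, he, if_neg hl, if_pos hla]
      rw [show (if l = a then Z else G l) = Z by split_ifs with h <;> [rfl; exact hla.resolve_left h], hZ,
        conj_vd hd hw', hwu, vd_smul_left, vd_smul_right, smul_smul]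
    · simp only [hB, he, if_neg hl, if_neg hla]
      rw [not_or] at hla
      rw [if_neg hla.1, (hG2 l).resolve_left hla.2]
      simp
  have he0 : ∏ l, e l ≠ 0 := Finset.prod_ne_zero_iff.2 fun l _ => by
    simp only [he]; split_ifs <;> simp [hα0]
  have hm2 : Mem M (1 + (c * ∏ l, e l) • (tens B : Mt t k F)) := by
    have := hm1.cj hW
    rwa [cj_smul, hcjB, smul_smul] at this
  set P := c • (tens G : Mt t k F) with hPdef
  set Q := (c * ∏ l, e l) • (tens B : Mt t k F) with hQdef
  have hz : ∀ (f g : Fin t → Matrix (Fin k) (Fin k) F) l, f l * g l = 0 → (tens f : Mt t k F) * tens g = 0 :=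
    fun f g l h => by
      rw [tens_mul]
      exact Matrix.ext fun x y => Finset.prod_eq_zero (Finset.mem_univ l) (congrFun (congrFun h (x l)) (y l))
  have hBa : B a = vd d v v := by simp [hB, hai]
  have hBi : B i = wg d n v := by simp [hB]
  have hnu : fd d n u = 0 := by rw [fd_symm, hn.1]
  have hnv : fd d n v = 0 := by rw [fd_symm, hn.2]
  have hPP : P * P = 0 := by
    rw [hPdef, smul_mul_smul_comm, hz _ _ i (by rw [hiZ, hZ, z_mul_z hf]), smul_zero]
  have hQQ : Q * Q = 0 := by
    rw [hQdef, smul_mul_smul_comm, hz _ _ a (by rw [hBa, z_mul_z hf.swap]), smul_zero]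
  have hPQP : P * Q * P = 0 := by
    rw [hPdef, hQdef, smul_mul_smul_comm, smul_mul_smul_comm, tens_mul, hz _ _ i (by
      simp [hiZ, hBi, hZ, wg, mul_sub, sub_mul, vd_mul_vd, hn.1, hnu]), smul_zero]
  have hQPQ : Q * P * Q = 0 := by
    rw [hPdef, hQdef, smul_mul_smul_comm, smul_mul_smul_comm, tens_mul, hz _ _ a (by
      simp [ha, hBa, hN, wg, mul_sub, sub_mul, vd_mul_vd, hn.2, hnv]), smul_zero]
  set x : Fin t → Fin k → F := fun l => if l = a then n else u with hx
  set y : Fin t → Fin k → F := fun l => if l = i then n else if l = a ∨ G l = Z then v else u with hy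
  set κ : Fin t → F := fun l => if l = i then -1 else if l = a ∨ G l = Z then 1 else -fd d n n with hκ
  set ε : Fin t → F := fun l => if l = i ∨ l = a then -1 else 1 with hε
  have hεp : ∏ l, ε l = 1 := by
    rw [hε, Finset.prod_eq_mul i a hai.symm (fun l _ hl => if_neg (not_or.2 hl)) (by simp) (by simp)]
    simp
  have hN0 : ¬ wg d n u = vd d u u := hZN.symm
  have hlab : ∀ l, G l * B l = κ l • vd d (x l) (y l) ∧ B l * G l = (ε l * κ l) • vd d (y l) (x l) := by
    intro l
    rcases eq_or_ne l i with rfl | hl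
    · simp [hiZ, hBi, hx, hy, hκ, hε, hai.symm, hZ, wg, mul_sub, sub_mul, vd_mul_vd, hn.1, hf.uv, hnu, hf.vu]
    rcases eq_or_ne l a with rfl | hla
    · simp [ha, hBa, hx, hy, hκ, hε, hl, hN, wg, mul_sub, sub_mul, vd_mul_vd, hn.2, hf.uv, hnv, hf.vu]
    rcases hG2 l with h | h
    · simp [h, hB, hx, hy, hκ, hε, hl, hla, hZ, vd_mul_vd, hf.uv, hf.vu]
    · simp [h, hB, hx, hy, hκ, hε, hl, hla, hN0, hN, nm_mul hf hn hn, hZ]
  have hk0 : ∏ l, κ l ≠ 0 := Finset.prod_ne_zero_iff.2 fun l _ => by
    simp only [hκ]; split_ifs <;> simp [hnn]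
  set K0 := c * (c * ∏ l, e l) * ∏ l, κ l with hK0
  have hK00 : K0 ≠ 0 := mul_ne_zero (mul_ne_zero hc (mul_ne_zero hc he0)) hk0
  have hxx : fd (dt d t) (pv x) (pv x) = 0 := fd_pv_zero r (by simp [hx, hra, hf.uu])
  have hrl : r ≠ i ∧ ¬(r = a ∨ G r = Z) := ⟨hri, by
    rw [not_or]; exact ⟨hra, by rw [hr]; exact hZN.symm⟩⟩
  have hrZ : ¬ G r = Z := by rw [hr]; exact hZN.symm
  have hyy : fd (dt d t) (pv y) (pv y) = 0 := fd_pv_zero r (by simp [hy, hri, hra, hrZ, hf.uu])
  have hyz : ∀ z, fd (dt d t) (pv y) (pvU x a z) = 0 := fun z => by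
    rw [pvU_apply]; exact fd_pv_zero r (by simp [hx, hy, hri, hra, hrZ, hf.uu])
  have hI0 : InA (dt d t) M (pv y) (K0 • pv x) := by
    obtain ⟨g, hg, hgv⟩ := mem_comm_sub hm2 hXmem hQQ hPP hQPQ hPQP
    refine ⟨g⁻¹, M.inv_mem hg, ?_⟩
    have hsq : eich (dt d t) (pv y) (K0 • pv x) = 1 + (P * Q - Q * P) := by
      rw [eich, fd_smul_left, fd_smul_right, hxx, mul_zero, mul_zero, zero_div, zero_smul, sub_zero, wg_smul_left,
        hPdef, hQdef, smul_mul_smul_comm, smul_mul_smul_comm, tens_mul, tens_mul, funext fun l => (hlab l).1,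
        funext fun l => (hlab l).2, tens_smul, tens_smul, Finset.prod_mul_distrib, hεp, one_mul, tens_vd, tens_vd, smul_smul, smul_smul,
        hK0, wg]
      module
    refine Units.inv_eq_of_mul_eq_one_right ?_
    rw [hgv, hsq]
    have hd2 : (P * Q - Q * P) * (P * Q - Q * P) = 0 := by
      simp only [sub_mul, mul_sub, ← mul_assoc, hPQP, hQPQ, zero_mul]
      simp only [mul_assoc, hPP, hQQ, mul_zero]
      simp [← mul_assoc, hPP, hQQ]
    rw [show Q * P - P * Q = -(P * Q - Q * P) by abel]
    generalize P * Q - Q * P = D at hd2 ⊢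
    rw [show (1 + -D) * (1 + D) = 1 - D * D by noncomm_ring, hd2, sub_zero]
  -- move the centre to the product of `u`
  have hn' : fd d v n = 0 := hn.2
  obtain ⟨g, hg, hgv⟩ := eich_mem_sqG h2 hd hf.vv hn'
  obtain ⟨g', hg', hgv'⟩ := eich_mem_sqG h2 hd hf.vv (a := -n) (by rw [fd_neg_right, hn', neg_zero])
  have hya : y a = v := by simp [hy, hai]
  have h3 := hI0.slot_diff hD hM.toBase a hg hg' hyy (by
      rw [hya, hgv, eich_mulVec, hf.vv, hnv]; simp) (by
      rw [hya, hgv', eich_mulVec, fd_neg_left, hf.vv, hnv]; simp) hyz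
  have hxa : x a = n := by simp [hx]
  rw [hxa, hgv, hgv', eich_mulVec, eich_mulVec, fd_neg_left, hn.2,
    show (n + (0 : F) • n - fd d n n • v - (fd d n n / 2 * 0) • v) -
      (n + (0 : F) • -n - -fd d n n • v - (fd d (-n) (-n) / 2 * 0) • v) = (-(2 * fd d n n)) • v by
        simp; module,
    map_smul, smul_smul] at h3
  set c₁ := K0 * -(2 * fd d n n) with hc₁
  have hc₁0 : c₁ ≠ 0 := mul_ne_zero hK00 (neg_ne_zero.2 (mul_ne_zero h2 hnn))
  set x' := Function.update x a v with hx'
  have hx'x' : fd (dt d t) (pv x') (pv x') = 0 := fd_pv_zero r (by simp [hx', hx, hra, hf.uu])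
  have h4 : InA (dt d t) M (pv x') ((-c₁) • pv y) := by
    obtain ⟨g, hg, hgv⟩ := h3
    refine ⟨g, hg, ?_⟩
    rw [hgv, pvU_apply, ← hx']
    simp only [eich, fd_smul_left, fd_smul_right, hx'x', hyy, mul_zero, zero_div, zero_smul, sub_zero, wg_smul_left]
    rw [wg_swap (dt d t) (pv y), smul_neg, ← neg_smul]
  have h5 := h4.slot_move hD hM.toBase a hw₀
  rw [hx', Function.update_self, hya, hwv, Function.update_idem] at h5
  set β := -(2 / fd d n n) with hβ
  have hβ0 : β ≠ 0 := neg_ne_zero.2 (div_ne_zero h2 hnn)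
  have hxu : Function.update x a u = fun _ => u := funext fun l => by
    rcases eq_or_ne l a with rfl | hl <;> simp [hx, *]
  rw [← pvU_apply, ← pvU_apply, map_smul, map_smul, smul_smul, pvU_apply x, hxu] at h5
  have h6 := h5.smul_left
  rw [pvU_apply, smul_smul] at h6
  -- the other centres
  have key : ∀ s : Finset (Fin t), ∃ c₂ : F, c₂ ≠ 0 ∧ InA (dt d t) M (pv fun _ => u)
      (c₂ • pv (s.piecewise (Function.update (fun _ => u) i n) (Function.update y a u))) := by
    intro s
    induction s using Finset.induction with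
    | empty =>
      refine ⟨_, ?_, by rw [Finset.piecewise_empty]; exact h6⟩
      simp [hc₁0, hβ0, hα0]
    | insert l s hl ih' =>
      obtain ⟨c₂, hc₂, h⟩ := ih'
      rw [Finset.piecewise_insert]
      set z := s.piecewise (Function.update (fun _ => u) i n) (Function.update y a u) with hz'
      have hzl : z l = Function.update y a u l := by simp [hz', hl]
      rcases eq_or_ne l i with rfl | hli
      · exact ⟨c₂, hc₂, by rwa [Function.update_eq_self_iff.2 (by simp [hzl, hy, hai.symm])]⟩
      rw [Function.update_of_ne hli]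
      by_cases hlu : z l = u
      · exact ⟨c₂, hc₂, by rwa [Function.update_eq_self_iff.2 hlu.symm]⟩
      have hzv : z l = v := by
        rw [hzl] at hlu ⊢
        rcases eq_or_ne l a with rfl | hla
        · simp at hlu
        · rw [Function.update_of_ne hla] at hlu ⊢
          simp only [hy, if_neg hli] at hlu ⊢
          split_ifs at hlu ⊢ with hh
          · rfl
          · exact absurd rfl hlu
      have hU : fd (dt d t) (pv fun _ : Fin t => u) (pv fun _ => u) = 0 := fd_pv_zero i hf.uu
      have h0 : ∀ w, fd (dt d t) (pv fun _ => u) (pvU z l w) = 0 := fun w => by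
        rw [pvU_apply]
        refine fd_pv_zero i ?_
        rw [Function.update_of_ne hli.symm]
        simp only [hz', Finset.piecewise]
        split_ifs <;> simp [hy, hn.1, Function.update_of_ne hai.symm]
      obtain ⟨g, hg, hgv⟩ := eich_mem_sqG h2 hd hf.uu hn.1
      obtain ⟨g', hg', hgv'⟩ := eich_mem_sqG h2 hd hf.uu (a := -n) (by rw [fd_neg_right, hn.1, neg_zero])
      have hfix : ∀ {g : GL (Fin k) F} {m}, (g : Matrix (Fin k) (Fin k) F) = eich d u m → fd d m u = 0 →
          (g : Matrix (Fin k) (Fin k) F) *ᵥ u = u := fun hgv hm => by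
        rw [hgv, eich_mulVec, hf.uu, hm]; simp
      have e1 := h.slot_diff hD hM.toBase l hg (sqG d).one_mem hU (hfix hgv hnu) (by simp) h0
      have e2 := h.slot_diff hD hM.toBase l hg' (sqG d).one_mem hU (hfix hgv' (by rw [fd_neg_left, hnu, neg_zero]))
        (by simp) h0
      have e3 := e1.add h2 hU (by rw [fd_smul_right, h0, mul_zero]) (by rw [fd_smul_right, h0, mul_zero]) e2
      rw [← smul_add, ← map_add, hzv, hgv, hgv', eich_mulVec, eich_mulVec, Units.val_one, Matrix.one_mulVec,
        fd_neg_left, fd_neg_left, fd_neg_right, hf.uv, hnv,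
        show (v + (1 : F) • n - (0 : F) • u - (fd d n n / 2 * 1) • u - v) +
          (v + (1 : F) • -n - (-0 : F) • u - (- -fd d n n / 2 * 1) • u - v) = (-fd d n n) • u by
            match_scalars <;> field_simp <;> ring,
        map_smul, smul_smul, pvU_apply] at e3
      exact ⟨_, mul_ne_zero hc₂ (neg_ne_zero.2 hnn), e3⟩
  obtain ⟨c₂, hc₂, h7⟩ := key Finset.univ
  rw [Finset.piecewise_univ, ← pvU_apply] at h7
  exact twoFull_of_root hD hM.toBase hf ht2 hn hnn hc₂ h7

/-- Root elements centred in one factor are trivial. -/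
theorem Bad.center_eq_zero (hM : Bad d M) (hD : Dat d) (hf : Fr d u v) {i : Fin t} {C : Mt t k F} (hC : Com i C)
    (h : Mem M (1 + slot i (vd d u u) * C)) : C = 0 :=
  center_eq_zero_aux hD hf t M hM i C hC h

end CfsgLib.Geo.TensorPow.O
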