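/-
The elements of the group in the radical of the stabiliser of a singular point of one factor.
-/
import Cfsg.Agent.Geo.TensorPow.O.Key
import Cfsg.Agent.Geo.TensorPow.U.Vec

set_option autoImplicit false
set_option linter.unusedSectionVars false

namespace CfsgLib.Geo.TensorPow.O

open Matrix Cfsg.Geo CfsgLib.Aschbacher
open CfsgLib.Geo.TensorPow.U (inSlot_of_com emb embHom emb_mul emb_one emb_injective exists_embHom emb_tens emb_add
  emb_smul embHom_val)
open scoped MatrixGroups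

variable {F : Type*} [Field F] {t k : ℕ} {d u v : Fin k → F}

lemma cj_fix_vd (hd : ∀ p, d p ≠ 0) {g : GL (Fin k) F} (hg : g ∈ isoG d)
    (hu : (g : Matrix (Fin k) (Fin k) F) *ᵥ u = u) :
    (g : Matrix (Fin k) (Fin k) F) * vd d u u * ((g⁻¹ : GL (Fin k) F) : Matrix (Fin k) (Fin k) F) = vd d u u := by
  rw [conj_vd hd hg, hu]

lemma cj_slot (i : Fin t) (g : GL (Fin k) F) (A : Matrix (Fin k) (Fin k) F) :
    cj (slotU i g) (slot i A : Mt t k F) =
      slot i ((g : Matrix (Fin k) (Fin k) F) * A * ((g⁻¹ : GL (Fin k) F) : Matrix (Fin k) (Fin k) F)) := by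
  rw [cj, slotU_inv_val, slotU_val, slot_mul, slot_mul]

lemma sl_emb [NeZero k] {s : ℕ} (r : Fin (s + 1)) (i : Fin s) (Y : Mt s k F) (x y : Fin s → Fin k) :
    sl (r.succAbove i) (emb r Y) (r.insertNth 0 x) (r.insertNth 0 y) = sl i Y x y := by
  have e : ∀ (z : Fin s → Fin k) p,
      Function.update (r.insertNth 0 z : Fin (s + 1) → Fin k) (r.succAbove i) p = r.insertNth 0 (Function.update z i p) :=
    fun z p => by
      funext l
      rcases Fin.eq_self_or_eq_succAbove r l with rfl | ⟨l, rfl⟩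
      · simp [Function.update_of_ne (Fin.succAbove_ne _ i).symm]
      · rcases eq_or_ne l i with rfl | hl <;>
          simp [*, Function.update_of_ne, (Fin.succAbove_right_injective (p := r)).ne_iff]
  ext p q
  rw [sl_apply, sl_apply, e, e, U.emb_apply_insert, if_pos rfl]

lemma sn_inf_sz (hf : Fr d u v) {X : Matrix (Fin k) (Fin k) F} (h1 : X ∈ SN d u v) (h2 : X ∈ SZ d u) : X = 0 := by
  obtain ⟨m, hm, rfl⟩ := mem_SN.1 h1
  obtain ⟨c, hc⟩ := Submodule.mem_span_singleton.1 h2
  have e := congrArg (· *ᵥ v) hc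
  simp only [Matrix.smul_mulVec, vd_mulVec, hf.uv, one_smul, nm_mulVec_v hf hm] at e
  have e' := congrArg (fd d v) e
  rw [fd_smul_right, hf.vu, mul_one, hm.2] at e'
  rw [← hc, e', zero_smul]

lemma val_coef [NeZero k] {i l : Fin t} (hli : l ≠ i) {S : Submodule F (Matrix (Fin k) (Fin k) F)}
    {A : Matrix (Fin k) (Fin k) F} (hA : A ≠ 0) {γ : Mt t k F} (hγ : Com l γ) (h : Val i S (slot l A * γ)) :
    Val i S γ := by
  obtain ⟨p, q, a, e⟩ := com_of_slot_mul hli.symm hA hγ
  rw [e]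
  refine Val.smul ?_ a
  intro x y
  simp only [cmp, sl_sum]
  exact S.sum_mem fun b _ => (h.com_mul (com_eu hli.symm b p)).mul_com (com_eu hli.symm q b) x y

lemma coef_cj [NeZero k] {K : AddSubgroup (Mt t k F)} {r l : Fin t} {A : Matrix (Fin k) (Fin k) F} {g : GL (Fin k) F}
    (h : ∀ X ∈ K, cj (slotU r g) X ∈ K) : ∀ X ∈ coefGroup K l A, cj (slotU r g) X ∈ coefGroup K l A := by
  intro X hX
  rcases eq_or_ne r l with rfl | hr
  · rwa [cj_slotU_com hX.1]
  · refine ⟨com_cj_slotU hr.symm g hX.1, ?_⟩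
    have := h _ hX.2
    rwa [cj_mul, cj_slotU_com (com_slot hr A)] at this

variable [Fintype F] {M : Subgroup (GL (Fin t → Fin k) F)}

/-- A matrix commuting with the squares of the isometries is scalar. -/
lemma scalar_of_comm (hD : Dat d) (hf : Fr d u v) {X : Matrix (Fin k) (Fin k) F}
    (h : ∀ g ∈ sqG d, (g : Matrix (Fin k) (Fin k) F) * X = X * (g : Matrix (Fin k) (Fin k) F)) :
    ∃ c : F, X = c • 1 := by
  have key : ∀ {x y : Fin k → F}, Fr d x y → ∀ m ∈ Pp d x y, wg d m x * X = X * wg d m x := by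
    intro x y hxy m hm
    obtain ⟨g, hg, hgv⟩ := eich_mem_sqG hD.two hD.ne hxy.uu hm.1
    obtain ⟨g', hg', hgv'⟩ := eich_mem_sqG hD.two hD.ne hxy.uu ((Pp d x y).neg_mem hm).1
    have e : eich d x m - eich d x (-m) = (2 : F) • wg d m x := by
      rw [eich, eich, fd_neg_left, fd_neg_right, neg_neg, ← neg_one_smul F m, wg_smul_left]; module
    have h1 := h g hg
    have h2 := h g' hg'
    rw [hgv] at h1
    rw [hgv'] at h2
    have h3 : (eich d x m - eich d x (-m)) * X = X * (eich d x m - eich d x (-m)) := by rw [sub_mul, mul_sub, h1, h2]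
    rw [e, smul_mul_assoc, mul_smul_comm] at h3
    exact smul_right_injective _ hD.two h3
  obtain ⟨n, hn, hnn⟩ := hf.exists_aniso hD
  have hn0 : n ≠ 0 := fun e => hnn (by rw [e, fd_zero_left])
  have e1 := commutant hf hD.ne ⟨n, hn, hn0⟩ (key hf)
  have e2 := commutant hf.swap hD.ne ⟨n, by rw [Pp_swap]; exact hn, hn0⟩ (key hf.swap)
  generalize hw : prj d u v (X *ᵥ v) = w at e1
  generalize hw' : prj d v u (X *ᵥ u) = w' at e2
  have hwP : w ∈ Pp d u v := hw ▸ prj_mem hf _
  have hw'P : w' ∈ Pp d v u := hw' ▸ prj_mem hf.swap _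
  generalize fd d u (X *ᵥ v) = c at e1
  generalize fd d v (X *ᵥ v) = μ at e1
  generalize fd d v (X *ᵥ u) = c' at e2
  generalize fd d u (X *ᵥ u) = μ' at e2
  have e3 := congrArg (fun Y => Y *ᵥ u) e1
  rw [e2] at e3
  simp only [Matrix.add_mulVec, Matrix.smul_mulVec, Matrix.one_mulVec, wg_mulVec, vd_mulVec, hf.uu, hf.vu,
    fd_symm d u w, hwP.1, fd_symm d u w', hw'P.2, one_smul, zero_smul, smul_zero, add_zero, sub_zero] at e3
  have hμ' : μ' = 0 := by
    have := congrArg (fd d u) e3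
    simpa [fd_add_right, fd_smul_right, hf.uu, hf.uv, hw'P.2] using this
  have hw0 : w' = 0 := Pp_nondeg hf.swap hD.ne hw'P fun m hm => by
    have := congrArg (fd d m) e3
    simp only [fd_add_right, fd_smul_right, fd_symm d u m, fd_symm d v m, hm.2, hm.1, mul_zero, zero_add,
      add_zero] at this
    rw [fd_symm, this]
  refine ⟨c', ?_⟩
  rw [e2, hμ', hw0, wg_zero_left]; simp

variable (hD : Dat d) (hf : Fr d u v) {i : Fin t}
include hD hf

lemma val_mul_SR [NeZero k] {A B : Mt t k F} (hA : Val i (SR d u v) A) (hB : Val i (SR d u v) B) :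
    Val i (SZ d u) (A * B) :=
  hA.mul hB fun _ h _ h' => SR_mul hf hD.ne h h'

lemma val_mul_SZ [NeZero k] {A B : Mt t k F} (hA : Val i (SR d u v) A) (hB : Val i (SZ d u) B) :
    A * B = 0 ∧ B * A = 0 :=
  ⟨hA.eq_zero hB fun _ h _ h' => (SR_mul_SZ hf hD.ne h h').1, hB.eq_zero hA fun _ h _ h' => (SR_mul_SZ hf hD.ne h' h).2⟩

/-- Elements of the radical are determined modulo the centre. -/
lemma rad_uniq [NeZero k] (hM : Bad d M) {Y Y' : Mt t k F} (hY : Val i (SR d u v) Y) (hY' : Val i (SR d u v) Y')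
    (h : Mem M (1 + Y)) (h' : Mem M (1 + Y')) (hd : Val i (SZ d u) (Y - Y')) : Y = Y' := by
  have e1 := val_mul_SR hD hf hY' hY'
  have hinv : (1 + Y') * (1 - Y' + Y' * Y') = 1 := by
    have := (val_mul_SZ hD hf hY' e1).1
    simp [mul_add, add_mul, mul_sub, this]
    abel
  have hprod : (1 + Y) * (1 - Y' + Y' * Y') = 1 + ((Y - Y') + (Y' * Y' - Y * Y')) := by
    have := (val_mul_SZ hD hf hY e1).1
    simp [mul_add, add_mul, mul_sub, this]
    abel
  obtain ⟨γ, hγ, hγe⟩ := exists_slot_mul (hd.add (e1.sub (val_mul_SR hD hf hY hY')))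
  have hm := h.mul (h'.inv hinv)
  rw [hprod, hγe] at hm
  rw [hM.center_eq_zero hD hf hγ hm, mul_zero] at hγe
  rw [hγe, add_zero] at hprod
  have := congrArg (· * (1 + Y')) hprod
  simp only [one_mul] at this
  rw [mul_assoc, mul_eq_one_comm.1 hinv, mul_one] at this
  exact add_left_cancel this

/-- Elements of the radical commute. -/
lemma rad_comm [NeZero k] (hM : Bad d M) {A B : Mt t k F} (hA : Val i (SR d u v) A) (hB : Val i (SR d u v) B)
    (hAm : Mem M (1 + A)) (hBm : Mem M (1 + B)) : A * B = B * A := by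
  obtain ⟨g, hg, hgv⟩ := hAm
  obtain ⟨h, hh, hhv⟩ := hBm
  have hd := (val_mul_SR hD hf hA hB).sub (val_mul_SR hD hf hB hA)
  have key : (1 + (A * B - B * A)) * ((h * g : GL (Fin t → Fin k) F) : Mt t k F) = ((g * h : GL (Fin t → Fin k) F) : Mt t k F) := by
    have e1 := (val_mul_SZ hD hf hA hd).2
    have e2 := (val_mul_SZ hD hf hB hd).2
    rw [Units.val_mul, Units.val_mul, hgv, hhv,
      show (1 + (A * B - B * A)) * ((1 + B) * (1 + A)) = (1 + A) * (1 + B) +
        ((A * B - B * A) * A + (A * B - B * A) * B + ((A * B - B * A) * B) * A) by noncomm_ring]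
    rw [e1, e2]; simp
  obtain ⟨γ, hγ, hγe⟩ := exists_slot_mul hd
  have hm : Mem M (1 + slot i (vd d u u) * γ) := by
    refine ⟨g * h * (h * g)⁻¹, M.mul_mem (M.mul_mem hg hh) (M.inv_mem (M.mul_mem hh hg)), ?_⟩
    rw [Units.val_mul, ← key, mul_assoc, Units.mul_inv, mul_one, hγe]
  rw [hM.center_eq_zero hD hf hγ hm, mul_zero] at hγe
  exact sub_eq_zero.1 hγe

lemma slot_eich_val [NeZero k] (m : Fin k → F) (hm : m ∈ Pp d u v) :
    Val i (SR d u v) (slot i (wg d m u - (fd d m m / 2) • vd d u u) : Mt t k F) :=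
  val_slot ((SR d u v).sub_mem (SN_le_SR hf hD.ne (mem_SN.2 ⟨m, hm, rfl⟩))
    ((SR d u v).smul_mem _ (SZ_le_SR hf hD.ne (Submodule.mem_span_singleton_self _))))

lemma slot_eich_mem [NeZero k] (hM : Base d M) (m : Fin k → F) (hm : m ∈ Pp d u v) :
    Mem M (1 + slot i (wg d m u - (fd d m m / 2) • vd d u u)) := by
  obtain ⟨g, hg, hgv⟩ := eich_mem_sqG hD.two hD.ne hf.uu hm.1
  refine ⟨slotU i g, hM.slot_sq hD.ne i hg, ?_⟩
  rw [slotU_val, hgv, eich_frame hf, add_sub_assoc, slot_add, slot_one]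

/-- The values of an element of the radical. -/
lemma rad_val [NeZero k] (hM : Bad d M) {Y : Mt t k F} (hY : Val i (SR d u v) Y) (h : Mem M (1 + Y)) :
    Val i (SN d u v) (Y - slot i (vd d u u) * cf d i v v Y) := by
  obtain ⟨n, hn, hnn⟩ := hf.exists_aniso hD
  intro x y
  set X := sl i Y x y with hX
  have hXR : X ∈ SR d u v := hY x y
  have hcomm : ∀ m ∈ Pp d u v, wg d m u * X = X * wg d m u := by
    intro m hm
    have e := congrArg (fun W => sl i W x y)
      (rad_comm hD hf hM hY (slot_eich_val hD hf m hm) h (slot_eich_mem hD hf hM.toBase m hm))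
    simp only [sl_mul_slot, sl_slot_mul, ← hX, mul_sub, sub_mul, mul_smul_comm, smul_mul_assoc] at e
    obtain ⟨e1, e2⟩ := SR_mul_SZ hf hD.ne hXR (Submodule.mem_span_singleton_self (vd d u u))
    rw [e1, e2, smul_zero, sub_zero, sub_zero] at e
    exact e.symm
  have e := commutant hf hD.ne ⟨n, hn, fun e => hnn (by rw [e, fd_zero_left])⟩ hcomm
  have hw := prj_mem hf (X *ᵥ v)
  have h0 : fd d u (X *ᵥ v) = 0 := by
    have e' := congrArg (· *ᵥ u) e
    simp only [hXR.1, Matrix.add_mulVec, Matrix.smul_mulVec, Matrix.one_mulVec, wg_mulVec, vd_mulVec, hf.uu,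
      fd_symm d u (prj d u v (X *ᵥ v)), hw.1, zero_smul, smul_zero, add_zero, sub_zero] at e'
    exact (smul_eq_zero.1 e'.symm).resolve_right hf.u_ne
  rw [sl_sub, sl_slot_mul, sl_cf, mul_smul_comm, mul_one, ← hX]
  conv in (occs := 1) X => rw [e, h0, zero_smul, zero_add]
  rw [add_sub_cancel_right]
  exact mem_SN.2 ⟨_, hw, rfl⟩

/-- The linear parts of the elements of the radical. -/
def radGroup [NeZero k] (M : Subgroup (GL (Fin t → Fin k) F)) (i : Fin t) : AddSubgroup (Mt t k F) where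
  carrier := {P | Val i (SN d u v) P ∧ ∃ γ, Com i γ ∧ Mem M (1 + (P + slot i (vd d u u) * γ))}
  add_mem' := by
    rintro a b ⟨ha, γ, hγ, hγm⟩ ⟨hb, δ, hδ, hδm⟩
    have hv : ∀ {γ : Mt t k F}, Com i γ → Val i (SZ d u) (slot i (vd d u u) * γ) := fun hγ =>
      (val_slot (Submodule.mem_span_singleton_self _)).mul_com hγ
    have hA := (ha.mono (SN_le_SR hf hD.ne)).add ((hv hγ).mono (SZ_le_SR hf hD.ne))
    have hB := (hb.mono (SN_le_SR hf hD.ne)).add ((hv hδ).mono (SZ_le_SR hf hD.ne))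
    obtain ⟨ε, hε, hεe⟩ := exists_slot_mul (val_mul_SR hD hf hA hB)
    refine ⟨ha.add hb, γ + δ + ε, (hγ.add hδ).add hε, ?_⟩
    convert hγm.mul hδm using 1
    rw [mul_add (1 + _), mul_one, add_mul, one_mul, hεe, mul_add, mul_add]
    abel
  zero_mem' := ⟨val_zero, 0, com_zero i, by rw [mul_zero, add_zero, add_zero]; exact Mem.one⟩
  neg_mem' := by
    rintro a ⟨ha, γ, hγ, hγm⟩
    have hZ : Val i (SZ d u) (slot i (vd d u u) * γ) :=
      (val_slot (Submodule.mem_span_singleton_self _)).mul_com hγ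
    have hA := (ha.mono (SN_le_SR hf hD.ne)).add (hZ.mono (SZ_le_SR hf hD.ne))
    have e1 := val_mul_SR hD hf hA hA
    obtain ⟨ε, hε, hεe⟩ := exists_slot_mul e1
    refine ⟨ha.neg, -γ + ε, (by rw [← zero_sub]; exact (com_zero i).sub hγ : Com i (-γ)).add hε, ?_⟩
    refine hγm.inv ?_
    rw [show slot i (vd d u u) * (-γ + ε) = -(slot i (vd d u u) * γ) +
      (a + slot i (vd d u u) * γ) * (a + slot i (vd d u u) * γ) by rw [hεe, mul_add, mul_neg]]
    generalize hW : a + slot i (vd d u u) * γ = W at e1 hA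
    rw [show -a + (-(slot i (vd d u u) * γ) + W * W) = -W + W * W by rw [← hW]; abel,
      show (1 + W) * (1 + (-W + W * W)) = 1 + W * (W * W) by noncomm_ring, (val_mul_SZ hD hf hA e1).1, add_zero]

lemma mem_radGroup [NeZero k] {P : Mt t k F} : P ∈ radGroup hD hf M i ↔
    Val i (SN d u v) P ∧ ∃ γ, Com i γ ∧ Mem M (1 + (P + slot i (vd d u u) * γ)) := Iff.rfl

lemma radGroup_cj [NeZero k] {l : Fin t} {g : GL (Fin k) F} (hgM : slotU l g ∈ M)
    (hfix : l = i → g ∈ isoG d ⊓ fix2 u v) :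
    ∀ P ∈ radGroup hD hf M i, cj (slotU l g) P ∈ radGroup hD hf M i := by
  rintro P ⟨hP, γ, hγ, hm⟩
  rcases eq_or_ne l i with rfl | hl
  · obtain ⟨hg, hu, hv⟩ := Subgroup.mem_inf.1 (hfix rfl)
    refine ⟨fun x y => ?_, γ, hγ, ?_⟩
    · obtain ⟨m, hmP, e⟩ := mem_SN.1 (hP x y)
      rw [sl_cj_slotU, e, conj_wg hD.ne hg, hu]
      refine mem_SN.2 ⟨_, ⟨?_, ?_⟩, rfl⟩
      · have := hg u m; rw [hu] at this; rw [this, hmP.1]
      · have := hg v m; rw [hv] at this; rw [this, hmP.2]
    · have := hm.cj hgM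
      rwa [cj_add, cj_mul, cj_slot, cj_fix_vd hD.ne hg hu, cj_slotU_com hγ] at this
  · refine ⟨(hP.com_mul ?_).mul_com ?_, _, com_cj_slotU hl.symm g hγ, ?_⟩
    · rw [slotU_val]; exact com_slot hl.symm _
    · rw [slotU_inv_val]; exact com_slot hl.symm _
    · have := hm.cj hgM
      rwa [cj_add, cj_mul, cj_slotU_com (com_slot hl _)] at this

omit hf in
lemma radGroup_two [NeZero k] (hf : Fr d u v) (hM : Bad d M) (ht : t < 3) {l : Fin t} (hl : l ≠ i) {C : Mt t k F}
    (hC : C ∈ radGroup hD hf M i) (hS : Val l (SN d u v) C) : C = 0 := by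
  have hd := hD.ne
  obtain ⟨hP, γ, hγ, hm⟩ := hC
  set Z := slot i (vd d u u) * γ with hZ
  have hZv : Val i (SZ d u) Z := (val_slot (Submodule.mem_span_singleton_self _)).mul_com hγ
  have hY : Val i (SR d u v) (C + Z) := (hP.mono (SN_le_SR hf hd)).add (hZv.mono (SZ_le_SR hf hd))
  have e := hM.toBase.mem_iso hd hm
  rw [sa_add, sa_one (dt_ne hd)] at e
  simp only [add_mul, mul_add, one_mul, mul_one] at e
  have hskN : ∀ {j : Fin t} {X : Mt t k F}, Val j (SN d u v) X → ∀ x y p r,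
      d p * sl j X x y p r = -(d r * sl j X x y r p) := fun {j X} hX x y p r => by
    obtain ⟨m, -, e⟩ := mem_SN.1 (hX x y)
    rw [e, wg]; simp [vd_apply]; ring
  have hsaC : Val i (SN d u v) (sa (dt d t) C) := fun x y => by
    rw [sl_sa hd]
    obtain ⟨m, hm, e⟩ := mem_SN.1 (hP y x)
    rw [e, sa_wg hd]
    exact Submodule.smul_mem _ _ ((SN d u v).neg_mem (mem_SN.2 ⟨m, hm, rfl⟩))
  have hsaZ : Val i (SZ d u) (sa (dt d t) Z) := fun x y => by
    rw [sl_sa hd]
    obtain ⟨c, hc⟩ := Submodule.mem_span_singleton.1 (hZv y x)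
    rw [← hc, sa_smul, sa_vd hd]
    exact Submodule.smul_mem _ _ (Submodule.smul_mem _ _ (Submodule.mem_span_singleton_self _))
  have hsaY : Val i (SR d u v) (sa (dt d t) (C + Z)) := by
    rw [sa_add]; exact (hsaC.mono (SN_le_SR hf hd)).add (hsaZ.mono (SZ_le_SR hf hd))
  have hskew : sa (dt d t) C + C = 0 := sl_ext (i := i) fun x y => by
    rw [sl_zero]
    refine sn_inf_sz hf (hsaC.add hP x y) ?_
    have e' : sa (dt d t) C + C = -(sa (dt d t) Z + Z + sa (dt d t) (C + Z) * (C + Z)) := by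
      rw [sa_add] at e ⊢
      simp only [mul_add, add_mul] at e ⊢
      linear_combination (norm := abel) e
    rw [e']
    exact ((hsaZ.add hZv).add (val_mul_SR hD hf hsaY hY)).neg x y
  have huniv : (Finset.univ : Finset (Fin t)) = {i, l} := by
    ext r
    simp only [Finset.mem_univ, Finset.mem_insert, Finset.mem_singleton, true_iff]
    have hli : (l : ℕ) ≠ i := fun e => hl (Fin.ext e)
    have := r.2
    by_cases h : (r : ℕ) = i
    · exact Or.inl (Fin.ext h)
    · exact Or.inr (Fin.ext (by omega))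
  refine Matrix.ext fun x y => ?_
  have hsk := congrFun (congrFun hskew x) y
  have he' : ∀ z : Fin t → Fin k, dt d t z = d (z i) * d (z l) := fun z => by
    rw [dt, huniv, Finset.prod_pair hl.symm]
  simp only [Matrix.add_apply, sa_apply, Matrix.zero_apply, he'] at hsk
  have a1 := hskN hP x y (x i) (y i)
  rw [sl_apply, sl_apply, Function.update_eq_self, Function.update_eq_self] at a1
  have a2 := hskN hS (Function.update x i (y i)) (Function.update y i (x i)) (x l) (y l)
  rw [sl_apply, sl_apply] at a2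
  have ext2 : ∀ a b : Fin t → Fin k, a i = b i → a l = b l → a = b := fun a b h1 h2 => funext fun r => by
    have := Finset.mem_univ r
    rw [huniv] at this
    simp only [Finset.mem_insert, Finset.mem_singleton] at this
    rcases this with rfl | rfl <;> assumption
  have q1 : Function.update (Function.update x i (y i)) l (x l) = Function.update x i (y i) :=
    ext2 _ _ (by simp [hl.symm]) (by simp [hl])
  have q2 : Function.update (Function.update y i (x i)) l (y l) = Function.update y i (x i) :=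
    ext2 _ _ (by simp [hl.symm]) (by simp [hl])
  have q3 : Function.update (Function.update x i (y i)) l (y l) = y :=
    ext2 _ _ (by simp [hl.symm]) (by simp)
  have q4 : Function.update (Function.update y i (x i)) l (x l) = x :=
    ext2 _ _ (by simp [hl.symm]) (by simp)
  rw [q1, q2, q3, q4] at a2
  have h0 := hd (x i); have h1 := hd (x l)
  field_simp at hsk
  refine (mul_eq_zero.1 (show (2 * (d (x i) * d (x l))) * C x y = 0 by
    linear_combination hsk + (d (x l)) * a1 - (d (y i)) * a2)).resolve_left ?_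
  exact mul_ne_zero hD.two (mul_ne_zero h0 h1)

end CfsgLib.Geo.TensorPow.O
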