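/-
The elements of the group in the radical of one factor are Eichler elements of that factor.
-/
import Cfsg.Agent.Geo.TensorPow.O.Rad

set_option autoImplicit false
set_option linter.unusedSectionVars false

namespace CfsgLib.Geo.TensorPow.O

open Matrix Cfsg.Geo CfsgLib.Aschbacher
open CfsgLib.Geo.TensorPow.U (inSlot_of_com emb embHom emb_mul emb_one emb_injective exists_embHom emb_tens emb_add
  emb_smul embHom_val exists_emb pv_ne_zero pv_eq_zero)
open scoped MatrixGroups

variable {F : Type*} [Field F] [Fintype F] {t k : ℕ} {d u v : Fin k → F}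

lemma nilp_not_scalar (hd : ∀ p, d p ≠ 0) (hf : Fr d u v) {A : Matrix (Fin k) (Fin k) F} (hA : A * vd d u u = 0)
    {c : F} (h : A = c • 1) : A = 0 := by
  rw [h, smul_mul_assoc, one_mul, smul_eq_zero] at hA
  rw [h, hA.resolve_right (vd_ne_zero hd hf.u_ne hf.u_ne), zero_smul]

/-- The factor of a slot times a matrix of the other factors. -/
lemma factor_scalar_of_com [NeZero k] {l : Fin t} {A : Matrix (Fin k) (Fin k) F} {γ : Mt t k F} (hγ : Com l γ)
    (hγ0 : γ ≠ 0) (h : Com l (slot l A * γ)) : ∃ c : F, A = c • 1 := by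
  obtain ⟨x, y, hxy⟩ : ∃ x y, sl l γ x y ≠ 0 := by
    by_contra hc; push Not at hc; exact hγ0 (sl_ext (i := l) fun x y => by rw [hc, sl_zero])
  obtain ⟨c, hc⟩ := com_iff_sl.1 hγ x y
  obtain ⟨b, hb⟩ := com_iff_sl.1 h x y
  rw [sl_slot_mul, hc, mul_smul_comm, mul_one] at hb
  have hc0 : c ≠ 0 := fun e => hxy (by rw [hc, e, zero_smul])
  exact ⟨c⁻¹ * b, by rw [← smul_smul, ← hb, inv_smul_smul₀ hc0]⟩

theorem rad_eq_slot_aux (hD : Dat d) (hf : Fr d u v) : ∀ (t : ℕ) (M : Subgroup (GL (Fin t → Fin k) F)), Bad d M →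
    ∀ (i : Fin t) (Y : Mt t k F), Val i (SR d u v) Y → Mem M (1 + Y) →
      ∃ w ∈ Pp d u v, 1 + Y = slot i (eich d u w) := by
  classical
  have := hD.neZero
  have hd := hD.ne
  have h2 := hD.two
  intro t
  induction t using Nat.strong_induction_on with
  | _ t ih =>
  intro M hM i Y hY hm
  set Z := vd d u u with hZdef
  set K := radGroup hD hf M i with hK
  have hZv : ∀ {γ : Mt t k F}, Com i γ → Val i (SZ d u) (slot i Z * γ) := fun hγ =>
    (val_slot (Submodule.mem_span_singleton_self _)).mul_com hγ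
  have hSR : ∀ {P γ : Mt t k F}, Val i (SN d u v) P → Com i γ → Val i (SR d u v) (P + slot i Z * γ) := fun hP hγ =>
    (hP.mono (SN_le_SR hf hd)).add ((hZv hγ).mono (SZ_le_SR hf hd))
  have hP₀ : Y - slot i Z * cf d i v v Y ∈ K := ⟨rad_val hD hf hM hY hm, _, com_cf v v Y, by rwa [sub_add_cancel]⟩
  -- invariance
  have hinv : ∀ l, l ≠ i → ∀ g ∈ sqG d, ∀ X ∈ K, cj (slotU l g) X ∈ K := fun l hl g hg =>
    radGroup_cj hD hf (hM.toBase.slot_sq hd l hg) fun e => absurd e hl
  have hinvF : ∀ l, l ≠ i → Even k → 3 ≤ t → ∀ g ∈ isoG d, ∀ X ∈ K, cj (slotU l g) X ∈ K := fun l hl he ht g hg =>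
    radGroup_cj hD hf (hM.full he ht l g hg) fun e => absurd e hl
  by_cases hall : ∀ P ∈ K, ∀ l, l ≠ i → Com l P
  · obtain ⟨A, hA⟩ := inSlot_of_com (hall _ hP₀)
    have hAS : A ∈ SN d u v := by
      have := rad_val hD hf hM hY hm (fun _ => 0) (fun _ => 0)
      rw [hA, sl_slot, if_pos fun _ _ => rfl] at this
      exact this
    obtain ⟨w, hw, rfl⟩ := mem_SN.1 hAS
    refine ⟨w, hw, ?_⟩
    have e := rad_uniq hD hf hM hY (slot_eich_val hD hf w hw) hm (slot_eich_mem hD hf hM.toBase w hw) (by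
      rw [slot_sub, ← sub_add, ← eq_sub_iff_add_eq.1 hA.symm, add_sub_cancel_left, slot_smul]
      exact (hZv (com_cf v v Y)).add ((val_slot (Submodule.mem_span_singleton_self _)).smul _))
    rw [e, eich_frame hf, add_sub_assoc, slot_add, slot_one]
  exfalso
  push Not at hall
  obtain ⟨P, hP, l, hli, hPl⟩ := hall
  have ht2 : 2 ≤ t := by
    have := Fintype.one_lt_card_iff.2 ⟨l, i, hli⟩
    simp at this; omega
  obtain ⟨n, hn, hnn⟩ := hf.exists_aniso hD
  -- the first factor
  obtain ⟨A, γ₁, hA, hγ₁, hγ₁0, hγ₁K⟩ : ∃ A γ, (A = Z ∨ A = wg d n u) ∧ Com l γ ∧ γ ≠ 0 ∧ slot l A * γ ∈ K := by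
    obtain ⟨C', hC', hC'0, hv | hv, -⟩ := exists_center_or_linear hD hf (hinv l hli) hP hPl
    · obtain ⟨γ, hγ, rfl⟩ := exists_slot_mul hv
      exact ⟨_, γ, Or.inl rfl, hγ, fun h => hC'0 (by rw [h, mul_zero]), hC'⟩
    · obtain ⟨w, hw, hw0, γ, hγ, hγ0, hK', -⟩ := exists_line hD hf
        (fun g hg X hX => hinv l hli g (Subgroup.mem_inf.1 hg).1 X hX)
        (fun he ht g hg X hX => hinvF l hli he ht g (Subgroup.mem_inf.1 hg).1 X hX)
        (fun _ ht X hX hS => ⟨0, (Pp d u v).zero_mem, 0, com_zero l,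
          by rw [mul_zero]; exact radGroup_two hD hf hM ht hli hX hS⟩) hC' hC'0 hv
      obtain ⟨φ, hφ, hφv⟩ := exists_upgrade hD hf hw hw0 hn
      obtain ⟨C'', hC'', h1, -⟩ := hφ.apply (hinv l hli) _ hK'
      refine ⟨_, γ, Or.inr rfl, hγ, hγ0, ?_⟩
      have e : C'' = slot l (wg d n u) * γ := sl_ext (i := l) fun x y => by
        obtain ⟨c, hc⟩ := com_iff_sl.1 hγ x y
        rw [h1, sl_slot_mul, sl_slot_mul, hc, mul_smul_comm, mul_one, hφv, mul_smul_comm, mul_one]
      rwa [← e]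
  have hn0 : wg d n u ≠ 0 := fun e => hnn (by rw [nm_eq_zero hf hn e, fd_zero_left])
  have hA0 : A ≠ 0 := by
    rcases hA with rfl | rfl
    · exact vd_ne_zero hd hf.u_ne hf.u_ne
    · exact hn0
  have hAZ : A * Z = 0 := by
    rcases hA with rfl | rfl
    · exact z_mul_z hf
    · exact nm_mul_z hf hn
  set K₁ := coefGroup K l A with hK₁
  have hK₁v : ∀ X ∈ K₁, Val i (SN d u v) X := fun X hX => val_coef hli hA0 hX.1 hX.2.1
  -- the factor `i`
  obtain ⟨w, hw, hw0, γ₀, hγ₀, hγ₀0, hγ₀K, hγ₀c⟩ := exists_line (K := K₁) (l := i) hD hf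
    (fun g hg => coef_cj (radGroup_cj hD hf (hM.toBase.slot_sq hd i (Subgroup.mem_inf.1 hg).1) fun _ =>
      Subgroup.mem_inf.2 ⟨sqG_le d (Subgroup.mem_inf.1 hg).1, (Subgroup.mem_inf.1 hg).2⟩))
    (fun he ht g hg => coef_cj (radGroup_cj hD hf (hM.full he ht i g (Subgroup.mem_inf.1 hg).1) fun _ => hg))
    (fun _ ht X hX hS => by
      obtain ⟨B, rfl⟩ := inSlot_of_com (j := i) fun r hr => by
        have : r = l := by
          have hli' : (l : ℕ) ≠ i := fun e => hli (Fin.ext e)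
          have hrl : (r : ℕ) ≠ i := fun e => hr (Fin.ext e)
          exact Fin.ext (by omega)
        rw [this]; exact hX.1
      have := hS (fun _ => 0) (fun _ => 0)
      rw [sl_slot, if_pos fun _ _ => rfl] at this
      obtain ⟨m, hm, rfl⟩ := mem_SN.1 this
      exact ⟨m, hm, 1, com_one i, by rw [mul_one]⟩)
    (C := γ₁) ⟨hγ₁, hγ₁K⟩ hγ₁0 (hK₁v _ ⟨hγ₁, hγ₁K⟩)
  obtain ⟨w₁, hw₁, hww, φ, hφ, hφv⟩ := exists_aniso_line hD hf hw hw0
  have hwK : slot i (wg d w₁ u) * γ₀ ∈ K₁ := by
    obtain ⟨C'', hC'', h1, -⟩ := hφ.apply (K := K₁) (l := i) (fun g hg => coef_cj (radGroup_cj hD hf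
      (hM.toBase.slot_sq hd i (Subgroup.mem_inf.1 hg).1) fun _ =>
        Subgroup.mem_inf.2 ⟨sqG_le d (Subgroup.mem_inf.1 hg).1, (Subgroup.mem_inf.1 hg).2⟩)) _ hγ₀K
    have e : C'' = slot i (wg d w₁ u) * γ₀ := sl_ext (i := i) fun x y => by
      obtain ⟨c, hc⟩ := com_iff_sl.1 hγ₀ x y
      rw [h1, sl_slot_mul, sl_slot_mul, hc, mul_smul_comm, mul_one, hφv, mul_smul_comm, mul_one]
    rwa [← e]
  set Nw := wg d w₁ u with hNw
  have hNw0 : Nw ≠ 0 := fun e => hww (by rw [nm_eq_zero hf hw₁ e, fd_zero_left])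
  set K₂ := coefGroup K₁ i Nw with hK₂
  have hK₂o : Opn d K₂ := by
    constructor
    · intro r g hg
      rcases eq_or_ne r i with rfl | hr
      · intro X hX; rw [cj_slotU_com hX.1]; exact hX
      · exact coef_cj (coef_cj (hinv r hr g hg))
    · intro he ht r g hg
      rcases eq_or_ne r i with rfl | hr
      · intro X hX; rw [cj_slotU_com hX.1]; exact hX
      · exact coef_cj (coef_cj (hinvF r hr he ht g hg))
  have hK₂l : ∀ X ∈ K₂, Com l X := fun X hX => Com.of_slot_mul hli hNw0 hX.1 hX.2.1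
  have hK₂p : Pur d u v K₂ := by
    intro r _ ht X hX hS
    have hr : Com r X := by
      have hli' : (l : ℕ) ≠ i := fun e => hli (Fin.ext e)
      rcases eq_or_ne r i with rfl | hr
      · exact hX.1
      · have : r = l := Fin.ext (by have : (r : ℕ) ≠ i := fun e => hr (Fin.ext e); omega)
        rw [this]; exact hK₂l X hX
    refine ⟨0, (Pp d u v).zero_mem, 0, com_zero r, sl_ext (i := r) fun x y => ?_⟩
    obtain ⟨c, hc⟩ := com_iff_sl.1 hr x y
    obtain ⟨m, hm, hmv⟩ := mem_SN.1 (hS x y)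
    rw [hc, mul_zero, sl_zero]
    exact nilp_not_scalar hd hf (c := c) (by rw [← hc, hmv, nm_mul_z hf hm]) rfl
  obtain ⟨c, f, hc, hcK, hf3, hf1⟩ := exists_monomial hD hf hn hnn hK₂o hK₂p ⟨hγ₀, hwK⟩ hγ₀0
  set G : Fin t → Matrix (Fin k) (Fin k) F := Function.update f l A with hG
  have hfl : f l = 1 := hf1 l (hK₂l _ ⟨hγ₀, hwK⟩)
  have hfi : f i = 1 := hf1 i hγ₀
  have hGi : G i = 1 := by rw [hG, Function.update_of_ne hli.symm, hfi]
  have hP' : c • (tens (Function.update G i Nw) : Mt t k F) ∈ K := by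
    have := hcK.2.2
    rwa [mul_smul_comm, mul_smul_comm, slot_mul_tens, hfi, mul_one, slot_mul_tens,
      Function.update_of_ne hli, hfl, mul_one, Function.update_comm hli.symm, ← hG] at this
  set P' := c • (tens (Function.update G i Nw) : Mt t k F) with hP'def
  obtain ⟨hPv, γ, hγ, hmem⟩ := hP'
  set Y' := P' + slot i Z * γ with hY'
  have hY'v : Val i (SR d u v) Y' := hSR hPv hγ
  have hG3 : ∀ r, G r = 1 ∨ G r = Z ∨ G r = wg d n u := fun r => by
    rcases eq_or_ne r l with rfl | hr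
    · rw [hG, Function.update_self]; exact Or.inr hA
    · rw [hG, Function.update_of_ne hr]; exact hf3 r
  by_cases hone : ∃ r, r ≠ i ∧ G r = 1
  · obtain ⟨r, hri, hr⟩ := hone
    -- the element commutes with the squares in the factor `r`
    have hcom : Com r Y' := by
      refine com_iff_sl.2 fun x y => scalar_of_comm hD hf fun g hg => ?_
      have hcP : Com r P' := (com_tens (by rw [Function.update_of_ne hri, hr])).smul c
      have hgM := hM.toBase.slot_sq hd r hg
      have hcj : cj (slotU r g) Y' = P' + slot i Z * cj (slotU r g) γ := by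
        rw [hY', cj_add, cj_slotU_com hcP, cj_mul, cj_slotU_com (com_slot hri _)]
      have hmem' : Mem M (1 + (P' + slot i Z * cj (slotU r g) γ)) := by rw [← hcj]; exact hmem.cj hgM
      have e := rad_uniq hD hf hM hY'v (hSR hPv (com_cj_slotU hri.symm g hγ)) hmem hmem' (by
        rw [add_sub_add_left_eq_sub]; exact (hZv hγ).sub (hZv (com_cj_slotU hri.symm g hγ)))
      rw [← hcj] at e
      have e' := congrArg (fun W => sl r W x y) e
      simp only [sl_cj_slotU] at e'
      conv_rhs => rw [e']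
      rw [mul_assoc, Units.inv_mul, mul_one]
    obtain ⟨s, rfl⟩ : ∃ s, t = s + 1 := ⟨t - 1, by omega⟩
    obtain ⟨i', rfl⟩ : ∃ i', r.succAbove i' = i := Fin.exists_succAbove_eq hri.symm
    obtain ⟨Y₁, hY₁⟩ := exists_emb hcom
    have hY₁v : Val i' (SR d u v) Y₁ := fun x y => by
      rw [← sl_emb r, ← hY₁]; exact hY'v _ _
    have hY₁m : Mem (M.comap (embHom r)) (1 + Y₁) := by
      obtain ⟨g, hg, hgv⟩ := hmem
      rw [hY₁, ← emb_one r, ← emb_add] at hgv
      obtain ⟨g', rfl⟩ := exists_embHom (b := r) (g := g) (by rw [hgv]; exact com_emb r _)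
      exact ⟨g', hg, emb_injective r (by rw [← embHom_val, hgv])⟩
    obtain ⟨w₂, hw₂, he₂⟩ := ih s (Nat.lt_succ_self s) _ (comap_bad hd hD hM r) i' _ hY₁v hY₁m
    have hY'e : 1 + Y' = slot (r.succAbove i') (eich d u w₂) := by
      rw [hY₁, ← emb_one r, ← emb_add, he₂, emb_slot]
    rw [eich_frame hf, add_sub_assoc, slot_add, slot_one, add_left_cancel_iff, slot_sub, slot_smul, hY',
      ← sub_eq_zero] at hY'e
    have hPe : P' = slot (r.succAbove i') (wg d w₂ u) := by
      refine sl_ext (i := r.succAbove i') fun x y => sub_eq_zero.1 (sn_inf_sz hf ?_ ?_)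
      · exact (SN d u v).sub_mem (hPv x y) (val_slot (mem_SN.2 ⟨w₂, hw₂, rfl⟩) x y)
      · have e2 : P' - slot (r.succAbove i') (wg d w₂ u) =
            -(slot (r.succAbove i') Z * γ + (fd d w₂ w₂ / 2) • slot (r.succAbove i') Z) := by
          linear_combination (norm := abel) hY'e
        rw [← sl_sub, e2]
        exact ((hZv hγ).add ((val_slot (Submodule.mem_span_singleton_self _)).smul _)).neg x y
    have hl' : Com l P' := by rw [hPe]; exact com_slot hli _
    rw [hP'def, show Function.update G (r.succAbove i') Nw =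
      Function.update (Function.update f (r.succAbove i') Nw) l A by rw [hG, Function.update_comm hli.symm]] at hl'
    rw [tens_split l, Function.update_self, Function.update_idem, ← mul_smul_comm] at hl'
    obtain ⟨b, hb⟩ := factor_scalar_of_com (l := l) ((com_tens (by simp)).smul c) (smul_ne_zero hc (tens_ne_zero fun j => by
      rcases eq_or_ne j l with rfl | h1
      · simp
      rw [Function.update_of_ne h1]
      rcases eq_or_ne j (r.succAbove i') with rfl | h2
      · rw [Function.update_self]; exact hNw0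
      rw [Function.update_of_ne h2]
      rcases hf3 j with h | h | h <;> rw [h]
      · exact one_ne_zero
      · exact vd_ne_zero hd hf.u_ne hf.u_ne
      · exact hn0)) hl'
    exact hA0 (nilp_not_scalar hd hf hAZ hb)
  push Not at hone
  have hG2 : ∀ r, r ≠ i → G r = Z ∨ G r = wg d n u := fun r hr => (hG3 r).resolve_left (hone r hr)
  set B := Function.update G i Nw with hB
  have hBi : B i = Nw := Function.update_self ..
  have hBr : ∀ r, r ≠ i → B r = G r := fun r hr => Function.update_of_ne hr _ _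
  -- two conjugates which do not commute
  have key : ∀ (W : Fin t → GL (Fin k) F), (∀ r, W r ∈ sqG d) → W i = 1 → ∀ z : Fin t → Fin k → F,
      let B' := fun r => (W r : Matrix (Fin k) (Fin k) F) * B r * (((W r)⁻¹ : GL (Fin k) F) : Matrix (Fin k) (Fin k) F)
      (∃ r, (B r * B' r) *ᵥ z r = 0) → ∀ hh : (∀ r, (B' r * B r) *ᵥ z r ≠ 0), False := by
    intro W hW hWi z B' ⟨r, hr⟩ hh
    obtain ⟨G', hG', hGv⟩ := hM.toBase.tens_sq hd W hW
    have hGi' : ((G'⁻¹ : GL (Fin t → Fin k) F) : Mt t k F) =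
        tens fun r => (((W r)⁻¹ : GL (Fin k) F) : Matrix (Fin k) (Fin k) F) :=
      Units.inv_eq_of_mul_eq_one_right (by rw [hGv, tens_mul]; simp [tens_one])
    have hci : ∀ (V : Fin t → GL (Fin k) F), V i = 1 →
        Com i (tens fun r => (V r : Matrix (Fin k) (Fin k) F) : Mt t k F) := fun V hV => com_tens (by simp [hV])
    have hc1 := hci W hWi
    have hc2 := hci (fun r => (W r)⁻¹) (by simp [hWi])
    have hcjP : cj G' P' = c • tens B' := by
      rw [hP'def, cj_smul, cj, hGv, hGi', tens_mul, tens_mul]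
    have hcjZ : Val i (SZ d u) (cj G' (slot i Z * γ)) := by
      rw [cj, hGv, hGi']; exact ((hZv hγ).com_mul hc1).mul_com hc2
    have hcjPv : Val i (SR d u v) (c • tens B') := by
      rw [← hcjP, cj, hGv, hGi']; exact (((hPv.mono (SN_le_SR hf hd))).com_mul hc1).mul_com hc2
    have hmem2 := hmem.cj hG'
    have e := rad_comm hD hf hM hY'v (hcjPv.add (hcjZ.mono (SZ_le_SR hf hd))) hmem
      (by rw [← hcjP, ← cj_add]; exact hmem2)
    have z1 := val_mul_SZ hD hf hY'v hcjZ
    have z2 := val_mul_SZ hD hf hcjPv (hZv hγ)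
    rw [mul_add, add_mul (c • tens B') _ Y', z1.1, z1.2, add_zero, add_zero, hY', add_mul, mul_add, z2.1, z2.2,
      add_zero, add_zero, hP'def, smul_mul_smul_comm, smul_mul_smul_comm, tens_mul, tens_mul] at e
    have e' := congrArg (· *ᵥ pv z) (smul_right_injective _ (mul_ne_zero hc hc) e)
    simp only [tens_mulVec_pv] at e'
    rw [pv_eq_zero (i := r) hr] at e'
    exact pv_ne_zero hh e'.symm
  obtain ⟨w₀, hw₀, hwu, hwv, hwn, -⟩ := exists_weyl hD hf hn hnn
  set α := -(fd d n n / 2) with hα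
  have hα0 : α ≠ 0 := neg_ne_zero.2 (div_ne_zero hnn h2)
  have hw0' := sqG_le d hw₀
  have hNN : ∀ m ∈ Pp d u v, fd d m m ≠ 0 → (wg d m u * wg d m u) *ᵥ v ≠ 0 := fun m hm hmm => by
    rw [nm_mul hf hm hm, Matrix.smul_mulVec, vd_mulVec, hf.uv, one_smul]
    exact smul_ne_zero (neg_ne_zero.2 hmm) hf.u_ne
  have hcz : (w₀ : Matrix (Fin k) (Fin k) F) * Z * ((w₀⁻¹ : GL (Fin k) F) : Matrix (Fin k) (Fin k) F) =
      (α * α) • vd d v v := by
    rw [hZdef, conj_vd hd hw0', hwu, vd_smul_left, vd_smul_right, smul_smul]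
  have hNZ : wg d n u ≠ Z := fun e => by
    have := congrArg (· *ᵥ v) e
    simp only [hZdef, nm_mulVec_v hf hn, vd_mulVec, hf.uv, one_smul] at this
    exact hnn (by rw [this, hf.uu])
  by_cases hT : ∃ r, r ≠ i ∧ G r = Z
  · obtain ⟨r, hri, hr⟩ := hT
    refine key (fun j => if j ≠ i ∧ G j = Z then w₀ else 1)
      (fun j => by split_ifs <;> [exact hw₀; exact (sqG d).one_mem]) (by simp) (fun _ => v) ⟨r, ?_⟩ fun j => ?_
    · beta_reduce
      rw [hBr r hri, if_pos ⟨hri, hr⟩, hr, hcz, hZdef, mul_smul_comm, vd_mul_vd, hf.uv, one_smul, Matrix.smul_mulVec,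
        vd_mulVec, hf.vv, zero_smul, smul_zero]
    · beta_reduce
      rcases eq_or_ne j i with rfl | hj
      · simp only [ne_eq, not_true_eq_false, false_and, if_false, hBi, Units.val_one, inv_one, one_mul, mul_one]
        exact hNN w₁ hw₁ hww
      rw [hBr j hj]
      rcases hG2 j hj with h | h
      · rw [if_pos ⟨hj, h⟩, h, hcz, hZdef, smul_mul_assoc, vd_mul_vd, hf.vu, one_smul, Matrix.smul_mulVec, vd_mulVec,
          hf.uv, one_smul]
        exact smul_ne_zero (mul_ne_zero hα0 hα0) hf.v_ne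
      · rw [if_neg (fun e => hNZ (h ▸ e.2)), h, Units.val_one, inv_one, Units.val_one, one_mul, mul_one]
        exact hNN n hn hnn
  push Not at hT
  have hGN : ∀ r, r ≠ i → G r = wg d n u := fun r hr => (hG2 r hr).resolve_left (hT r hr)
  have hnu : fd d n u = 0 := by rw [fd_symm, hn.1]
  have hnv : fd d n v = 0 := by rw [fd_symm, hn.2]
  have hcn : (w₀ : Matrix (Fin k) (Fin k) F) * wg d n u * ((w₀⁻¹ : GL (Fin k) F) : Matrix (Fin k) (Fin k) F) =
      wg d (-n) (α • v) := by rw [conj_wg hd hw0', hwn, hwu]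
  refine key (fun j => if j = l then w₀ else 1) (fun j => by split_ifs <;> [exact hw₀; exact (sqG d).one_mem])
    (by simp [hli.symm]) (fun _ => v) ⟨l, ?_⟩ fun j => ?_
  · beta_reduce
    rw [if_pos rfl, hBr l hli, hGN l hli, hcn, ← Matrix.mulVec_mulVec, wg_mulVec d (-n), fd_smul_left, hf.vv,
      fd_neg_left, hnv]
    simp
  · beta_reduce
    rcases eq_or_ne j l with rfl | hjl
    · rw [if_pos rfl, hBr j hli, hGN j hli, hcn, ← Matrix.mulVec_mulVec, nm_mulVec_v hf hn, wg_mulVec, fd_smul_left,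
        hn.2, fd_neg_left]
      simpa using And.intro hnn (And.intro hα0 hf.v_ne)
    rw [if_neg hjl, Units.val_one, inv_one, Units.val_one, one_mul, mul_one]
    rcases eq_or_ne j i with rfl | hj
    · rw [hBi]; exact hNN w₁ hw₁ hww
    · rw [hBr j hj, hGN j hj]; exact hNN n hn hnn

/-- The elements of the radical of one factor are Eichler elements. -/
theorem Bad.rad_eq_slot {M : Subgroup (GL (Fin t → Fin k) F)} (hM : Bad d M) (hD : Dat d) (hf : Fr d u v) {i : Fin t}
    {Y : Mt t k F} (hY : Val i (SR d u v) Y) (h : Mem M (1 + Y)) : ∃ w ∈ Pp d u v, 1 + Y = slot i (eich d u w) :=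
  rad_eq_slot_aux hD hf t M hM i Y hY h

end CfsgLib.Geo.TensorPow.O
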