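/-
The centraliser of the radical of one factor in an overgroup without full root groups.
-/
import Cfsg.Agent.Geo.TensorPow.O.RadMain
import Cfsg.Agent.Geo.TensorPow.O.Gen

set_option autoImplicit false
set_option linter.unusedSectionVars false

namespace CfsgLib.Geo.TensorPow.O

open Matrix Cfsg.Geo CfsgLib.Aschbacher
open CfsgLib.Geo.TensorPow.U (inSlot_of_com emb embHom emb_mul emb_one emb_injective exists_emb exists_embHom emb_tens
  embHom_val embHom_mem_wreath mem_wreath_one)
open scoped MatrixGroups commutatorElement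

variable {F : Type*} [Field F] {s t k : ℕ} {d u v : Fin k → F}

/-- The scalar part of a matrix in the commutant. -/
def cpart (d u v : Fin k → F) : Matrix (Fin k) (Fin k) F →ₗ[F] F where
  toFun X := fd d u (X *ᵥ v)
  map_add' X Y := by rw [Matrix.add_mulVec, fd_add_right]
  map_smul' c X := by rw [Matrix.smul_mulVec, fd_smul_right]; rfl

/-- A sign change at two indices of equal weight is a square of an isometry. -/
lemma exists_sign {ι : Type} [Fintype ι] [DecidableEq ι] {e : ι → F} (he : ∀ i, e i ≠ 0) {p q : ι} (hpq : p ≠ q)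
    (hw : e p = e q) :
    ∃ g ∈ isoG e, ((g * g : GL ι F) : Matrix ι ι F) = Matrix.diagonal fun z => if z = p ∨ z = q then -1 else 1 := by
  set n : ι → F := Pi.single p 1 with hn
  set c : ι → F := Pi.single q 1 with hc
  set h := e p with hh
  have h0 : h ≠ 0 := he p
  have hnn : fd e n n = h := by rw [fd_single_right, hn, Pi.single_eq_same, mul_one]
  have hcc : fd e c c = h := by rw [fd_single_right, hc, Pi.single_eq_same, mul_one]; exact hw.symm
  have hnc : fd e n c = 0 := by rw [fd_single_right, hn, Pi.single_eq_of_ne hpq.symm, mul_zero]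
  have hcn : fd e c n = 0 := by rw [fd_symm, hnc]
  set R : F → Matrix ι ι F := fun s => 1 + (s / h) • wg e c n - h⁻¹ • (vd e n n + vd e c c) with hR
  have hRR : R (-1) * R 1 = 1 ∧ R 1 * R (-1) = 1 ∧ R 1 * R 1 = 1 - (2 / h) • (vd e n n + vd e c c) := by
    simp only [hR, wg, add_mul, mul_add, sub_mul, mul_sub, smul_add, smul_sub, smul_mul_smul_comm, mul_one,
      one_mul, smul_mul_assoc, mul_smul_comm, smul_smul, vd_mul_vd, hcn, hnc, hcc, hnn, zero_smul, smul_zero]
    refine ⟨?_, ?_, ?_⟩ <;> match_scalars <;> field_simp <;> ring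
  have hsa : sa e (R 1) = R (-1) := by
    simp only [hR, sa_add, sa_sub, sa_smul, sa_one he, sa_wg he, sa_vd he, smul_neg, neg_div, neg_smul]
  refine ⟨⟨R 1, R (-1), hRR.2.1, hRR.1⟩, (mem_isoG he).2 (by show sa e (R 1) * R 1 = 1; rw [hsa, hRR.1]), ?_⟩
  rw [Units.val_mul]
  show R 1 * R 1 = _
  rw [hRR.2.2]
  ext a b
  simp only [Matrix.sub_apply, Matrix.smul_apply, Matrix.add_apply, vd_apply, hn, hc, Pi.single_apply,
    Matrix.one_apply, Matrix.diagonal_apply, smul_eq_mul]
  rcases eq_or_ne a b with rfl | hab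
  · rcases eq_or_ne a p with rfl | hap
    · simp [hpq, ← hh]; field_simp; ring
    · rcases eq_or_ne a q with rfl | haq
      · simp [hpq.symm]; rw [← hw]; field_simp; ring
      · simp [hap, haq]
  · rcases eq_or_ne a p with rfl | hap
    · simp [hab, hab.symm, hpq]
    · rcases eq_or_ne a q with rfl | haq
      · simp [hab, hab.symm, hpq.symm]
      · simp [hab, hap, haq]

lemma slot_diagonal (i : Fin t) (f : Fin k → F) :
    slot i (Matrix.diagonal f) = (Matrix.diagonal fun z : Fin t → Fin k => f (z i) : Mt t k F) := by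
  ext x y
  rw [slot_apply]
  by_cases h : x = y
  · subst h; simp
  · rw [Matrix.diagonal_apply_ne _ h]
    split_ifs with h'
    · refine Matrix.diagonal_apply_ne _ fun e => h (funext fun l => ?_)
      rcases eq_or_ne l i with rfl | hl
      · exact e
      · exact h' l hl
    · rfl

variable [Fintype F] {M : Subgroup (GL (Fin t → Fin k) F)} (hD : Dat d) (hf : Fr d u v)
include hD hf

lemma eich_eq_one {m : Fin k → F} (hm : m ∈ Pp d u v) (h : eich d u m = 1) : m = 0 := by
  have e := congrArg (· *ᵥ v) h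
  simp only [eich_mulVec, hf.uv, Matrix.one_mulVec, fd_symm d v m, hm.2, one_smul, zero_smul, sub_zero, mul_one] at e
  refine Pp_nondeg hf hD.ne hm fun m' hm' => ?_
  have e' := congrArg (fd d m') e
  simp only [fd_add_right, fd_sub_right, fd_smul_right, fd_symm d v m', fd_symm d u m', hm'.1, hm'.2, mul_zero,
    sub_zero, zero_add] at e'
  rw [fd_symm, e']

/-- The values of the commutant. -/
lemma sc_cases {X : Matrix (Fin k) (Fin k) F} (hX : X ∈ SC d u v) :
    X - cpart d u v X • 1 ∈ SR d u v ∧ X *ᵥ u = cpart d u v X • u := by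
  obtain ⟨Y, hY, Z, hZ, rfl⟩ := Submodule.mem_sup.1 hX
  obtain ⟨A, hA, N, hN, rfl⟩ := Submodule.mem_sup.1 hY
  obtain ⟨c, rfl⟩ := Submodule.mem_span_singleton.1 hA
  have hR : N + Z ∈ SR d u v := (SR d u v).add_mem (SN_le_SR hf hD.ne hN) (SZ_le_SR hf hD.ne hZ)
  obtain ⟨m, hm, rfl⟩ := mem_SN.1 hN
  obtain ⟨μ, rfl⟩ := Submodule.mem_span_singleton.1 hZ
  have hc : cpart d u v (c • 1 + wg d m u + μ • vd d u u) = c := by
    simp [cpart, Matrix.add_mulVec, Matrix.smul_mulVec, nm_mulVec_v hf hm, vd_mulVec, fd_add_right, fd_smul_right,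
      hf.uv, hf.uu, hm.1]
  rw [hc]
  refine ⟨?_, ?_⟩
  · rwa [add_assoc, add_sub_cancel_left]
  · rw [add_assoc, Matrix.add_mulVec, hR.1, Matrix.smul_mulVec, Matrix.one_mulVec, add_zero]

lemma sc_mul {X Y : Matrix (Fin k) (Fin k) F} (hX : X ∈ SC d u v) (hY : Y ∈ SC d u v) :
    cpart d u v (X * Y) = cpart d u v X * cpart d u v Y := by
  obtain ⟨hX1, -⟩ := sc_cases hD hf hX
  obtain ⟨hY1, -⟩ := sc_cases hD hf hY
  obtain ⟨hX2, hY2⟩ : cpart d u v (X - cpart d u v X • 1) = 0 ∧ cpart d u v (Y - cpart d u v Y • 1) = 0 := by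
    have e : cpart d u v 1 = 1 := by simp [cpart, hf.uv]
    simp [e]
  generalize cpart d u v X = a at *
  generalize cpart d u v Y = b at *
  obtain ⟨c, hc⟩ := Submodule.mem_span_singleton.1 (SR_mul hf hD.ne hX1 hY1)
  have e : X * Y = (a * b) • 1 + a • (Y - b • 1) + b • (X - a • 1) + c • vd d u u := by
    rw [hc]; simp [sub_mul, mul_sub, smul_sub, smul_smul]
  have e1 : cpart d u v 1 = 1 := by simp [cpart, hf.uv]
  have e2 : cpart d u v (vd d u u) = 0 := by simp [cpart, vd_mulVec, hf.uv, hf.uu]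
  rw [e]
  simp [map_add, map_smul, hX2, hY2, e1, e2]

lemma sc_sa {X : Matrix (Fin k) (Fin k) F} (hX : X ∈ SC d u v) : cpart d u v (sa d X) = cpart d u v X := by
  show fd d u (sa d X *ᵥ v) = _
  rw [← fd_mulVec hD.ne, (sc_cases hD hf hX).2, fd_smul_left, hf.uv, mul_one]

omit hD hf in
/-- The members of the group commuting with the radical of a factor. -/
def centG (M : Subgroup (GL (Fin t → Fin k) F)) (d u v : Fin k → F) (i : Fin t) : Subgroup (GL (Fin t → Fin k) F) :=
  M ⊓ Subgroup.centralizer {z | ∃ g ∈ eset d u v, (∃ m ∈ Pp d u v, (g : Matrix (Fin k) (Fin k) F) = eich d u m) ∧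
    z = slotU i g}

lemma cent_comm {i : Fin t} {g : GL (Fin t → Fin k) F} (hg : g ∈ centG M d u v i) {m : Fin k → F} (hm : m ∈ Pp d u v) :
    (g : Mt t k F) * slot i (eich d u m) = slot i (eich d u m) * (g : Mt t k F) := by
  obtain ⟨e, he, -, hev⟩ := exists_eset hD hf hm
  have := Subgroup.mem_centralizer_iff.1 (Subgroup.mem_inf.1 hg).2 _ ⟨e, he, ⟨m, hm, hev⟩, rfl⟩
  have := congrArg (fun z : GL (Fin t → Fin k) F => (z : Mt t k F)) this
  simp only [Units.val_mul, slotU_val, hev] at this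
  exact this.symm

lemma mem_centG {i : Fin t} {g : GL (Fin t → Fin k) F} (hg : g ∈ M)
    (h : ∀ m ∈ Pp d u v, slot i (eich d u m) * (g : Mt t k F) = (g : Mt t k F) * slot i (eich d u m)) :
    g ∈ centG M d u v i := by
  refine Subgroup.mem_inf.2 ⟨hg, Subgroup.mem_centralizer_iff.2 ?_⟩
  rintro _ ⟨e, -, ⟨m, hm, hev⟩, rfl⟩
  exact Units.ext (by rw [Units.val_mul, Units.val_mul, slotU_val, hev]; exact h m hm)

lemma cent_val [NeZero k] {i : Fin t} {g : GL (Fin t → Fin k) F} (hg : g ∈ centG M d u v i) :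
    Val i (SC d u v) (g : Mt t k F) := by
  obtain ⟨n, hn, hnn⟩ := hf.exists_aniso hD
  intro x y
  refine commutant_mem hf hD.ne ⟨n, hn, fun e => hnn (by rw [e, fd_zero_left])⟩ fun m hm => ?_
  have h1 := congrArg (fun W => sl i W x y) (cent_comm hD hf hg hm)
  have h2 := congrArg (fun W => sl i W x y) (cent_comm hD hf hg ((Pp d u v).neg_mem hm))
  simp only [sl_mul_slot, sl_slot_mul] at h1 h2
  have e : eich d u m - eich d u (-m) = (2 : F) • wg d m u := by
    rw [eich, eich, fd_neg_left, fd_neg_right, neg_neg, ← neg_one_smul F m, wg_smul_left]; module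
  have h3 : (eich d u m - eich d u (-m)) * sl i (g : Mt t k F) x y =
      sl i (g : Mt t k F) x y * (eich d u m - eich d u (-m)) := by rw [sub_mul, mul_sub, h1, h2]
  rw [e, smul_mul_assoc, mul_smul_comm] at h3
  exact smul_right_injective _ hD.two h3

lemma cf_mul [NeZero k] {i : Fin t} {X Y : Mt t k F} (hX : Val i (SC d u v) X) (hY : Val i (SC d u v) Y) :
    cf d i u v (X * Y) = cf d i u v X * cf d i u v Y := sl_ext (i := i) fun x y => by
  rw [sl_cf, sl_mul i 0, sl_mul i 0, show ∀ A : Matrix (Fin k) (Fin k) F, fd d u (A *ᵥ v) = cpart d u v A from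
    fun _ => rfl, map_sum, Finset.sum_smul]
  refine Finset.sum_congr rfl fun z _ => ?_
  rw [sl_cf, sl_cf, sc_mul hD hf (hX x z) (hY z y), smul_mul_smul_comm, mul_one]
  rfl

lemma cf_of_com [NeZero k] {i : Fin t} {X : Mt t k F} (hX : Com i X) : cf d i u v X = X := sl_ext (i := i) fun x y => by
  obtain ⟨c, hc⟩ := com_iff_sl.1 hX x y
  rw [sl_cf, hc, Matrix.smul_mulVec, Matrix.one_mulVec, fd_smul_right, hf.uv, mul_one]

/-- The scalar parts of the centraliser. -/
noncomputable def alp [NeZero k] (i : Fin t) : centG M d u v i →* GL (Fin t → Fin k) F :=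
  MonoidHom.toHomUnits
    { toFun := fun g => cf d i u v ((g : GL (Fin t → Fin k) F) : Mt t k F)
      map_one' := by rw [OneMemClass.coe_one, Units.val_one]; exact cf_of_com hD hf (com_one i)
      map_mul' := fun g h => by
        rw [Subgroup.coe_mul, Units.val_mul]
        exact cf_mul hD hf (cent_val hD hf g.2) (cent_val hD hf h.2) }

lemma alp_val [NeZero k] {i : Fin t} (g : centG M d u v i) :
    ((alp hD hf i g : GL (Fin t → Fin k) F) : Mt t k F) = cf d i u v ((g : GL (Fin t → Fin k) F) : Mt t k F) := rfl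

lemma alp_iso [NeZero k] (hM : Base d M) {i : Fin t} (g : centG M d u v i) : alp hD hf i g ∈ isoG (dt d t) := by
  refine (mem_isoG (dt_ne hD.ne)).2 ?_
  have hv := cent_val hD hf g.2
  have hsa : Val i (SC d u v) (sa (dt d t) ((g : GL (Fin t → Fin k) F) : Mt t k F)) := by
    rw [← inv_eq_sa (dt_ne hD.ne) (hM.iso (Subgroup.mem_inf.1 g.2).1)]
    exact cent_val hD hf ((centG M d u v i).inv_mem g.2)
  have e : sa (dt d t) (cf d i u v ((g : GL (Fin t → Fin k) F) : Mt t k F)) =
      cf d i u v (sa (dt d t) ((g : GL (Fin t → Fin k) F) : Mt t k F)) := sl_ext (i := i) fun x y => by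
    rw [sl_sa hD.ne, sl_cf, sl_cf, sl_sa hD.ne, sa_smul, sa_one hD.ne, smul_smul]
    congr 1
    rw [Matrix.smul_mulVec, fd_smul_right]
    congr 1
    exact (sc_sa hD hf (hv y x)).symm
  rw [alp_val, e, ← cf_mul hD hf hsa hv, (mem_isoG (dt_ne hD.ne)).1 (hM.iso (Subgroup.mem_inf.1 g.2).1)]
  exact cf_of_com hD hf (com_one i)

/-- A member with trivial scalar part is an Eichler element of the factor. -/
lemma slot_of_alp_one [NeZero k] (hM : Bad d M) {i : Fin t} (g : centG M d u v i) (h : alp hD hf i g = 1) :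
    ∃ w ∈ Pp d u v, ((g : GL (Fin t → Fin k) F) : Mt t k F) = slot i (eich d u w) := by
  set X := ((g : GL (Fin t → Fin k) F) : Mt t k F) with hX
  have hv := cent_val hD hf g.2
  have h' : cf d i u v X = 1 := by rw [hX, ← alp_val hD hf, h]; rfl
  have hY : Val i (SR d u v) (X - 1) := fun x y => by
    have e : sl i (1 : Mt t k F) x y = cpart d u v (sl i X x y) • 1 := by
      rw [← h', sl_cf]; rfl
    rw [sl_sub, e]
    exact (sc_cases hD hf (hv x y)).1
  obtain ⟨w, hw, he⟩ := hM.rad_eq_slot hD hf hY ⟨g, (Subgroup.mem_inf.1 g.2).1, by rw [add_sub_cancel]⟩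
  exact ⟨w, hw, by rw [← he, add_sub_cancel]⟩

/-- A member of the group fixing one factor commutes with the radical. -/
lemma com_mem_centG [NeZero k] {i : Fin t} {g : GL (Fin t → Fin k) F} (hg : g ∈ M) (h : Com i (g : Mt t k F)) :
    g ∈ centG M d u v i := mem_centG hD hf hg fun m _ => h.slot_comm _

end CfsgLib.Geo.TensorPow.O
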