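/-
The scalar parts of the centraliser lie in the wreath group; images of factors inside a centraliser.
-/
import Cfsg.Agent.Geo.TensorPow.O.Cent

set_option autoImplicit false
set_option linter.unusedSectionVars false

namespace CfsgLib.Geo.TensorPow.O

open Matrix Cfsg.Geo CfsgLib.Aschbacher
open CfsgLib.Geo.TensorPow.U (inSlot_of_com emb embHom emb_mul emb_one emb_injective exists_emb exists_embHom emb_tens
  embHom_val embHom_mem_wreath mem_wreath_one)
open scoped MatrixGroups commutatorElement

variable {F : Type*} [Field F] [Fintype F] {s t k : ℕ} {d u v : Fin k → F}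

/-- The dichotomy for fewer factors. -/
def Rec (d : Fin k → F) (t : ℕ) : Prop :=
  ∀ s < t, 1 ≤ s → ∀ L : Subgroup (GL (Fin s → Fin k) F), Base d L →
    L ≤ tensorWreathStandard k s F ∨ TwoFull (dt d s) L

lemma pure_of_wreath {g : GL (Fin t → Fin k) F} (hg : g ∈ tensorWreathStandard k t F) (y : Fin t → Fin k → F) :
    ∃ y' : Fin t → Fin k → F, (g : Mt t k F) *ᵥ pv y = pv y' := by
  obtain ⟨a, σ, h⟩ := exists_tens_perm hg
  exact ⟨_, by rw [h, ← Matrix.mulVec_mulVec, permMat_mulVec_pv, tens_mulVec_pv]⟩

lemma eq_one_of_sq (hD : Dat d) (hf : Fr d u v) {c : F} (hc : c ≠ 0) {R : Matrix (Fin k) (Fin k) F}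
    (hR : R ∈ SR d u v) (h : (c • 1 + R) * (c • 1 + R) = 1) (hc1 : c * c = 1) : R = 0 := by
  have hRR : R * (R * R) = 0 := (SR_mul_SZ hf hD.ne hR (SR_mul hf hD.ne hR hR)).1
  simp only [add_mul, mul_add, smul_mul_assoc, mul_smul_comm, one_mul, mul_one, smul_add, smul_smul] at h
  rw [hc1, one_smul, add_assoc, add_eq_left] at h
  have h2 : (c + c) • (R * R) + R * (R * R) = 0 := by
    have := congrArg (R * ·) h
    simp only [mul_add, mul_smul_comm, mul_zero] at this
    rw [← this]; module
  rw [hRR, add_zero, smul_eq_zero, ← two_mul, mul_eq_zero, or_iff_left hc, or_iff_right hD.two] at h2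
  rw [h2, add_zero] at h
  have h3 : (c + c) • R = 0 := by rw [← h]; module
  exact (smul_eq_zero.1 h3).resolve_left (by rw [← two_mul]; exact mul_ne_zero hD.two hc)

variable (hD : Dat d) (hf : Fr d u v)
include hD hf

/-- The scalar parts of the centraliser lie in the wreath group. -/
theorem cent_wreath [NeZero k] {M : Subgroup (GL (Fin (s + 1) → Fin k) F)} (hM : Bad d M) (hrec : Rec d (s + 1))
    (hs : 1 ≤ s) (i : Fin (s + 1)) :
    (alp (M := M) hD hf i).range.comap (embHom i) ≤ tensorWreathStandard k s F := by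
  classical
  have hd := hD.ne
  have hk := hD.three
  set L := (alp (M := M) hD hf i).range.comap (embHom i) with hL
  have hcom : ∀ {h : GL (Fin s → Fin k) F}, h ∈ M.comap (embHom i) → h ∈ L := fun {h} hh => by
    have hc : Com i (embHom i h : Mt (s + 1) k F) := by rw [embHom_val]; exact com_emb i _
    refine ⟨⟨embHom i h, com_mem_centG hD hf hh hc⟩, Units.ext ?_⟩
    rw [alp_val, cf_of_com hD hf hc]
  have hcb := comap_base hd hM.toBase i
  have hLb : Base d L := by
    refine ⟨fun h hh => ?_, fun x hx => hcom (hcb.sq x hx), fun he ht r g hg => hcom (hcb.full he ht r g hg)⟩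
    obtain ⟨g, hg⟩ := hh
    exact (embHom_mem_iso hd i).1 (hg ▸ alp_iso hD hf hM.toBase g)
  rcases Nat.lt_or_ge s 2 with hs2 | hs2
  · obtain rfl : s = 1 := by omega
    exact fun g _ => mem_wreath_one (by omega) g
  refine (hrec s (Nat.lt_succ_self s) hs L hLb).resolve_right fun hfull => ?_
  -- a sign change at two pure tensors
  let a0 : Fin s := ⟨0, by omega⟩
  let a1 : Fin s := ⟨1, by omega⟩
  let p0 : Fin k := ⟨0, by omega⟩
  let p1 : Fin k := ⟨1, by omega⟩
  let p2 : Fin k := ⟨2, by omega⟩
  set x : Fin s → Fin k := fun _ => p0 with hx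
  set y : Fin s → Fin k := Function.update x a0 p1 with hy
  have hxy : x ≠ y := fun e => by
    have := congrFun e a0
    simp [hy, hx, p0, p1] at this
  have hw : dt d s x = dt d s y := Finset.prod_congr rfl fun l _ => by
    rcases eq_or_ne l a0 with rfl | hl
    · simp only [hy, hx, Function.update_self]; exact hD.eqd _ _ (by simp [p0]; omega) (by simp [p1]; omega)
    · simp [hy, hx, Function.update_of_ne hl]
  obtain ⟨g₀, hg₀, hg₀v⟩ := exists_sign (dt_ne hd) hxy hw
  set σA : (Fin s → Fin k) → F := fun z => if z = x ∨ z = y then -1 else 1 with hσA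
  set A := g₀ * g₀ with hA
  have h5 : 5 ≤ Fintype.card (Fin s → Fin k) := by
    rw [Fintype.card_fun, Fintype.card_fin, Fintype.card_fin]
    calc 5 ≤ 3 ^ 2 := by norm_num
      _ ≤ k ^ 2 := Nat.pow_le_pow_left hk 2
      _ ≤ k ^ s := Nat.pow_le_pow_right (by omega) hs2
  obtain ⟨g, hg⟩ := omD_le_of_full hD.two (dt_ne hd) h5 hfull (sq_mem_omD hD.two (dt_ne hd) hg₀)
  set G : GL (Fin (s + 1) → Fin k) F := (g : GL (Fin (s + 1) → Fin k) F) with hG
  have hAdiag : (emb i (A : Mt s k F)) = Matrix.diagonal fun z : Fin (s + 1) → Fin k => σA (i.removeNth z) := by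
    rw [hA, hg₀v]
    ext z z'
    simp only [emb, Matrix.of_apply, Matrix.diagonal_apply]
    by_cases hzi : z i = z' i
    · by_cases hrest : i.removeNth z = i.removeNth z'
      · have : z = z' := by rw [← Fin.insertNth_self_removeNth i z, hrest, hzi, Fin.insertNth_self_removeNth]
        subst this; simp [hσA]
      · rw [if_pos hzi, if_neg hrest, if_neg fun e => hrest (by rw [e])]
    · rw [if_neg hzi, if_neg fun e => hzi (by rw [e])]
  -- it commutes with the sign changes of the factors
  have hflip : ∀ (r : Fin s) (p q : Fin k), p ≠ q → d p = d q →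
      (G : Mt (s + 1) k F) * Matrix.diagonal (fun z => if z (i.succAbove r) = p ∨ z (i.succAbove r) = q then -1 else 1) =
        Matrix.diagonal (fun z => if z (i.succAbove r) = p ∨ z (i.succAbove r) = q then -1 else 1) * (G : Mt (s + 1) k F) := by
    intro r p q hpq hdpq
    obtain ⟨h₀, hh₀, hh₀v⟩ := exists_sign hd hpq hdpq
    set T := slotU (i.succAbove r) (h₀ * h₀) with hT
    have hTM : T ∈ M := hM.toBase.slot_sq hd _ (sq_mem_sqG hh₀)
    have hTv : (T : Mt (s + 1) k F) = Matrix.diagonal fun z => if z (i.succAbove r) = p ∨ z (i.succAbove r) = q then -1 else 1 := by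
      rw [hT, slotU_val, hh₀v, slot_diagonal]
    have hTc : Com i (T : Mt (s + 1) k F) := by rw [hT, slotU_val]; exact com_slot (Fin.succAbove_ne i r).symm _
    have hT2 : T * T = 1 := Units.ext (by
      rw [Units.val_mul, hTv, Matrix.diagonal_mul_diagonal]
      refine (Matrix.diagonal_eq_diagonal_iff.2 fun z => ?_).trans Matrix.diagonal_one
      split_ifs <;> simp)
    set T' : centG M d u v i := ⟨T, com_mem_centG hD hf hTM hTc⟩ with hT'
    have halp : alp hD hf i (T' * g * T' * g⁻¹) = 1 := by
      have e1 : alp hD hf i T' = T := Units.ext (by rw [alp_val, cf_of_com hD hf hTc])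
      rw [map_mul, map_mul, map_mul, map_inv, e1, hg]
      refine mul_inv_eq_one.2 (Units.ext ?_)
      rw [Units.val_mul, Units.val_mul, embHom_val, hTv, hAdiag, Matrix.diagonal_mul_diagonal,
        Matrix.diagonal_mul_diagonal]
      refine Matrix.diagonal_eq_diagonal_iff.2 fun z => ?_
      split_ifs <;> ring
    obtain ⟨w, hwP, hwv⟩ := slot_of_alp_one hD hf hM _ halp
    obtain ⟨R, hR⟩ : ∃ R : GL (Fin (s + 1) → Fin k) F, R = T * G * T * G⁻¹ := ⟨_, rfl⟩
    have hRv : (R : Mt (s + 1) k F) = slot i (eich d u w) := by rw [hR]; exact hwv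
    have hRT : R * T = T * R := Units.ext (by
      rw [Units.val_mul, Units.val_mul, hRv]; exact hTc.slot_comm _)
    have hRR : R * R = 1 := by
      have e1 : T * G * T = R * G := by rw [hR, inv_mul_cancel_right]
      have e2 : T * (R * G) * T = G := by
        rw [← e1, show T * (T * G * T) * T = T * T * G * (T * T) by group, hT2, one_mul, mul_one]
      rw [← mul_assoc, ← hRT, mul_assoc R, mul_assoc R, e1, ← mul_assoc] at e2
      exact mul_eq_right.1 e2
    have hw0 : w = 0 := by
      have e := congrArg (fun W : GL (Fin (s + 1) → Fin k) F => (W : Mt (s + 1) k F)) hRR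
      simp only [Units.val_mul, Units.val_one, hRv, slot_mul, eich_mul hD.two hf.uu hwP.1 hwP.1] at e
      have := eich_eq_one hD hf ((Pp d u v).add_mem hwP hwP) (slot_injective i (e.trans (slot_one i).symm))
      rw [← two_smul F w, smul_eq_zero] at this
      exact this.resolve_left hD.two
    have hR1 : R = 1 := Units.ext (by rw [hRv, hw0, eich_zero, slot_one]; rfl)
    have e1 : T * G * T = G := by
      have : R * G = T * G * T := by rw [hR, inv_mul_cancel_right]
      rw [← this, hR1, one_mul]
    have e2 : G * T = T * G := by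
      calc G * T = T * G * T * T := by rw [e1]
        _ = T * G := by rw [mul_assoc, hT2, mul_one]
    rw [← hTv, ← Units.val_mul, e2, Units.val_mul]
  -- so it is diagonal outside the factor
  have hdiag : ∀ z z', (G : Mt (s + 1) k F) z z' ≠ 0 → ∀ l, l ≠ i → z l = z' l := by
    intro z z' hne l hl
    obtain ⟨r, rfl⟩ := Fin.exists_succAbove_eq hl
    by_contra hzl
    obtain ⟨p, q, hpq, hdpq, hsep⟩ : ∃ p q, p ≠ q ∧ d p = d q ∧
        ¬ ((z (i.succAbove r) = p ∨ z (i.succAbove r) = q) ↔ (z' (i.succAbove r) = p ∨ z' (i.succAbove r) = q)) := by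
      revert hzl
      generalize z (i.succAbove r) = a
      generalize z' (i.succAbove r) = b
      intro hab
      by_cases h3 : k = 3
      · obtain ⟨q, hq⟩ := Finset.exists_mem_notMem_of_card_lt_card (s := ({a, b} : Finset (Fin k))) (t := Finset.univ)
          (Finset.card_le_two.trans_lt (by simp; omega))
        simp only [Finset.mem_insert, Finset.mem_singleton, not_or] at hq
        exact ⟨a, q, Ne.symm hq.2.1, hD.eq3 h3 _ _, by simp [Ne.symm hab, Ne.symm hq.2.2]⟩
      · obtain ⟨c, hc, hab'⟩ : ∃ c : Fin k, (c : ℕ) + 1 < k ∧ (c = a ∨ c = b) := by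
          by_cases ha : (a : ℕ) + 1 < k
          · exact ⟨a, ha, Or.inl rfl⟩
          · refine ⟨b, ?_, Or.inr rfl⟩
            have : (a : ℕ) ≠ b := fun e => hab (Fin.ext e)
            omega
        obtain ⟨q, hq⟩ := Finset.exists_mem_notMem_of_card_lt_card
          (s := ({a, b, ⟨k - 1, by omega⟩} : Finset (Fin k))) (t := Finset.univ)
          (Finset.card_le_three.trans_lt (by simp; omega))
        simp only [Finset.mem_insert, Finset.mem_singleton, not_or] at hq
        have hqk : (q : ℕ) + 1 < k := by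
          have : (q : ℕ) ≠ k - 1 := fun e => hq.2.2.2 (Fin.ext e)
          omega
        refine ⟨c, q, ?_, hD.eqd _ _ hc hqk, ?_⟩
        · rcases hab' with rfl | rfl
          · exact Ne.symm hq.2.1
          · exact Ne.symm hq.2.2.1
        · rcases hab' with rfl | rfl
          · simp [Ne.symm hab, Ne.symm hq.2.2.1]
          · simp [hab, Ne.symm hq.2.1]
    have e := congrFun (congrFun (hflip r p q hpq hdpq) z) z'
    rw [Matrix.mul_diagonal, Matrix.diagonal_mul] at e
    have e' := mul_right_cancel₀ hne (show (if z' (i.succAbove r) = p ∨ z' (i.succAbove r) = q then (-1 : F) else 1) *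
      (G : Mt (s + 1) k F) z z' = (if z (i.succAbove r) = p ∨ z (i.succAbove r) = q then (-1 : F) else 1) *
      (G : Mt (s + 1) k F) z z' by rw [← e]; ring)
    have h11 : (-1 : F) ≠ 1 := fun h => hD.two (by linear_combination -h)
    by_cases h1 : z (i.succAbove r) = p ∨ z (i.succAbove r) = q <;>
      by_cases h2 : z' (i.succAbove r) = p ∨ z' (i.succAbove r) = q
    · exact hsep (iff_of_true h1 h2)
    · rw [if_pos h1, if_neg h2] at e'; exact h11 e'.symm
    · rw [if_neg h1, if_pos h2] at e'; exact h11 e'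
    · exact hsep (iff_of_false h1 h2)
  -- removing the Eichler part
  have halp2 : alp hD hf i (g * g) = 1 := by
    rw [map_mul, hg, ← map_mul]
    refine Units.ext ?_
    rw [embHom_val, Units.val_one, Units.val_mul, hg₀v, Matrix.diagonal_mul_diagonal, ← emb_one i]
    congr 1
    refine (Matrix.diagonal_eq_diagonal_iff.2 fun z => ?_).trans Matrix.diagonal_one
    simp only [hσA]; split_ifs <;> simp
  obtain ⟨w, hwP, hwv⟩ := slot_of_alp_one hD hf hM _ halp2
  have hwP' : (-(2 : F)⁻¹) • w ∈ Pp d u v := (Pp d u v).smul_mem _ hwP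
  obtain ⟨E, -, hE, hEv⟩ := exists_eset hD hf hwP'
  set G' := G * slotU i E with hG'
  have hG'M : G' ∈ M := M.mul_mem (Subgroup.mem_inf.1 g.2).1 (hM.toBase.slot_sq hd i hE)
  have hsE : (slotU i E : Mt (s + 1) k F) = slot i (eich d u ((-(2 : F)⁻¹) • w)) := by rw [slotU_val, hEv]
  have hG'sq : (G' : Mt (s + 1) k F) * (G' : Mt (s + 1) k F) = 1 := by
    rw [hG', Units.val_mul, hsE, mul_assoc, ← mul_assoc (slot i _), ← cent_comm hD hf g.2 hwP', mul_assoc,
      ← mul_assoc, slot_mul, eich_mul hD.two hf.uu hwP'.1 hwP'.1, ← Units.val_mul]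
    erw [hwv]
    rw [slot_mul, eich_mul hD.two hf.uu hwP.1 ((Pp d u v).add_mem hwP' hwP').1]
    rw [show w + ((-(2 : F)⁻¹) • w + (-(2 : F)⁻¹) • w) = 0 by
      rw [← add_smul, show -(2 : F)⁻¹ + -2⁻¹ = -1 by have := hD.two; field_simp; ring, neg_one_smul, add_neg_cancel],
      eich_zero, slot_one]
  have hG'c : G' ∈ centG M d u v i := mem_centG hD hf hG'M fun m hm => by
    rw [hG', Units.val_mul, hsE, ← mul_assoc, ← cent_comm hD hf g.2 hm, mul_assoc, slot_mul, mul_assoc, slot_mul,
      eich_mul hD.two hf.uu hm.1 hwP'.1, eich_mul hD.two hf.uu hwP'.1 hm.1, add_comm m]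
  have hG'cf : cf d i u v (G' : Mt (s + 1) k F) = emb i (A : Mt s k F) := by
    rw [hG', Units.val_mul, hsE, cf_mul hD hf (cent_val hD hf g.2)]
    · rw [show cf d i u v (G : Mt (s + 1) k F) = emb i (A : Mt s k F) by rw [← embHom_val, ← hg]; rfl]
      have : cf d i u v (slot i (eich d u ((-(2 : F)⁻¹) • w)) : Mt (s + 1) k F) = 1 := sl_ext (i := i) fun a b => by
        rw [sl_cf, sl_slot, ← slot_one i, sl_slot]
        split_ifs
        · rw [eich_mulVec]
          simp [fd_add_right, fd_sub_right, fd_smul_right, fd_neg_right, hf.uv, hf.uu, hwP.1]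
        · simp [fd_zero_right]
      rw [this, mul_one]
    · refine val_slot ?_
      rw [eich_frame hf, ← one_smul F (1 : Matrix (Fin k) (Fin k) F)]
      exact Submodule.sub_mem _ (Submodule.add_mem _ (Submodule.mem_sup_left (Submodule.mem_sup_left
        (Submodule.smul_mem _ _ (Submodule.mem_span_singleton_self _))))
        (Submodule.mem_sup_left (Submodule.mem_sup_right (mem_SN.2 ⟨_, hwP', rfl⟩))))
        (Submodule.mem_sup_right (Submodule.smul_mem _ _ (Submodule.mem_span_singleton_self _)))
  have hG'diag : ∀ z z', (G' : Mt (s + 1) k F) z z' ≠ 0 → ∀ l, l ≠ i → z l = z' l := by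
    intro z z' hne l hl
    rw [hG', Units.val_mul, hsE, Matrix.mul_apply] at hne
    obtain ⟨a, -, ha⟩ := Finset.exists_ne_zero_of_sum_ne_zero hne
    obtain ⟨h1, h2⟩ := mul_ne_zero_iff.1 ha
    rw [slot_apply] at h2
    split_ifs at h2 with h
    · exact (hdiag z a h1 l hl).trans (h l hl)
    · exact absurd rfl h2
  have hAM : embHom i A = G' := by
    refine Units.ext (sl_ext (i := i) fun z z' => ?_)
    have hv := cent_val hD hf hG'c z z'
    have hcA : sl i (embHom i A : Mt (s + 1) k F) z z' = cpart d u v (sl i (G' : Mt (s + 1) k F) z z') • 1 := by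
      rw [embHom_val, ← hG'cf, sl_cf]; rfl
    rw [hcA]
    set X := sl i (G' : Mt (s + 1) k F) z z' with hX
    by_cases hzz : ∀ l, l ≠ i → z l = z' l
    · have hc2 : cpart d u v X = σA (i.removeNth z) := by
        have e := congrFun (congrFun (hcA.symm.trans (by rw [embHom_val, hAdiag])) 0) 0
        rw [sl_apply, Matrix.diagonal_apply, Matrix.smul_apply, Matrix.one_apply_eq, smul_eq_mul, mul_one,
          if_pos (funext fun l => by
            rcases eq_or_ne l i with rfl | hl
            · simp
            · simp [Function.update_of_ne hl, hzz l hl])] at e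
        rw [e]
        congr 1
        funext l
        simp [Fin.removeNth, Function.update_of_ne (Fin.succAbove_ne i l)]
      have hc0 : cpart d u v X ≠ 0 := by rw [hc2, hσA]; simp only; split_ifs <;> simp
      have hcc : cpart d u v X * cpart d u v X = 1 := by rw [hc2, hσA]; simp only; split_ifs <;> simp
      have hXX : X * X = 1 := by
        have e := congrArg (fun W => sl i W z z') hG'sq
        simp only [sl_mul i 0, ← slot_one i, sl_slot, if_pos hzz] at e
        rw [Finset.sum_eq_single (Function.update z i 0)] at e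
        · rwa [sl_update_left, show sl i (G' : Mt (s + 1) k F) z (Function.update z i 0) = X from ?_,
            show sl i (G' : Mt (s + 1) k F) z z' = X from rfl] at e
          rw [sl_update_right, hX]
          ext a b
          simp only [sl_apply]
          refine congrArg _ (funext fun l => ?_)
          rcases eq_or_ne l i with rfl | hl
          · simp
          · simp [Function.update_of_ne hl, hzz l hl]
        · intro a ha hne
          rw [Finset.mem_filter] at ha
          refine mul_eq_zero_of_left ?_ _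
          refine Matrix.ext fun p r => ?_
          rw [sl_apply, Matrix.zero_apply]
          by_contra h0
          refine hne (funext fun l => ?_)
          rcases eq_or_ne l i with rfl | hl
          · simp [ha.2]
          · have := hG'diag _ _ h0 l hl
            simp only [Function.update_of_ne hl] at this
            rw [Function.update_of_ne hl, this]
        · simp
      obtain ⟨hR, -⟩ := sc_cases hD hf hv
      have := eq_one_of_sq hD hf hc0 hR (by rw [add_sub_cancel]; exact hXX) hcc
      rw [sub_eq_zero] at this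
      exact this.symm
    · have hX0 : X = 0 := Matrix.ext fun p r => by
        rw [hX, sl_apply, Matrix.zero_apply]
        by_contra h0
        refine hzz fun l hl => ?_
        have := hG'diag _ _ h0 l hl
        simpa [Function.update_of_ne hl] using this
      rw [hX0, map_zero, zero_smul]
  -- but the sign change is not in the wreath group
  have hAc : A ∈ M.comap (embHom i) := by rw [Subgroup.mem_comap, hAM]; exact hG'M
  have hcbad := comap_bad hd hD hM i
  have hAw := ((hrec s (Nat.lt_succ_self s) hs _ hcbad.toBase).resolve_right (hcbad.nfull hs2)) hAc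
  set e : Fin s → Fin k → F := fun l => if l = a0 ∨ l = a1 then Pi.single p0 1 + Pi.single p2 1 else Pi.single p0 1
    with he
  obtain ⟨y', hy'⟩ := pure_of_wreath hAw (fun l => e l)
  set Z : Fin k → Fin k → (Fin s → Fin k) := fun b c => Function.update (Function.update x a0 b) a1 c with hZ
  have ha01 : a0 ≠ a1 := by simp [a0, a1]
  have hp : ∀ b c : Fin k, pv y' (Z b c) = y' a0 b * y' a1 c * ∏ l ∈ (Finset.univ.erase a0).erase a1, y' l p0 := by
    intro b c
    rw [pv, ← Finset.mul_prod_erase _ _ (Finset.mem_univ a0),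
      ← Finset.mul_prod_erase _ _ (Finset.mem_erase.2 ⟨ha01.symm, Finset.mem_univ a1⟩), ← mul_assoc]
    simp only [hZ, Function.update_self, Function.update_of_ne ha01]
    congr 1
    refine Finset.prod_congr rfl fun l hl => ?_
    simp only [Finset.mem_erase] at hl
    simp [hx, Function.update_of_ne hl.1, Function.update_of_ne hl.2.1]
  have hv : ∀ b c : Fin k, (b = p0 ∨ b = p2) → (c = p0 ∨ c = p2) → pv y' (Z b c) = σA (Z b c) := by
    intro b c hb hc
    rw [← hy', hA, hg₀v, Matrix.mulVec_diagonal]
    have : pv (fun l => e l) (Z b c) = 1 := by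
      refine Finset.prod_eq_one fun l _ => ?_
      simp only [he, hZ]
      rcases eq_or_ne l a1 with rfl | h1
      · rcases hc with rfl | rfl <;> simp [p0, p2]
      rcases eq_or_ne l a0 with rfl | h0
      · rcases hb with rfl | rfl <;> simp [Function.update_of_ne h1, p0, p2]
      · simp [hx, Function.update_of_ne h1, Function.update_of_ne h0, h0, h1]
    rw [this, mul_one, hσA]
  have hp02 : p0 ≠ p2 := by simp [p0, p2]
  have hp12 : p1 ≠ p2 := by simp [p1, p2]
  have v00 : σA (Z p0 p0) = -1 := by
    have : Z p0 p0 = x := funext fun l => by simp [hZ, hx, Function.update_apply]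
    simp [hσA, this]
  have v1 : ∀ b c, (b = p2 ∨ c = p2) → σA (Z b c) = 1 := by
    intro b c h
    rw [hσA]
    refine if_neg fun h' => ?_
    rcases h with rfl | rfl
    · rcases h' with h' | h' <;>
        · have := congrFun h' a0
          simp [hZ, hy, hx, Function.update_of_ne ha01, hp02.symm, hp12.symm] at this
    · rcases h' with h' | h' <;>
        · have := congrFun h' a1
          simp [hZ, hy, hx, Function.update_of_ne ha01.symm, hp02.symm] at this
  have h00 := hv p0 p0 (Or.inl rfl) (Or.inl rfl)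
  have h02 := hv p0 p2 (Or.inl rfl) (Or.inr rfl)
  have h20 := hv p2 p0 (Or.inr rfl) (Or.inl rfl)
  have h22 := hv p2 p2 (Or.inr rfl) (Or.inr rfl)
  rw [hp, v00] at h00
  rw [hp, v1 _ _ (Or.inr rfl)] at h02
  rw [hp, v1 _ _ (Or.inl rfl)] at h20 h22
  set P := ∏ l ∈ (Finset.univ.erase a0).erase a1, y' l p0
  exact hD.two (by linear_combination (y' a0 p2 * y' a1 p2 * P) * h00 + (-1 : F) * h22
    - (y' a0 p2 * y' a1 p0 * P) * h02 - h20)

/-- A member of the centraliser squares into an element fixing the factor, up to an Eichler element. -/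
lemma exists_com_of_sq [NeZero k] {M : Subgroup (GL (Fin (s + 1) → Fin k) F)} (hM : Bad d M)
    (hrec : Rec d (s + 1)) (hs : 1 ≤ s) {i : Fin (s + 1)} {g : GL (Fin (s + 1) → Fin k) F}
    (hg : g ∈ centG M d u v i) :
    ∃ w ∈ Pp d u v, Com i (((g * g : GL (Fin (s + 1) → Fin k) F) : Mt (s + 1) k F) * slot i (eich d u w)) := by
  have hd := hD.ne
  have hc : Com i ((alp hD hf i ⟨g, hg⟩ : GL (Fin (s + 1) → Fin k) F) : Mt (s + 1) k F) := by
    rw [alp_val]; exact com_cf u v _
  obtain ⟨h, hh⟩ := exists_embHom hc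
  have hw := cent_wreath hD hf hM hrec hs i (show h ∈ _ from ⟨⟨g, hg⟩, hh.symm⟩)
  have hi : h ∈ isoG (dt d s) := (embHom_mem_iso hd i).1 (by rw [hh]; exact alp_iso hD hf hM.toBase _)
  have hE : embHom i h * embHom i h ∈ M := hM.sq _ ⟨embHom_mem_wreath i hw, (embHom_mem_iso hd i).2 hi⟩
  have hEc : Com i ((embHom i h * embHom i h : GL (Fin (s + 1) → Fin k) F) : Mt (s + 1) k F) := by
    rw [← map_mul, embHom_val]; exact com_emb i _
  set E : centG M d u v i := ⟨_, com_mem_centG hD hf hE hEc⟩
  set G : centG M d u v i := ⟨g, hg⟩ * ⟨g, hg⟩ * E⁻¹ with hG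
  have h1 : alp hD hf i G = 1 := by
    rw [hG, map_mul, map_mul, map_inv, ← hh, mul_inv_eq_one]
    exact Units.ext (by rw [alp_val, cf_of_com hD hf hEc])
  obtain ⟨w, hwP, hwv⟩ := slot_of_alp_one hD hf hM G h1
  refine ⟨-w, (Pp d u v).neg_mem hwP, ?_⟩
  have e : ((g * g : GL (Fin (s + 1) → Fin k) F) : Mt (s + 1) k F) =
      slot i (eich d u w) * ((embHom i h * embHom i h : GL (Fin (s + 1) → Fin k) F) : Mt (s + 1) k F) := by
    rw [← hwv, hG, ← Units.val_mul]
    congr 1
    simp [E, mul_assoc]
  rw [e, mul_assoc, ← hEc.slot_comm, ← mul_assoc, slot_mul, eich_neg hD.two hf.uu hwP.1, slot_one, one_mul]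
  exact hEc

/-- A factor sent into the centraliser of the radical of another is sent into its commutant. -/
theorem com_of_cent [NeZero k] {M : Subgroup (GL (Fin (s + 1) → Fin k) F)} (hM : Bad d M) (hrec : Rec d (s + 1))
    (hs : 1 ≤ s) {i l : Fin (s + 1)} {h : GL (Fin (s + 1) → Fin k) F} (hh : h ∈ M)
    (H : ∀ e ∈ eset d u v, ∀ m ∈ Pp d u v,
      slot i (eich d u m) * cj h (slot l (e : Matrix (Fin k) (Fin k) F)) =
        cj h (slot l (e : Matrix (Fin k) (Fin k) F)) * slot i (eich d u m))
    (X : Matrix (Fin k) (Fin k) F) : Com i (cj h (slot l X)) := by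
  set φ : GL (Fin k) F →* GL (Fin (s + 1) → Fin k) F := (MulAut.conj h).toMonoidHom.comp (slotU l) with hφ
  have hφv : ∀ e, ((φ e : GL (Fin (s + 1) → Fin k) F) : Mt (s + 1) k F) = cj h (slot l (e : Matrix (Fin k) (Fin k) F)) :=
    fun e => by simp [hφ, cj, slotU_val]
  have hcent : ∀ e ∈ eset d u v, φ e ∈ centG M d u v i := fun e he => by
    refine mem_centG hD hf (M.mul_mem (M.mul_mem hh (hM.toBase.slot_sq hD.ne l (eset_sub_sqG hD hf he)))
      (M.inv_mem hh)) fun m hm => ?_
    show _ * ((φ e : GL (Fin (s + 1) → Fin k) F) : Mt (s + 1) k F) = _ * _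
    rw [hφv]
    exact H e he m hm
  have hS : ∀ w ∈ Pp d u v, ∀ g ∈ centG M d u v i,
      (g : Mt (s + 1) k F) * slot i (eich d u w) = slot i (eich d u w) * (g : Mt (s + 1) k F) :=
    fun w hw g hg => cent_comm hD hf hg hw
  let C2 : Subgroup (GL (Fin (s + 1) → Fin k) F) :=
    { carrier := {g | g ∈ centG M d u v i ∧ ∃ w ∈ Pp d u v, Com i ((g : Mt (s + 1) k F) * slot i (eich d u w))}
      mul_mem' := by
        rintro g g' ⟨hg, w, hw, hc⟩ ⟨hg', w', hw', hc'⟩
        refine ⟨mul_mem hg hg', w + w', (Pp d u v).add_mem hw hw', ?_⟩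
        have := hc.mul hc'
        rwa [mul_assoc (g : Mt (s + 1) k F), ← mul_assoc (slot i (eich d u w)), ← hS w hw g' hg', mul_assoc,
          slot_mul, eich_mul hD.two hf.uu hw.1 hw'.1, ← mul_assoc, ← Units.val_mul] at this
      one_mem' := ⟨one_mem _, 0, (Pp d u v).zero_mem, by rw [eich_zero, slot_one, mul_one]; exact com_one i⟩
      inv_mem' := by
        rintro g ⟨hg, w, hw, hc⟩
        obtain ⟨e, -, -, hev⟩ := exists_eset hD hf hw
        refine ⟨inv_mem hg, -w, (Pp d u v).neg_mem hw, ?_⟩
        have hc1 : Com i ((g * slotU i e : GL (Fin (s + 1) → Fin k) F) : Mt (s + 1) k F) := by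
          rw [Units.val_mul, slotU_val, hev]; exact hc
        have hc2 := hc1.inv
        rw [hS (-w) ((Pp d u v).neg_mem hw) g⁻¹ (inv_mem hg)]
        have he' : ((e⁻¹ : GL (Fin k) F) : Matrix (Fin k) (Fin k) F) = eich d u (-w) :=
          Units.inv_eq_of_mul_eq_one_right (by rw [hev, eich_neg hD.two hf.uu hw.1])
        rwa [_root_.mul_inv_rev, Units.val_mul, slotU_inv_val, he'] at hc2 }
  have hgen : (Subgroup.closure (eset d u v)).map φ ≤ C2 := by
    rw [MonoidHom.map_closure, Subgroup.closure_le]
    rintro _ ⟨e, ⟨m, hm, he⟩, rfl⟩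
    have hmm : (2 : F)⁻¹ • m ∈ Pp d u v := (Pp d u v).smul_mem _ hm
    have h2 : (2 : F)⁻¹ • m + (2 : F)⁻¹ • m = m := by
      rw [← add_smul, show (2 : F)⁻¹ + 2⁻¹ = 1 by have := hD.two; field_simp; norm_num, one_smul]
    obtain ⟨f, hf', hff⟩ : ∃ f ∈ eset d u v, f * f = e := by
      rcases he with he | he
      · obtain ⟨f, hf', -, hfv⟩ := exists_eset hD hf hmm
        exact ⟨f, hf', Units.ext (by rw [Units.val_mul, hfv, eich_mul hD.two hf.uu hmm.1 hmm.1, h2, he])⟩
      · have hm2 : (2 : F)⁻¹ • m ∈ Pp d v u := by rw [Pp_swap]; exact hmm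
        obtain ⟨f, hf', -, hfv⟩ := exists_eset hD hf.swap hm2
        refine ⟨f, ?_, Units.ext (by rw [Units.val_mul, hfv, eich_mul hD.two hf.vv hm2.1 hm2.1, h2, he])⟩
        rwa [eset_swap] at hf'
    refine ⟨hcent e ⟨m, hm, he⟩, ?_⟩
    rw [← hff, map_mul]
    exact exists_com_of_sq hD hf hM hrec hs (hcent f hf')
  have hder : ∀ e ∈ eset d u v, Com i ((φ e : GL (Fin (s + 1) → Fin k) F) : Mt (s + 1) k F) := by
    let CG : Subgroup (GL (Fin (s + 1) → Fin k) F) :=
      { carrier := {g | Com i (g : Mt (s + 1) k F)}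
        mul_mem' := fun {g g'} hg hg' => by
          show Com i ((g * g' : GL (Fin (s + 1) → Fin k) F) : Mt (s + 1) k F)
          rw [Units.val_mul]; exact Com.mul hg hg'
        one_mem' := by show Com i (1 : Mt (s + 1) k F); exact com_one i
        inv_mem' := fun {g} hg => Com.inv hg }
    have hC2 : ⁅C2, C2⁆ ≤ CG := by
      refine Subgroup.commutator_le.2 ?_
      rintro a ⟨ha, w, hw, hc⟩ b ⟨hb, w', hw', hc'⟩
      obtain ⟨e, -, -, hev⟩ := exists_eset hD hf hw
      obtain ⟨e', -, -, hev'⟩ := exists_eset hD hf hw'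
      have hcom : ∀ {g : GL (Fin (s + 1) → Fin k) F} {w : Fin k → F} {e : GL (Fin k) F}, w ∈ Pp d u v →
          (e : Matrix (Fin k) (Fin k) F) = eich d u w → g ∈ centG M d u v i → Commute (slotU i e) g :=
        fun {g w e} hw hev hg => Units.ext (by
          rw [Units.val_mul, Units.val_mul, slotU_val, hev]; exact (hS w hw g hg).symm)
      have h1 : a * slotU i e ∈ CG := by
        show Com i _; rw [Units.val_mul, slotU_val, hev]; exact hc
      have h2 : b * slotU i e' ∈ CG := by
        show Com i _; rw [Units.val_mul, slotU_val, hev']; exact hc'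
      have key : ⁅a * slotU i e, b * slotU i e'⁆ = ⁅a, b⁆ := by
        have c1 := hcom hw hev hb
        have c2 := hcom hw' hev' ha
        have c3 : Commute (slotU i e) (slotU i e') := by
          rw [Commute, SemiconjBy, ← map_mul, ← map_mul]
          congr 1
          exact Units.ext (by
            rw [Units.val_mul, Units.val_mul, hev, hev', eich_mul hD.two hf.uu hw.1 hw'.1,
              eich_mul hD.two hf.uu hw'.1 hw.1, add_comm])
        generalize slotU i e = x at c1 c3 ⊢
        generalize slotU i e' = y at c2 c3 ⊢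
        calc ⁅a * x, b * y⁆ = a * (x * (b * y) * x⁻¹) * a⁻¹ * (b * y)⁻¹ := by rw [commutatorElement_def]; group
          _ = a * b * (y * a⁻¹ * y⁻¹) * b⁻¹ := by
            rw [((c1.mul_right c3).eq), mul_inv_cancel_right]; group
          _ = ⁅a, b⁆ := by rw [(c2.inv_right).eq, mul_inv_cancel_right, commutatorElement_def]
      rw [← key, commutatorElement_def]
      exact mul_mem (mul_mem (mul_mem h1 h2) (inv_mem h1)) (inv_mem h2)
    intro e he
    refine hC2 (Subgroup.commutator_mono hgen hgen ?_)
    rw [← Subgroup.map_commutator]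
    exact Subgroup.mem_map_of_mem φ (eset_sub_derived hD hf he)
  let A : Submodule F (Matrix (Fin k) (Fin k) F) :=
    { carrier := {X | Com i (cj h (slot l X))}
      add_mem' := fun {a b} ha hb => by
        show Com i _; rw [slot_add, cj_add]; exact Com.add ha hb
      zero_mem' := by show Com i _; rw [slot_zero, cj_zero]; exact com_zero i
      smul_mem' := fun c {a} ha => by
        show Com i _; rw [slot_smul, cj_smul]; exact Com.smul ha c }
  refine eset_generates hD hf A ?_ (fun X hX Y hY => ?_) (fun e he => ?_) X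
  · show Com i _; rw [slot_one, cj_one]; exact com_one i
  · show Com i _; rw [← slot_mul, cj_mul]; exact Com.mul hX hY
  · show Com i _; rw [← hφv]; exact hder e he

end CfsgLib.Geo.TensorPow.O
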