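/-
A member preserving the centre of one factor preserves the factor.
-/
import Cfsg.Agent.Geo.TensorPow.O.CentMain

set_option autoImplicit false
set_option linter.unusedSectionVars false

namespace CfsgLib.Geo.TensorPow.O

open Matrix Cfsg.Geo CfsgLib.Aschbacher
open CfsgLib.Geo.TensorPow.U (inSlot_of_com)
open scoped MatrixGroups

variable {F : Type*} [Field F] [Fintype F] {s t k : ℕ} {d u v : Fin k → F}

/-- The matrices killing `u` on both sides. -/
def SS (d u : Fin k → F) : Submodule F (Matrix (Fin k) (Fin k) F) where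
  carrier := {X | X *ᵥ u = 0 ∧ sa d X *ᵥ u = 0}
  add_mem' {X Y} hX hY := ⟨by rw [Matrix.add_mulVec, hX.1, hY.1, add_zero],
    by rw [sa_add, Matrix.add_mulVec, hX.2, hY.2, add_zero]⟩
  zero_mem' := ⟨Matrix.zero_mulVec _, by rw [sa_zero, Matrix.zero_mulVec]⟩
  smul_mem' c X hX := ⟨by rw [Matrix.smul_mulVec, hX.1, smul_zero],
    by rw [sa_smul, Matrix.smul_mulVec, hX.2, smul_zero]⟩

lemma SR_le_SS : SR d u v ≤ SS d u := fun _ h => ⟨h.1, h.2.1⟩

lemma sa_cj {M : Subgroup (GL (Fin t → Fin k) F)} (hd : ∀ p, d p ≠ 0) (hM : M ≤ isoG (dt d t))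
    {g : GL (Fin t → Fin k) F} (hg : g ∈ M) (X : Mt t k F) :
    sa (dt d t) (cj g X) = cj g (sa (dt d t) X) := by
  have e := inv_eq_sa (dt_ne hd) (hM hg)
  rw [cj, cj, sa_mul (dt_ne hd), sa_mul (dt_ne hd), e, sa_sa (dt_ne hd), mul_assoc]

variable (hD : Dat d) (hf : Fr d u v)
include hD hf

lemma SS_perp {S : Matrix (Fin k) (Fin k) F} (hS : S ∈ SS d u) (b : Fin k → F) :
    S *ᵥ b = fd d v (S *ᵥ b) • u + prj d u v (S *ᵥ b) := by
  conv_lhs => rw [prj_decomp (d := d) (u := u) (v := v) (S *ᵥ b)]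
  have : fd d u (S *ᵥ b) = 0 := by rw [fd_symm, fd_mulVec hD.ne, hS.2, fd_zero_right]
  rw [this, zero_smul, add_zero]

lemma SS_mul {X Y : Matrix (Fin k) (Fin k) F} (hX : X ∈ SS d u) (hY : Y ∈ SS d u) : X * Y ∈ SS d u :=
  ⟨by rw [← Matrix.mulVec_mulVec, hY.1, Matrix.mulVec_zero],
    by rw [sa_mul hD.ne, ← Matrix.mulVec_mulVec, hX.2, Matrix.mulVec_zero]⟩

lemma SR_ideal {R S : Matrix (Fin k) (Fin k) F} (hR : R ∈ SR d u v) (hS : S ∈ SS d u) :
    R * S ∈ SR d u v ∧ S * R ∈ SR d u v := by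
  refine ⟨⟨(SS_mul hD hf (SR_le_SS hR) hS).1, (SS_mul hD hf (SR_le_SS hR) hS).2, fun a ha b hb => ?_⟩,
    ⟨(SS_mul hD hf hS (SR_le_SS hR)).1, (SS_mul hD hf hS (SR_le_SS hR)).2, fun a ha b hb => ?_⟩⟩
  · rw [← Matrix.mulVec_mulVec, SS_perp hD hf hS, Matrix.mulVec_add, Matrix.mulVec_smul, hR.1, smul_zero, zero_add]
    exact hR.2.2 a ha _ (prj_mem hf _)
  · have hS' : sa d S ∈ SS d u := ⟨hS.2, by rw [sa_sa hD.ne]; exact hS.1⟩
    rw [← Matrix.mulVec_mulVec, fd_symm, fd_mulVec hD.ne, SS_perp hD hf hS', fd_add_right, fd_smul_right,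
      fd_symm d (prj d u v _), hR.2.2 _ (prj_mem hf _) b hb, fd_mulVec hD.ne, hR.2.1, fd_zero_right]
    ring

variable [NeZero k]

lemma val_SR_mul {j : Fin t} {A B : Mt t k F} (hA : Val j (SR d u v) A) (hB : Val j (SS d u) B) :
    Val j (SR d u v) (A * B) ∧ Val j (SR d u v) (B * A) :=
  ⟨hA.mul hB fun _ h _ h' => (SR_ideal hD hf h h').1, hB.mul hA fun _ h _ h' => (SR_ideal hD hf h' h).2⟩

variable {M : Subgroup (GL (Fin (s + 1) → Fin k) F)}

/-- The images of the Eichler elements lie in one factor. -/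
lemma inSlot_image (hM : Bad d M) {g : GL (Fin (s + 1) → Fin k) F} (hg : g ∈ M) {i j : Fin (s + 1)} {c : F}
    (hfix : cj g (slot i (vd d u u)) = c • slot j (vd d u u)) {b : Fin k → F} (hb : b ∈ Pp d u v) :
    InSlot j (cj g (slot i (eich d u b))) := by
  have hd := hD.ne
  have h2 := hD.two
  set Z := vd d u u with hZ
  set P := cj g (slot i (wg d b u)) with hP
  have hZu : vd d u u ∈ SR d u v := SZ_le_SR hf hd (Submodule.mem_span_singleton_self _)
  have hc : c ≠ 0 := by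
    intro h
    rw [h, zero_smul, ← cj_zero g] at hfix
    exact vd_ne_zero hd hf.u_ne hf.u_ne (slot_injective i ((cj_injective g hfix).trans (slot_zero i).symm))
  have hPZ : P * slot j Z = 0 ∧ slot j Z * P = 0 := by
    have e1 : cj g (slot i (wg d b u)) * cj g (slot i Z) = 0 := by
      rw [← cj_mul, slot_mul, nm_mul_z hf hb, slot_zero, cj_zero]
    have e2 : cj g (slot i Z) * cj g (slot i (wg d b u)) = 0 := by
      rw [← cj_mul, slot_mul, z_mul_nm hf hb, slot_zero, cj_zero]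
    rw [hfix, mul_smul_comm, smul_eq_zero, or_iff_right hc] at e1
    rw [hfix, smul_mul_assoc, smul_eq_zero, or_iff_right hc] at e2
    exact ⟨e1, e2⟩
  have hPv : Val j (SS d u) P := fun x y => by
    have e1 := congrArg (fun W => sl j W x y) hPZ.1
    have e2 := congrArg (fun W => sl j W x y) hPZ.2
    simp only [sl_mul_slot, sl_slot_mul, sl_zero] at e1 e2
    refine ⟨?_, ?_⟩
    · have := congrArg (· *ᵥ v) e1
      simpa [hZ, ← Matrix.mulVec_mulVec, vd_mulVec, hf.uv] using this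
    · have := congrArg (fun W => sa d W *ᵥ v) e2
      simpa [hZ, sa_mul hd, sa_vd hd, sa_zero, ← Matrix.mulVec_mulVec, vd_mulVec, hf.uv] using this
  have hPs : sa (dt d (s + 1)) P = -P := by
    rw [hP, sa_cj hd hM.iso hg, sa_slot hd, sa_wg hd, ← neg_one_smul F (wg d b u), slot_smul, cj_smul, neg_one_smul]
  set A := P - (fd d b b / 2) • (c • slot j Z) with hA
  have hAe : cj g (slot i (eich d u b)) = 1 + A := by
    rw [eich_frame hf, slot_sub, slot_add, slot_one, slot_smul, sub_eq_add_neg, cj_add, cj_add, cj_one,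
      ← neg_one_smul F ((fd d b b / 2) • slot i (vd d u u) : Mt (s + 1) k F), cj_smul, cj_smul, hfix, hA,
      neg_one_smul, ← sub_eq_add_neg, add_sub_assoc]
  obtain ⟨e₀, he₀, he₀v⟩ := eich_mem_sqG h2 hd hf.uu hb.1
  set G := g * slotU i e₀ * g⁻¹ with hG
  have hGM : G ∈ M := M.mul_mem (M.mul_mem hg (hM.toBase.slot_sq hd i he₀)) (M.inv_mem hg)
  have hGv : (G : Mt (s + 1) k F) = 1 + A := by
    rw [← hAe, hG, cj, Units.val_mul, Units.val_mul, slotU_val, he₀v]
  have hAv : Val j (SS d u) A := hPv.sub (((val_slot (SR_le_SS hZu)).smul _).smul _)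
  set X₀ := sl j P (fun _ => 0) (fun _ => 0) with hX₀
  -- the block of the image is a multiple of the block of one value
  have hblock : ∀ x y, ∀ b' ∈ Pp d u v,
      prj d u v (sl j P x y *ᵥ b') = prj d u v (sl j (slot j X₀ : Mt (s + 1) k F) x y *ᵥ b') := by
    suffices H : ∀ b' ∈ Pp d u v, ∃ w : Fin k → F, ∀ x y,
        prj d u v (sl j P x y *ᵥ b') = if ∀ l, l ≠ j → x l = y l then w else 0 by
      intro x y b' hb'
      obtain ⟨w, hw⟩ := H b' hb'
      rw [hw x y, sl_slot]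
      split_ifs with h
      · rw [hX₀, hw, if_pos fun _ _ => rfl]
      · rw [Matrix.zero_mulVec]; simp [prj, fd_zero_right]
    intro b' hb'
    obtain ⟨e₁, he₁, he₁v⟩ := eich_mem_sqG h2 hd hf.uu hb'.1
    set B := slot j (wg d b' u - (fd d b' b' / 2) • Z) with hB
    have hB' : Val j (SR d u v) (B : Mt (s + 1) k F) := slot_eich_val hD hf b' hb'
    set H := slotU j e₁ with hH
    have hHv : (H : Mt (s + 1) k F) = 1 + B := by
      rw [hH, slotU_val, he₁v, eich_frame hf, add_sub_assoc, slot_add, slot_one]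
    set Y := G * H * G⁻¹ * H⁻¹ with hY
    have hYM : Y ∈ M := M.mul_mem (M.mul_mem (M.mul_mem hGM (hM.toBase.slot_sq hd j he₁)) (M.inv_mem hGM))
      (M.inv_mem (hM.toBase.slot_sq hd j he₁))
    obtain ⟨e₀', he₀', he₀v'⟩ := eich_mem_sqG h2 hd hf.uu ((Pp d u v).neg_mem hb).1
    obtain ⟨e₁', he₁', he₁v'⟩ := eich_mem_sqG h2 hd hf.uu ((Pp d u v).neg_mem hb').1
    set B' := slot j (wg d (-b') u - (fd d (-b') (-b') / 2) • Z) with hB2
    have hB'' : Val j (SR d u v) (B' : Mt (s + 1) k F) := slot_eich_val hD hf _ ((Pp d u v).neg_mem hb')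
    have hHi : ((H⁻¹ : GL (Fin (s + 1) → Fin k) F) : Mt (s + 1) k F) = 1 + B' := by
      refine Units.inv_eq_of_mul_eq_one_right ?_
      rw [hH, slotU_val, he₁v, hB2, ← slot_one j, ← slot_add, ← add_sub_assoc, ← eich_frame hf, slot_mul,
        eich_neg h2 hf.uu hb'.1]
    set A' := (-P) - (fd d b b / 2) • (c • slot j Z) with hA2
    have hA'v : Val j (SS d u) A' := hPv.neg.sub (((val_slot (SR_le_SS hZu)).smul _).smul _)
    have hGi : ((G⁻¹ : GL (Fin (s + 1) → Fin k) F) : Mt (s + 1) k F) = 1 + A' := by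
      refine Units.inv_eq_of_mul_eq_one_right ?_
      have e : cj g (slot i (eich d u (-b))) = 1 + A' := by
        rw [eich_frame hf, slot_sub, slot_add, slot_one, slot_smul, fd_neg_left, fd_neg_right, neg_neg,
          sub_eq_add_neg, cj_add, cj_add, cj_one, ← neg_one_smul F ((fd d b b / 2) • slot i (vd d u u) : Mt (s + 1) k F),
          cj_smul, cj_smul, hfix, hA2, neg_one_smul, ← sub_eq_add_neg, add_sub_assoc,
          ← neg_one_smul F b, wg_smul_left, slot_smul, cj_smul, neg_one_smul, ← hP]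
      rw [hGv, ← e, ← hAe, ← cj_mul, slot_mul, eich_neg h2 hf.uu hb.1, slot_one, cj_one]
    set D := A * B - B * A with hDd
    have hDv : Val j (SR d u v) D :=
      ((val_SR_mul hD hf hB' hAv).2).sub ((val_SR_mul hD hf hB' hAv).1)
    have hYv : (Y : Mt (s + 1) k F) = 1 + D * ((1 + A') * (1 + B')) := by
      rw [← hGi, ← hHi, hY, hDd, show A * B - B * A = (1 + A) * (1 + B) - (1 + B) * (1 + A) by noncomm_ring,
        ← hGv, ← hHv, sub_mul]
      simp [mul_assoc]
    have hYd : Val j (SR d u v) (D * ((1 + A') * (1 + B'))) := by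
      rw [show D * ((1 + A') * (1 + B')) = D + D * A' + D * B' + D * A' * B' by noncomm_ring]
      exact ((hDv.add (val_SR_mul hD hf hDv hA'v).1).add (val_SR_mul hD hf hDv (hB''.mono SR_le_SS)).1).add
        (val_SR_mul hD hf (val_SR_mul hD hf hDv hA'v).1 (hB''.mono SR_le_SS)).1
    obtain ⟨w, hw, hwe⟩ := hM.rad_eq_slot hD hf hYd ⟨Y, hYM, hYv⟩
    refine ⟨w, fun x y => ?_⟩
    have hDe : D = slot j (eich d u w - 1) * ((1 + B) * (1 + A)) := by
      have hK : (1 + A') * (1 + B') * ((1 + B) * (1 + A)) = (1 : Mt (s + 1) k F) := by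
        rw [← hGi, ← hHi, ← hGv, ← hHv, ← Units.val_mul, ← Units.val_mul, ← Units.val_mul]
        exact Units.val_eq_one.2 (by group)
      rw [slot_sub, slot_one, ← hwe, add_sub_cancel_left, mul_assoc D, hK, mul_one]
    have hDP : D = P * slot j (wg d b' u) - slot j (wg d b' u) * P := by
      have hn1 : slot j (wg d b' u) * slot j Z = (0 : Mt (s + 1) k F) := by
        rw [slot_mul, nm_mul_z hf hb', slot_zero]
      have hn2 : slot j Z * slot j (wg d b' u) = (0 : Mt (s + 1) k F) := by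
        rw [slot_mul, z_mul_nm hf hb', slot_zero]
      rw [hDd, hA, hB, slot_sub, slot_smul]
      have hn3 : slot j Z * slot j Z = (0 : Mt (s + 1) k F) := by
        rw [slot_mul, hZ, z_mul_z hf, slot_zero]
      simp only [mul_sub, sub_mul, mul_smul_comm, smul_mul_assoc, smul_sub, hn1, hn2, hn3, hPZ.1, hPZ.2,
        smul_zero, sub_zero, zero_sub]
    have e := congrArg (fun W => prj d u v (sl j W x y *ᵥ v)) (hDP.symm.trans hDe)
    simp only [sl_sub, sl_mul_slot, sl_slot_mul] at e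
    have hs : ∀ z, prj d u v ((eich d u w - 1) *ᵥ z) = fd d u z • w := fun z => by
      rw [Matrix.sub_mulVec, Matrix.one_mulVec, eich_mulVec, prj]
      simp only [fd_add_right, fd_sub_right, fd_smul_right, hw.1, hw.2, hf.uu, hf.vu]
      module
    rw [← Matrix.mulVec_mulVec, hs, Matrix.sub_mulVec, ← Matrix.mulVec_mulVec, ← Matrix.mulVec_mulVec,
      nm_mulVec_v hf hb', SS_perp hD hf (hPv x y) v, Matrix.mulVec_add, Matrix.mulVec_smul] at e
    have e' : prj d u v (sl j P x y *ᵥ b' - (fd d v (sl j P x y *ᵥ v) • wg d b' u *ᵥ u +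
        wg d b' u *ᵥ prj d u v (sl j P x y *ᵥ v))) = prj d u v (sl j P x y *ᵥ b') := by
      have hq := prj_mem hf (sl j P x y *ᵥ v)
      rw [wg_mulVec, wg_mulVec, hf.uu, fd_symm d u b', hb'.1, hq.1]
      simp only [prj, fd_sub_right, fd_add_right, fd_smul_right, hf.uu, hf.vu, hf.uv, zero_smul, sub_zero, smul_zero,
        zero_add]
      simp [fd_zero_right, fd_sub_right, fd_smul_right, hf.uu, hf.vu]
      module
    rw [e'] at e
    rw [e]
    have hz : sl j ((1 + B) * (1 + A)) x y *ᵥ v =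
        sl j (1 : Mt (s + 1) k F) x y *ᵥ v + sl j (B + A + B * A) x y *ᵥ v := by
      rw [← Matrix.add_mulVec, ← sl_add]
      congr 2
      noncomm_ring
    have hR : Val j (SS d u) (B + A + B * A) :=
      ((hB'.mono SR_le_SS).add hAv).add ((val_SR_mul hD hf hB' hAv).1.mono SR_le_SS)
    rw [hz, fd_add_right, fd_symm d (sl j (B + A + B * A) x y *ᵥ v), fd_mulVec hD.ne, (hR x y).2, fd_zero_right,
      ← slot_one j, sl_slot]
    split_ifs with h
    · rw [Matrix.one_mulVec, hf.uv, add_zero, one_smul]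
    · rw [Matrix.zero_mulVec, fd_zero_right, add_zero, zero_smul]
  set Pr₀ : Matrix (Fin k) (Fin k) F := 1 - vd d u v - vd d v u with hPr
  set Ω := Pr₀ * X₀ * Pr₀ with hΩ
  have hPrv : ∀ z, Pr₀ *ᵥ z = prj d u v z := fun z => by
    simp [hPr, Matrix.sub_mulVec, vd_mulVec, prj]
  have hsaPr : sa d Pr₀ = Pr₀ := by rw [hPr, sa_sub, sa_sub, sa_one hd, sa_vd hd, sa_vd hd]; abel
  have hΩu : Ω *ᵥ u = 0 := by
    rw [hΩ, ← Matrix.mulVec_mulVec, hPrv]
    simp [prj, hf.uu, hf.vu, Matrix.mulVec_zero]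
  have hΩs : sa d Ω = -Ω := by
    have : sa d X₀ = -X₀ := by
      have := congrArg (fun W => sl j W (fun _ => 0) (fun _ => 0)) hPs
      rw [sl_sa hd, inv_mul_cancel₀ (Finset.prod_ne_zero_iff.2 fun l _ => hd _), one_smul] at this
      rw [hX₀, this, ← neg_one_smul F P, sl_smul, neg_one_smul]
    rw [hΩ, sa_mul hd, sa_mul hd, hsaPr, this, neg_mul, mul_neg, mul_assoc]
  have hΩS : Ω ∈ SS d u := ⟨hΩu, by rw [hΩs, Matrix.neg_mulVec, hΩu, neg_zero]⟩
  have hblockΩ : ∀ a ∈ Pp d u v, ∀ b ∈ Pp d u v, fd d a (Ω *ᵥ b) = fd d a (X₀ *ᵥ b) := fun a ha b hb => by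
    have hb' : prj d u v b = b := by rw [prj, hb.1, hb.2, zero_smul, zero_smul, sub_zero, sub_zero]
    rw [hΩ, ← Matrix.mulVec_mulVec, ← Matrix.mulVec_mulVec, hPrv, hPrv, hb', prj, fd_sub_right, fd_sub_right,
      fd_smul_right, fd_smul_right, fd_symm d u a, ha.1, fd_symm d v a, ha.2]
    ring
  have hR₁ : Val j (SR d u v) (P - slot j Ω) := fun x y => by
    obtain ⟨h1, h1'⟩ := (hPv.sub (val_slot hΩS)) x y
    refine ⟨h1, h1', fun a ha b hb => ?_⟩
    have hp : ∀ z, fd d a (prj d u v z) = fd d a z := fun z => by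
      rw [prj, fd_sub_right, fd_sub_right, fd_smul_right, fd_smul_right, fd_symm d u a, ha.1, fd_symm d v a, ha.2]
      ring
    rw [sl_sub, Matrix.sub_mulVec, fd_sub_right, ← hp (sl j P x y *ᵥ b), hblock x y b hb, hp, sl_slot, sl_slot]
    split_ifs
    · rw [hblockΩ a ha b hb, sub_self]
    · rw [sub_self]
  have hΩΩ : Ω * Ω = 0 := by
    have hPP : P * P = (-fd d b b * c) • slot j Z := by
      rw [hP, ← cj_mul, slot_mul, nm_mul hf hb hb, slot_smul, cj_smul, hfix, smul_smul]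
    have hv : Val j (SR d u v) (slot j (Ω * Ω) : Mt (s + 1) k F) := by
      have hA1 := val_SR_mul hD hf hR₁ hPv
      have hA2 := val_SR_mul hD hf hR₁ (val_slot (i := j) hΩS)
      rw [show (slot j (Ω * Ω) : Mt (s + 1) k F) = P * P - (P - slot j Ω) * P - slot j Ω * (P - slot j Ω) by
        rw [← slot_mul]; noncomm_ring, hPP]
      exact ((((val_slot hZu).smul _)).sub hA1.1).sub hA2.2
    have h0 := hv (fun _ => 0) (fun _ => 0)
    rw [sl_slot, if_pos fun _ _ => rfl] at h0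
    refine hf.ext hd fun a b ha hb => ?_
    rw [Matrix.zero_mulVec, fd_zero_right]
    have hΩv : Ω *ᵥ v = 0 := by
      rw [hΩ, ← Matrix.mulVec_mulVec, hPrv]
      simp [prj, hf.vv, hf.uv, Matrix.mulVec_zero]
    rcases hb with rfl | rfl | hb
    · rw [← Matrix.mulVec_mulVec, hΩu, Matrix.mulVec_zero, fd_zero_right]
    · rw [← Matrix.mulVec_mulVec, hΩv, Matrix.mulVec_zero, fd_zero_right]
    rcases ha with rfl | rfl | ha
    · rw [← Matrix.mulVec_mulVec, fd_symm, fd_mulVec hd, hΩs, Matrix.neg_mulVec, hΩu, neg_zero, fd_zero_right]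
    · rw [← Matrix.mulVec_mulVec, fd_symm, fd_mulVec hd, hΩs, Matrix.neg_mulVec, hΩv, neg_zero, fd_zero_right]
    · exact h0.2.2 a ha b hb
  -- the sign change of the block
  set H₀ := (2 : F)⁻¹ • Ω with hH₀
  have hHH : H₀ * H₀ = 0 := by rw [hH₀, smul_mul_smul_comm, hΩΩ, smul_zero]
  let q : GL (Fin k) F := ⟨1 - H₀, 1 + H₀,
    by rw [mul_add, mul_one, sub_mul, one_mul, hHH]; abel, by rw [mul_sub, mul_one, add_mul, one_mul, hHH]; abel⟩
  have hq : q ∈ isoG d := (mem_isoG hd).2 (by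
    show sa d (1 - H₀) * (1 - H₀) = 1
    rw [sa_sub, sa_one hd, hH₀, sa_smul, hΩs, smul_neg, ← hH₀, sub_neg_eq_add, mul_sub, mul_one, add_mul, one_mul, hHH]
    abel)
  have hqq : ((q * q : GL (Fin k) F) : Matrix (Fin k) (Fin k) F) = 1 - Ω := by
    rw [Units.val_mul]
    show (1 - H₀) * (1 - H₀) = _
    have e : H₀ + H₀ = Ω := by
      rw [hH₀, ← add_smul, show (2 : F)⁻¹ + 2⁻¹ = 1 by field_simp; norm_num, one_smul]
    rw [mul_sub, mul_one, sub_mul, one_mul, hHH, ← e]; abel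
  have hslotM := hM.toBase.slot_sq hd j (sq_mem_sqG hq)
  set R := A - slot j Ω - A * slot j Ω with hRdef
  have hA1 : Val j (SR d u v) (A - slot j Ω) := by
    rw [hA, sub_right_comm]
    exact hR₁.sub (((val_slot hZu).smul _).smul _)
  have hRv : Val j (SR d u v) R := by
    rw [hRdef, show A * slot j Ω = (A - slot j Ω) * slot j Ω by
      conv_rhs => rw [sub_mul, slot_mul, hΩΩ, slot_zero, sub_zero]]
    exact hA1.sub (val_SR_mul hD hf hA1 (val_slot hΩS)).1
  have hRm : Mem M (1 + R) := by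
    refine ⟨G * slotU j (q * q), M.mul_mem hGM hslotM, ?_⟩
    rw [Units.val_mul, hGv, slotU_val, hqq, slot_sub, slot_one, hRdef]
    noncomm_ring
  obtain ⟨w, hw, hwe⟩ := hM.rad_eq_slot hD hf hRv hRm
  refine ⟨eich d u w * (1 + Ω), ?_⟩
  rw [← slot_mul, ← hwe, hAe, slot_add, slot_one, hRdef]
  have e : A * slot j Ω * slot j Ω = 0 := by rw [mul_assoc, slot_mul, hΩΩ, slot_zero, mul_zero]
  rw [show (1 + (A - slot j Ω - A * slot j Ω)) * (1 + slot j Ω) =
    1 + A - slot j Ω * slot j Ω - A * slot j Ω * slot j Ω by noncomm_ring, e, slot_mul, hΩΩ, slot_zero]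
  abel

/-- A member preserving the centre of a factor preserves the factor. -/
theorem pres_of_fix (hM : Bad d M) (hrec : Rec d (s + 1)) (hs : 1 ≤ s) {g : GL (Fin (s + 1) → Fin k) F} (hg : g ∈ M)
    {i j : Fin (s + 1)} {c : F} (hfix : cj g (slot i (vd d u u)) = c • slot j (vd d u u)) : Pres g i j := by
  have key : ∀ l, l ≠ j → ∀ X, Com i (cj g⁻¹ (slot l X)) := fun l hl X => by
    refine com_of_cent hD hf hM hrec hs (M.inv_mem hg) (fun e _ m hm => cj_injective g ?_) X
    obtain ⟨B, hB⟩ := inSlot_image hD hf hM hg hfix hm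
    rw [cj_mul, cj_mul, cj_cj_inv, hB, slot_mul_comm hl.symm]
  intro p q
  refine inSlot_of_com fun l hl a b => ?_
  have h := (key l hl (Matrix.single a b 1)) p q
  have e := congrArg (cj g) h
  rw [cj_mul, cj_mul, cj_cj_inv] at e
  exact e.symm

end CfsgLib.Geo.TensorPow.O
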