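/-
Unipotent elements of the wreath group with vanishing cube: the shape of the permutation and of the factors.
-/
import Cfsg.Agent.Geo.TensorPow.O.Fix
import Cfsg.Agent.Geo.TensorPow.Sp.Classify

set_option autoImplicit false
set_option linter.unusedSectionVars false

namespace CfsgLib.Geo.TensorPow.O

open Matrix Cfsg.Geo CfsgLib.Aschbacher
open scoped MatrixGroups

variable {F : Type*} [Field F] [Fintype F] {t k : ℕ} {d u v : Fin k → F}

lemma Dat.exists_char (hD : Dat d) : ∃ p : ℕ, p.Prime ∧ 3 ≤ p ∧ CharP F p := by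
  obtain ⟨p, hp⟩ := CharP.exists F
  have hpp : p.Prime := CharP.char_is_prime F p
  refine ⟨p, hpp, ?_, hp⟩
  have : p ≠ 2 := fun e => hD.two (by subst e; exact_mod_cast CharP.cast_eq_zero F 2)
  have := hpp.two_le
  omega

lemma sa_pow {ι : Type} [Fintype ι] [DecidableEq ι] {e : ι → F} (he : ∀ i, e i ≠ 0) (X : Matrix ι ι F) (n : ℕ) :
    sa e (X ^ n) = sa e X ^ n := by
  induction n with
  | zero => rw [pow_zero, pow_zero, sa_one he]
  | succ n ih => rw [pow_succ, sa_mul he, ih, pow_succ']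

lemma pow_char_inj {p : ℕ} (hp : p.Prime) [CharP F p] {x y : F} (h : x ^ p = y ^ p) : x = y := by
  haveI := Fact.mk hp
  exact frobenius_inj F p h

variable [NeZero k]

/-- Nonscalar matrices of different factors differ. -/
lemma slot_index {i l : Fin t} {A B : Matrix (Fin k) (Fin k) F} (hA : ∀ c : F, A ≠ c • 1)
    (h : (slot i A : Mt t k F) = slot l B) : i = l := by
  by_contra hne
  obtain ⟨c, hc⟩ := scalar_of_forall_comm (A := A) fun P => slot_injective i (by
    rw [← slot_mul, ← slot_mul, h, slot_mul_comm hne])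
  exact hA c hc

lemma single_not_scalar (hk : 2 ≤ k) (c : F) :
    Matrix.single (⟨0, by omega⟩ : Fin k) (⟨0, by omega⟩ : Fin k) (1 : F) ≠ c • 1 := by
  intro h
  have h0 := congrFun (congrFun h ⟨0, by omega⟩) ⟨0, by omega⟩
  have h1 := congrFun (congrFun h ⟨1, by omega⟩) ⟨1, by omega⟩
  simp at h0 h1
  rw [← h0] at h1
  exact zero_ne_one h1

lemma scalar_of_conj_fix {a : GL (Fin k) F}
    (h : ∀ X : Matrix (Fin k) (Fin k) F, (a : Matrix (Fin k) (Fin k) F) * X *
      ((a⁻¹ : GL (Fin k) F) : Matrix (Fin k) (Fin k) F) = X) :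
    ∃ c : F, (a : Matrix (Fin k) (Fin k) F) = c • 1 :=
  scalar_of_forall_comm fun P => by
    conv_lhs => rw [← h P]
    rw [mul_assoc, Units.inv_mul, mul_one]

variable {y : GL (Fin t → Fin k) F} {a : Fin t → GL (Fin k) F} {σ : Equiv.Perm (Fin t)}
  (hy : (y : Mt t k F) = tens (fun l => (a l : Matrix (Fin k) (Fin k) F)) * permMat k σ)

section shape

include hy

lemma cj_shape (l : Fin t) (X : Matrix (Fin k) (Fin k) F) :
    cj y (slot l X) = slot (σ l)
      ((a (σ l) : Matrix (Fin k) (Fin k) F) * X * (((a (σ l))⁻¹ : GL (Fin k) F) : Matrix (Fin k) (Fin k) F)) := by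
  rw [cj, hy, mul_assoc (tens _), permMat_mul_slot, ← mul_assoc, tens_mul_slot _ _ (M :=
      (a (σ l) : Matrix (Fin k) (Fin k) F) * X * (((a (σ l))⁻¹ : GL (Fin k) F) : Matrix (Fin k) (Fin k) F))
      (by rw [mul_assoc _ _ (a (σ l) : Matrix (Fin k) (Fin k) F), Units.inv_mul, mul_one]),
    mul_assoc (slot (σ l) _), ← hy, mul_assoc, Units.mul_inv, mul_one]

lemma cj_shape_pow (n : ℕ) (l : Fin t) (X : Matrix (Fin k) (Fin k) F) : ∃ b : GL (Fin k) F,
    cj (y ^ n) (slot l X) =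
      slot ((σ ^ n) l) ((b : Matrix (Fin k) (Fin k) F) * X * ((b⁻¹ : GL (Fin k) F) : Matrix (Fin k) (Fin k) F)) := by
  induction n with
  | zero => exact ⟨1, by simp [cj]⟩
  | succ n ih =>
    obtain ⟨b, hb⟩ := ih
    refine ⟨a ((σ ^ (n + 1)) l) * b, ?_⟩
    rw [pow_succ' y, cj_comp, hb, cj_shape hy, pow_succ' σ, Equiv.Perm.mul_apply, _root_.mul_inv_rev, Units.val_mul,
      Units.val_mul]
    simp [mul_assoc]

lemma cj_fix_pow {j : Fin t} (hj : σ j = j) (n : ℕ) (X : Matrix (Fin k) (Fin k) F) :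
    cj (y ^ n) (slot j X) =
      slot j (((a j ^ n : GL (Fin k) F) : Matrix (Fin k) (Fin k) F) * X *
        (((a j ^ n)⁻¹ : GL (Fin k) F) : Matrix (Fin k) (Fin k) F)) := by
  induction n with
  | zero => simp [cj]
  | succ n ih =>
    rw [pow_succ' y, cj_comp, ih, cj_shape hy, hj, pow_succ' (a j), _root_.mul_inv_rev, Units.val_mul, Units.val_mul]
    simp [mul_assoc]

lemma perm_pow_eq_one (hk : 2 ≤ k) {p : ℕ} (hp : y ^ p = 1) (l : Fin t) : (σ ^ p) l = l := by
  obtain ⟨b, hb⟩ := cj_shape_pow hy p l (Matrix.single ⟨0, by omega⟩ ⟨0, by omega⟩ 1)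
  rw [hp] at hb
  simp only [cj, Units.val_one, one_mul, inv_one, mul_one] at hb
  exact (slot_index (single_not_scalar hk) hb).symm

lemma pow_scalar {p : ℕ} (hp : y ^ p = 1) {j : Fin t} (hj : σ j = j) :
    ∃ c : F, ((a j ^ p : GL (Fin k) F) : Matrix (Fin k) (Fin k) F) = c • 1 :=
  scalar_of_conj_fix fun X => slot_injective j (by rw [← cj_fix_pow hy hj, hp]; simp [cj])

lemma triple_scalar (hp : y ^ 3 = 1) {j : Fin t} (hj : σ (σ (σ j)) = j) :
    ∃ c : F, ((a j * a (σ (σ j)) * a (σ j) : GL (Fin k) F) : Matrix (Fin k) (Fin k) F) = c • 1 :=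
  scalar_of_conj_fix fun X => slot_injective j (by
    conv_rhs => rw [show (slot j X : Mt t k F) = cj (y * y * y) (slot j X) by
      rw [show y * y * y = y ^ 3 by rw [pow_three, mul_assoc], hp]; simp [cj]]
    rw [cj_comp, cj_comp, cj_shape hy, cj_shape hy, cj_shape hy, hj]
    simp [mul_assoc])

lemma sa_mul_scalar (hd : ∀ p, d p ≠ 0) (hyi : y ∈ isoG (dt d t)) {j : Fin t} (hj : σ j = j) :
    ∃ c : F, sa d (a j : Matrix (Fin k) (Fin k) F) * (a j : Matrix (Fin k) (Fin k) F) = c • 1 := by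
  refine scalar_of_forall_comm fun P => ?_
  set A := (a j : Matrix (Fin k) (Fin k) F)
  set A' := (((a j)⁻¹ : GL (Fin k) F) : Matrix (Fin k) (Fin k) F)
  have e := congrArg (sa (dt d t)) (cj_shape hy j (sa d P))
  rw [sa_cj hd le_rfl hyi, sa_slot hd, sa_sa hd, cj_shape hy, hj, sa_slot hd, sa_mul hd, sa_mul hd,
    sa_sa hd] at e
  have e' : A * P * A' = sa d A' * (P * sa d A) := slot_injective j e
  have h2 : A' * A = 1 := Units.inv_mul _
  have h3 : sa d A * sa d A' = 1 := by rw [← sa_mul hd, h2, sa_one hd]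
  calc P * (sa d A * A) = sa d A * sa d A' * P * (sa d A * A) := by rw [h3, one_mul]
    _ = sa d A * (sa d A' * (P * sa d A)) * A := by simp only [mul_assoc]
    _ = sa d A * (A * P * A') * A := by rw [← e']
    _ = sa d A * (A * P) * (A' * A) := by simp only [mul_assoc]
    _ = sa d A * A * P := by rw [h2, mul_one, mul_assoc]

end shape

/-- A factor of a unipotent isometry is a multiple of a unipotent isometry. -/
lemma exists_normal (hD : Dat d) {p : ℕ} (hp : p.Prime) [CharP F p] {g : GL (Fin k) F}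
    (h1 : ∃ c : F, ((g ^ p : GL (Fin k) F) : Matrix (Fin k) (Fin k) F) = c • 1)
    (h2 : ∃ c : F, sa d (g : Matrix (Fin k) (Fin k) F) * (g : Matrix (Fin k) (Fin k) F) = c • 1) :
    ∃ (e : F) (h : GL (Fin k) F), e ≠ 0 ∧ h ∈ isoG d ∧ (g : Matrix (Fin k) (Fin k) F) = e • (h : Matrix (Fin k) (Fin k) F) ∧
      h ^ p = 1 ∧ ((h : Matrix (Fin k) (Fin k) F) - 1) ^ p = 0 := by
  haveI := Fact.mk hp
  have hd := hD.ne
  obtain ⟨c, hc⟩ := h1
  obtain ⟨b, hb⟩ := h2
  obtain ⟨e, he⟩ := Finite.surjective_of_injective (f := fun x : F => x ^ p) (fun _ _ h => pow_char_inj hp h) c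
  simp only at he
  have he0 : e ≠ 0 := fun h0 => by
    rw [h0, zero_pow hp.ne_zero] at he
    rw [← he, zero_smul] at hc
    exact (g ^ p).ne_zero hc
  obtain ⟨h, hv⟩ : ∃ h : GL (Fin k) F, (h : Matrix (Fin k) (Fin k) F) = e⁻¹ • (g : Matrix (Fin k) (Fin k) F) :=
    ⟨⟨e⁻¹ • (g : Matrix (Fin k) (Fin k) F), e • ((g⁻¹ : GL (Fin k) F) : Matrix (Fin k) (Fin k) F),
      by rw [smul_mul_smul_comm, inv_mul_cancel₀ he0, Units.mul_inv, one_smul],
      by rw [smul_mul_smul_comm, mul_inv_cancel₀ he0, Units.inv_mul, one_smul]⟩, rfl⟩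
  have hpow : (h : Matrix (Fin k) (Fin k) F) ^ p = 1 := by
    rw [hv, smul_pow, ← Units.val_pow_eq_pow_val, hc, smul_smul, ← he, inv_pow,
      inv_mul_cancel₀ (pow_ne_zero _ he0), one_smul]
  refine ⟨e, h, he0, (mem_isoG hd).2 ?_, by rw [hv, smul_smul, mul_inv_cancel₀ he0, one_smul],
    Units.ext (by rw [Units.val_pow_eq_pow_val, hpow, Units.val_one]),
    by rw [sub_pow_char_of_commute p (Commute.one_right _), hpow, one_pow, sub_self]⟩
  set H := (h : Matrix (Fin k) (Fin k) F) with hH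
  obtain ⟨ε, hε⟩ : ∃ ε : F, sa d H * H = ε • 1 :=
    ⟨e⁻¹ * e⁻¹ * b, by rw [hv, sa_smul, smul_mul_smul_comm, hb, smul_smul]⟩
  have hcomm : Commute (sa d H) H := by
    show sa d H * H = H * sa d H
    have : sa d H = ε • ((h⁻¹ : GL (Fin k) F) : Matrix (Fin k) (Fin k) F) := by
      rw [← mul_one (sa d H), ← Units.mul_inv h, ← hH, ← mul_assoc, hε, smul_mul_assoc, one_mul]
    rw [this, smul_mul_assoc, mul_smul_comm, hH, Units.inv_mul, Units.mul_inv]
  have e1 : (sa d H * H) ^ p = (ε • (1 : Matrix (Fin k) (Fin k) F)) ^ p := by rw [hε]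
  rw [hcomm.mul_pow, ← sa_pow hd, hpow, sa_one hd, one_mul, smul_pow, one_pow] at e1
  have : ε ^ p = 1 ^ p := by
    rw [one_pow]
    have := congrFun (congrFun e1 0) 0
    simpa using this.symm
  rw [hε, pow_char_inj hp this, one_smul]

end CfsgLib.Geo.TensorPow.O
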