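/-
Unipotent isometries of one factor: moving isotropic vectors, the fixed vectors, small dimensions.
-/
import Cfsg.Agent.Geo.TensorPow.O.Shape

set_option autoImplicit false
set_option linter.unusedSectionVars false

namespace CfsgLib.Geo.TensorPow.O

open Matrix Cfsg.Geo CfsgLib.Aschbacher
open scoped MatrixGroups

variable {F : Type*} [Field F] [Fintype F] {k : ℕ} {d u v : Fin k → F}

lemma eq_smul_add (x : Fin k → F) : x = fd d v x • u + fd d u x • v + prj d u v x := prj_decomp x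

variable (hD : Dat d) (hf : Fr d u v)
include hD hf

/-- Any isotropic vector is moved to the line of the pair by squares. -/
lemma exists_move {x : Fin k → F} (hx0 : x ≠ 0) (hx : fd d x x = 0) :
    ∃ g ∈ sqG d, ∃ c : F, c ≠ 0 ∧ (g : Matrix (Fin k) (Fin k) F) *ᵥ x = c • u := by
  have h2 := hD.two
  have hd := hD.ne
  have hiso : ∀ {g : GL (Fin k) F}, g ∈ sqG d → ∀ {z : Fin k → F}, fd d z z = 0 →
      fd d ((g : Matrix (Fin k) (Fin k) F) *ᵥ z) ((g : Matrix (Fin k) (Fin k) F) *ᵥ z) = 0 := fun hg z hz => by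
    rw [sqG_le d hg z z, hz]
  have case1 : ∀ z, fd d z z = 0 → fd d v z ≠ 0 →
      ∃ g ∈ sqG d, ∃ c : F, c ≠ 0 ∧ (g : Matrix (Fin k) (Fin k) F) *ᵥ z = c • u := by
    intro z hz hα
    set α := fd d v z with hαd
    set m := prj d u v z with hmd
    have hm : m ∈ Pp d u v := prj_mem hf z
    have hw : (-α⁻¹) • m ∈ Pp d u v := (Pp d u v).smul_mem _ hm
    obtain ⟨g, hg, hgv⟩ := eich_mem_sqG h2 hd hf.vv hw.2
    set z' := (g : Matrix (Fin k) (Fin k) F) *ᵥ z with hz'
    have e1 : fd d v z' = α := by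
      rw [hz', hgv, eich_mulVec]
      simp only [fd_add_right, fd_sub_right, fd_smul_right, hw.2, hm.2, hf.vv]
      rw [hαd]; ring
    have e2 : prj d u v z' = 0 := by
      rw [hz', hgv, eich_mulVec]
      simp only [prj, fd_add_right, fd_sub_right, fd_smul_right, hf.vv, hf.uv, hm.1, hm.2, ← hαd]
      rw [hmd, prj, ← hαd]
      match_scalars <;> field_simp <;> ring
    have e3 := eq_smul_add (d := d) (u := u) (v := v) z'
    rw [e1, e2, add_zero] at e3
    have hβ : fd d u z' = 0 := by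
      have h := hiso hg hz
      rw [← hz', e3] at h
      simp only [fd_add_left, fd_add_right, fd_smul_left, fd_smul_right, hf.uu, hf.vv, hf.uv, hf.vu] at h
      exact (mul_eq_zero.1 (show (2 * α) * fd d u z' = 0 by linear_combination h)).resolve_left
        (mul_ne_zero h2 hα)
    rw [hβ, zero_smul, add_zero] at e3
    exact ⟨g, hg, α, hα, e3⟩
  by_cases hα : fd d v x = 0
  swap
  · exact case1 x hx hα
  obtain ⟨g₀, hg₀, hg₀α⟩ : ∃ g ∈ sqG d, fd d v ((g : Matrix (Fin k) (Fin k) F) *ᵥ x) ≠ 0 := by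
    by_cases hβ : fd d u x = 0
    · have hm : x ∈ Pp d u v := ⟨hβ, hα⟩
      obtain ⟨n, hn, -, hnm⟩ := exists_aniso_meet hD hf hm hx0
      obtain ⟨g, hg, hgv⟩ := eich_mem_sqG h2 hd hf.uu hn.1
      refine ⟨g, hg, ?_⟩
      rw [hgv, eich_mulVec]
      simp only [fd_add_right, fd_sub_right, fd_smul_right, hα, hβ, hn.2, hf.vu]
      simpa using hnm
    · obtain ⟨n, hn, hnn⟩ := hf.exists_aniso hD
      obtain ⟨g, hg, hgu, -, -, -⟩ := exists_weyl hD hf hn hnn
      refine ⟨g, hg, fun h => hβ ?_⟩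
      have e := sqG_le d hg u x
      rw [hgu, fd_smul_left, h, mul_zero] at e
      exact e.symm
  obtain ⟨g, hg, c, hc, hgc⟩ := case1 _ (hiso hg₀ hx) hg₀α
  exact ⟨g * g₀, (sqG d).mul_mem hg hg₀, c, hc, by rw [CfsgLib.Geo.mul_mulVec, hgc]⟩

/-- In dimension at most four orthogonal isotropic vectors are dependent. -/
lemma iso_perp (hk : k ≤ 4) {x z : Fin k → F} (hx0 : x ≠ 0) (hx : fd d x x = 0) (hz : fd d z z = 0)
    (hxz : fd d x z = 0) : ∃ c : F, z = c • x := by
  obtain ⟨y, hy⟩ := exists_fr_of hD hx0 hx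
  refine ⟨fd d y z, ?_⟩
  have hm := prj_mem hy z
  have e := eq_smul_add (d := d) (u := x) (v := y) z
  rw [hxz, zero_smul, add_zero] at e
  have hmm : fd d (prj d x y z) (prj d x y z) = 0 := by
    rw [e] at hz
    simp only [fd_add_left, fd_add_right, fd_smul_left, fd_smul_right, hx, hm.1, fd_symm d x (prj d x y z)] at hz
    linear_combination hz
  have h0 : prj d x y z = 0 := by
    rcases (show k = 3 ∨ k = 4 by have := hD.three; omega) with h3 | h4
    · obtain ⟨n, hn, hnn⟩ := hy.exists_aniso hD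
      have e' := hy.three_line hD h3 hn hnn hm
      rw [e', fd_smul_left, fd_smul_right, ← mul_assoc, mul_eq_zero, or_iff_left hnn, mul_self_eq_zero] at hmm
      rw [e', hmm, zero_smul]
    · exact hy.four_aniso hD h4 hm hmm
  rw [h0, add_zero] at e
  exact e

omit hf in
/-- A skew matrix with image in a line vanishes. -/
lemma skew_line {A : Matrix (Fin k) (Fin k) F} (hA : sa d A = -A) {z : Fin k → F}
    (h : ∀ x, ∃ c : F, A *ᵥ x = c • z) : A = 0 := by
  choose c hc using h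
  rcases eq_or_ne z 0 with rfl | hz
  · exact Matrix.ext_iff_mulVec.2 fun x => by rw [hc, smul_zero, Matrix.zero_mulVec]
  have hsk : ∀ x y, c y * fd d x z = -(c x * fd d y z) := fun x y => by
    have e := fd_mulVec hD.ne A x y
    rw [hA, Matrix.neg_mulVec, fd_neg_right, hc, hc, fd_smul_left, fd_smul_right, fd_symm d y z] at e
    linear_combination e
  obtain ⟨x₀, hx₀⟩ : ∃ x, fd d x z ≠ 0 := by
    by_contra hcon
    push Not at hcon
    exact hz (eq_zero_of_fd hD.ne fun y => by rw [fd_symm]; exact hcon y)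
  have h0 : c x₀ = 0 := by
    have := hsk x₀ x₀
    have h' : 2 * (c x₀ * fd d x₀ z) = 0 := by linear_combination this
    exact (mul_eq_zero.1 ((mul_eq_zero.1 h').resolve_left hD.two)).resolve_right hx₀
  refine Matrix.ext_iff_mulVec.2 fun y => ?_
  have := hsk x₀ y
  rw [h0, zero_mul, neg_zero] at this
  rw [hc, (mul_eq_zero.1 this).resolve_right hx₀, zero_smul, Matrix.zero_mulVec]

/-- In dimension at most four a skew matrix of square zero vanishes. -/
lemma skew_sq_zero (hk : k ≤ 4) {A : Matrix (Fin k) (Fin k) F} (hA : sa d A = -A) (hAA : A * A = 0) : A = 0 := by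
  by_contra hA0
  obtain ⟨w, hw⟩ : ∃ w, A *ᵥ w ≠ 0 := by
    by_contra hcon
    push Not at hcon
    exact hA0 (Matrix.ext_iff_mulVec.2 fun x => by rw [hcon, Matrix.zero_mulVec])
  have hiso : ∀ x y, fd d (A *ᵥ x) (A *ᵥ y) = 0 := fun x y => by
    rw [fd_mulVec hD.ne, hA, Matrix.neg_mulVec, Matrix.mulVec_mulVec, hAA, Matrix.zero_mulVec, neg_zero, fd_zero_right]
  exact hA0 (skew_line hD hA fun x => iso_perp hD hf hk hw (hiso _ _) (hiso _ _) (hiso _ _))

/-- A unipotent isometry fixing the vector of the pair is an Eichler element in dimension three. -/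
lemma eich_of_fix (h3 : k = 3) {g : GL (Fin k) F} (hg : g ∈ isoG d) {r : ℕ}
    (hnil : ((g : Matrix (Fin k) (Fin k) F) - 1) ^ r = 0) (hu : (g : Matrix (Fin k) (Fin k) F) *ᵥ u = u) :
    ∃ w ∈ Pp d u v, (g : Matrix (Fin k) (Fin k) F) = eich d u w := by
  have hd := hD.ne
  have h2 := hD.two
  set G := (g : Matrix (Fin k) (Fin k) F) with hG
  have hgg : ∀ x y, fd d (G *ᵥ x) (G *ᵥ y) = fd d x y := hg
  have hgu : ∀ x, fd d u (G *ᵥ x) = fd d u x := fun x => by
    conv_lhs => rw [← hu]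
    exact hgg u x
  obtain ⟨n, hn, hnn⟩ := hf.exists_aniso hD
  set w := prj d u v (G *ᵥ v) with hwd
  have hw : w ∈ Pp d u v := prj_mem hf _
  refine ⟨w, hw, ?_⟩
  have hv : G *ᵥ v = (fd d v (G *ᵥ v)) • u + v + w := by
    conv_lhs => rw [eq_smul_add (d := d) (u := u) (v := v) (G *ᵥ v)]
    rw [hgu, hf.uv, one_smul]
  have hα : fd d v (G *ᵥ v) = -(fd d w w / 2) := by
    have e := hgg v v
    rw [hv] at e
    simp only [fd_add_left, fd_add_right, fd_smul_left, fd_smul_right, hf.uu, hf.vv, hf.uv, hf.vu, hw.1, hw.2,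
      fd_symm d u w, fd_symm d v w] at e
    field_simp
    linear_combination e
  have hn1 : G *ᵥ n = (fd d v (G *ᵥ n)) • u + (fd d n (G *ᵥ n) / fd d n n) • n := by
    conv_lhs => rw [eq_smul_add (d := d) (u := u) (v := v) (G *ᵥ n)]
    rw [hgu, hn.1, zero_smul, add_zero]
    congr 1
    rw [hf.three_line hD h3 hn hnn (prj_mem hf (G *ᵥ n))]
    congr 2
    rw [prj, fd_sub_right, fd_sub_right, fd_smul_right, fd_smul_right, fd_symm d u n, fd_symm d v n, hn.1, hn.2]
    ring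
  obtain ⟨γ, hγ⟩ : ∃ γ, γ = fd d n (G *ᵥ n) / fd d n n := ⟨_, rfl⟩
  rw [← hγ] at hn1
  have hpow : ∀ r : ℕ, ∃ δ : F, (G - 1) ^ r *ᵥ n = (γ - 1) ^ r • n + δ • u := by
    intro r
    induction r with
    | zero => exact ⟨0, by simp⟩
    | succ r ih =>
      obtain ⟨δ, hδ⟩ := ih
      refine ⟨(γ - 1) ^ r * fd d v (G *ᵥ n), ?_⟩
      rw [pow_succ', ← Matrix.mulVec_mulVec, hδ, Matrix.mulVec_add, Matrix.mulVec_smul, Matrix.mulVec_smul,
        Matrix.sub_mulVec, Matrix.sub_mulVec, Matrix.one_mulVec, Matrix.one_mulVec, hu]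
      nth_rw 1 [hn1]
      module
  have hγ1 : γ = 1 := by
    obtain ⟨δ, hδ⟩ := hpow r
    rw [hnil, Matrix.zero_mulVec] at hδ
    have e := congrArg (fd d n) hδ
    rw [fd_zero_right, fd_add_right, fd_smul_right, fd_smul_right, fd_symm d u n, hn.1, mul_zero, add_zero, eq_comm,
      mul_eq_zero, or_iff_left hnn] at e
    exact sub_eq_zero.1 (pow_eq_zero_iff (by rintro rfl; rw [pow_zero] at e; exact one_ne_zero e) |>.1 e)
  rw [hγ1, one_smul] at hn1
  have hβ : fd d v (G *ᵥ n) = -fd d n w := by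
    have e := hgg n v
    rw [hv] at e
    nth_rw 1 [hn1] at e
    simp only [fd_add_left, fd_add_right, fd_smul_left, fd_smul_right, hf.uu, hf.uv, hn.1, hn.2, hw.1,
      fd_symm d u n, fd_symm d v n] at e
    linear_combination e
  refine hf.ext hd fun a b _ hb => ?_
  congr 1
  rcases hb with rfl | rfl | hb
  · rw [hu, eich_mulVec, hf.uu, fd_symm d b w, hw.1]; simp
  · rw [hv, hα, eich_mulVec, hf.uv, fd_symm d b w, hw.2]
    module
  · have e := hf.three_line hD h3 hn hnn hb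
    rw [e, Matrix.mulVec_smul, Matrix.mulVec_smul, hn1, hβ, eich_mulVec, hn.1, fd_symm d n w]
    module

omit hf in
/-- A unipotent isometry other than the identity fixes an isotropic vector. -/
lemma exists_fixed_iso {g : GL (Fin k) F} (hg : g ∈ isoG d) {r : ℕ}
    (hnil : ((g : Matrix (Fin k) (Fin k) F) - 1) ^ r = 0) (h1 : g ≠ 1) :
    ∃ z, z ≠ 0 ∧ fd d z z = 0 ∧ (g : Matrix (Fin k) (Fin k) F) *ᵥ z = z := by
  classical
  set Y := (g : Matrix (Fin k) (Fin k) F) - 1 with hY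
  have hex : ∃ n, Y ^ (n + 1) = 0 := ⟨r, by rw [pow_succ, hnil, zero_mul]⟩
  have hn0 : Nat.find hex ≠ 0 := fun e => h1 (by
    have := Nat.find_spec hex
    rw [e, zero_add, pow_one, hY, sub_eq_zero] at this
    exact Units.ext this)
  obtain ⟨n, hn⟩ := Nat.exists_eq_succ_of_ne_zero hn0
  have hz1 : Y ^ (n + 1) ≠ 0 := Nat.find_min hex (by omega)
  obtain ⟨w, hw⟩ : ∃ w, Y ^ (n + 1) *ᵥ w ≠ 0 := by
    by_contra hcon
    push Not at hcon
    exact hz1 (Matrix.ext_iff_mulVec.2 fun x => by rw [hcon, Matrix.zero_mulVec])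
  set z := Y ^ (n + 1) *ᵥ w with hz
  have hfix : (g : Matrix (Fin k) (Fin k) F) *ᵥ z = z := by
    have h0 := Nat.find_spec hex
    rw [hn] at h0
    rw [← sub_eq_zero]
    calc (g : Matrix (Fin k) (Fin k) F) *ᵥ z - z = Y *ᵥ z := by rw [hY, Matrix.sub_mulVec, Matrix.one_mulVec]
      _ = 0 := by rw [hz, Matrix.mulVec_mulVec, ← pow_succ', h0, Matrix.zero_mulVec]
  refine ⟨z, hw, ?_, hfix⟩
  set w' := Y ^ n *ᵥ w with hw'
  have e : z = (g : Matrix (Fin k) (Fin k) F) *ᵥ w' - w' := by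
    rw [hz, pow_succ', ← Matrix.mulVec_mulVec, ← hw', hY, Matrix.sub_mulVec, Matrix.one_mulVec]
  nth_rw 1 [e]
  rw [fd_sub_left]
  nth_rw 1 [← hfix]
  rw [hg w' z, sub_self]

lemma eich_sub_one_sq {w : Fin k → F} (hw : w ∈ Pp d u v) :
    (eich d u w - 1) * (eich d u w - 1) = (-fd d w w) • vd d u u := by
  rw [eich_frame hf, add_sub_assoc, add_sub_cancel_left]
  simp only [sub_mul, mul_sub, smul_mul_assoc, mul_smul_comm, nm_mul hf hw hw, nm_mul_z hf hw, z_mul_nm hf hw,
    z_mul_z hf, smul_zero, sub_zero]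

lemma eich_sub_one_cube {w : Fin k → F} (hw : w ∈ Pp d u v) :
    (eich d u w - 1) * ((eich d u w - 1) * (eich d u w - 1)) = 0 := by
  rw [eich_sub_one_sq hD hf hw, eich_frame hf, add_sub_assoc, add_sub_cancel_left, mul_smul_comm, sub_mul,
    smul_mul_assoc, nm_mul_z hf hw, z_mul_z hf, smul_zero, sub_zero, smul_zero]

end CfsgLib.Geo.TensorPow.O
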