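/-
The permutation part of a wreath element whose difference to the identity has cube zero has order dividing three.
-/
import Cfsg.Agent.Geo.TensorPow.O.Move

set_option autoImplicit false
set_option linter.unusedSectionVars false

namespace CfsgLib.Geo.TensorPow.O

open Matrix Cfsg.Geo CfsgLib.Aschbacher
open scoped MatrixGroups

variable {F : Type*} [Field F] [Fintype F] {t k : ℕ} [NeZero k] {d : Fin k → F}
  {y : GL (Fin t → Fin k) F} {a : Fin t → GL (Fin k) F} {σ : Equiv.Perm (Fin t)}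

lemma eq_one_of_pow (y : GL (Fin t → Fin k) F) {p : ℕ} (hp : p.Prime) (hp3 : 3 ≤ p) [CharP F p]
    (h3 : ((y : Mt t k F) - 1) * (((y : Mt t k F) - 1) * ((y : Mt t k F) - 1)) = 0) : y ^ p = 1 := by
  haveI := Fact.mk hp
  haveI : CharP (Mt t k F) p := inferInstance
  refine Units.ext ?_
  have e : ((y : Mt t k F) - 1) ^ 3 = 0 := by rw [pow_three, h3]
  have e' : ((y : Mt t k F) - 1) ^ p = 0 := pow_eq_zero_of_le hp3 e
  rw [sub_pow_char_of_commute p (Commute.one_right _), one_pow, sub_eq_zero] at e'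
  rw [Units.val_pow_eq_pow_val, e', Units.val_one]

variable (hy : (y : Mt t k F) = tens (fun l => (a l : Matrix (Fin k) (Fin k) F)) * permMat k σ)
include hy

lemma shape_mulVec (w : Fin t → Fin k → F) :
    (y : Mt t k F) *ᵥ pv w = pv fun l => (a l : Matrix (Fin k) (Fin k) F) *ᵥ w (σ.symm l) := by
  rw [hy, ← Matrix.mulVec_mulVec, permMat_mulVec_pv, tens_mulVec_pv]

lemma perm_cube (hk : 2 ≤ k) {p : ℕ} (hp : p.Prime) (hp3 : 3 ≤ p) [CharP F p]
    (h3 : ((y : Mt t k F) - 1) * (((y : Mt t k F) - 1) * ((y : Mt t k F) - 1)) = 0) (j : Fin t) :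
    σ (σ (σ j)) = j := by
  classical
  by_contra hne
  have hσp := perm_pow_eq_one hy hk (eq_one_of_pow y hp hp3 h3)
  have h1 : σ j ≠ j := fun e => hne (by rw [e, e, e])
  have h2 : σ (σ j) ≠ j := fun e => by
    obtain ⟨r, hr⟩ := (hp.eq_two_or_odd'.resolve_left (by omega)).exists_bit1
    have he : ∀ r : ℕ, (σ ^ (2 * r)) j = j := fun r => by
      induction r with
      | zero => simp
      | succ r ih =>
        rw [Nat.mul_succ, pow_add, Equiv.Perm.mul_apply, show (σ ^ 2) j = j by rw [pow_two]; exact e, ih]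
    have := hσp j
    rw [hr, pow_succ', Equiv.Perm.mul_apply, he] at this
    exact h1 this
  set l1 := σ j with hl1
  set l2 := σ l1 with hl2
  set l3 := σ l2 with hl3
  have h12 : l1 ≠ l2 := fun e => h1 (σ.injective (by rw [← hl1, ← hl2, e]))
  have h23 : l2 ≠ l3 := fun e => h12 (σ.injective (by rw [← hl2, ← hl3, e]))
  have h13 : l1 ≠ l3 := fun e => h2 (σ.injective (by rw [← hl3, ← hl1, e]))
  set e₀ : Fin k → F := Pi.single ⟨0, by omega⟩ 1
  have he₀ : e₀ ≠ 0 := by simp [e₀]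
  set i1 := (a l1 : Matrix (Fin k) (Fin k) F) *ᵥ e₀ with hi1
  set i2 := (a l2 : Matrix (Fin k) (Fin k) F) *ᵥ i1 with hi2
  set i3 := (a l3 : Matrix (Fin k) (Fin k) F) *ᵥ i2 with hi3
  obtain ⟨w1, hw1⟩ := exists_not_mem_span (F := F) hk i1
  obtain ⟨w2, hw2⟩ := exists_not_mem_span (F := F) hk i2
  obtain ⟨w3, hw3⟩ := exists_not_mem_span (F := F) hk i3
  obtain ⟨φ1, hφ1, hv1⟩ := exists_covector _ hw1
  obtain ⟨φ2, hφ2, hv2⟩ := exists_covector _ hw2
  obtain ⟨φ3, hφ3, hv3⟩ := exists_covector _ hw3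
  obtain ⟨φ0, hv0⟩ := Tensor.exists_dot_one he₀
  set w : Fin t → Fin k → F := fun l => if l = l1 then w1 else if l = l2 then w2 else if l = l3 then w3 else e₀
    with hw
  set ψ : Fin t → Fin k → F := fun l => if l = l1 then φ1 else if l = l2 then φ2 else if l = l3 then φ3 else φ0
    with hψ
  have hwj : w j = e₀ := by
    simp only [hw]; rw [if_neg h1.symm, if_neg h2.symm, if_neg (Ne.symm hne)]
  set y1 : Fin t → Fin k → F := fun l => (a l : Matrix (Fin k) (Fin k) F) *ᵥ w (σ.symm l) with hy1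
  set y2 : Fin t → Fin k → F := fun l => (a l : Matrix (Fin k) (Fin k) F) *ᵥ y1 (σ.symm l) with hy2
  set y3 : Fin t → Fin k → F := fun l => (a l : Matrix (Fin k) (Fin k) F) *ᵥ y2 (σ.symm l) with hy3
  have z1 : y1 l1 = i1 := by simp only [hy1, hl1, Equiv.symm_apply_apply, hwj]; rw [hi1, hl1]
  have z2 : y2 l2 = i2 := by simp only [hy2, hl2, Equiv.symm_apply_apply, z1]; rw [hi2, hl2]
  have z3 : y3 l3 = i3 := by simp only [hy3, hl3, Equiv.symm_apply_apply, z2]; rw [hi3, hl3]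
  have d0 : pv ψ ⬝ᵥ pv w = 1 := by
    rw [pv_dot]
    refine Finset.prod_eq_one fun l _ => ?_
    simp only [hψ, hw]
    split_ifs <;> assumption
  have d1 : pv ψ ⬝ᵥ pv y1 = 0 := by
    rw [pv_dot]
    refine Finset.prod_eq_zero (Finset.mem_univ l1) ?_
    rw [z1, show ψ l1 = φ1 by simp [hψ]]
    exact hφ1 _ (Submodule.mem_span_singleton_self _)
  have d2 : pv ψ ⬝ᵥ pv y2 = 0 := by
    rw [pv_dot]
    refine Finset.prod_eq_zero (Finset.mem_univ l2) ?_
    rw [z2, show ψ l2 = φ2 by simp [hψ, h12.symm]]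
    exact hφ2 _ (Submodule.mem_span_singleton_self _)
  have d3 : pv ψ ⬝ᵥ pv y3 = 0 := by
    rw [pv_dot]
    refine Finset.prod_eq_zero (Finset.mem_univ l3) ?_
    rw [z3, show ψ l3 = φ3 by simp [hψ, h13.symm, h23.symm]]
    exact hφ3 _ (Submodule.mem_span_singleton_self _)
  have e1 : (y : Mt t k F) *ᵥ pv w = pv y1 := shape_mulVec hy w
  have e2 : (y : Mt t k F) *ᵥ pv y1 = pv y2 := shape_mulVec hy y1
  have e3 : (y : Mt t k F) *ᵥ pv y2 = pv y3 := shape_mulVec hy y2
  have h0 := congrArg (fun Z => pv ψ ⬝ᵥ (Z *ᵥ pv w)) h3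
  simp only [← Matrix.mulVec_mulVec, Matrix.sub_mulVec, Matrix.one_mulVec, e1, Matrix.mulVec_sub, e2, e3,
    dotProduct_sub, d0, d1, d2, d3, Matrix.zero_mulVec, dotProduct_zero] at h0
  simp at h0

end CfsgLib.Geo.TensorPow.O
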