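/-
Lower bounds for the rank of a polynomial in a matrix of one factor and a nilpotent matrix of the others.
-/
import Cfsg.Agent.Geo.TensorPow.O.Cube

set_option autoImplicit false
set_option linter.unusedSectionVars false

namespace CfsgLib.Geo.TensorPow.O

open Matrix Cfsg.Geo CfsgLib.Aschbacher
open scoped MatrixGroups

variable {F : Type*} [Field F] [Fintype F] {t k : ℕ} [NeZero k] {d : Fin k → F}

/-- The diagonal projection on a set of coordinates. -/
def ds (s : Finset (Fin k)) : Matrix (Fin k) (Fin k) F := Matrix.diagonal fun p => if p ∈ s then 1 else 0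

lemma ds_mul_ds (s : Finset (Fin k)) : (ds s : Matrix (Fin k) (Fin k) F) * ds s = ds s := by
  rw [ds, Matrix.diagonal_mul_diagonal]
  congr 1
  funext p
  split_ifs <;> simp

lemma ds_mul_single {s : Finset (Fin k)} {r : Fin k} (hr : r ∉ s) (q : Fin k) :
    (ds s : Matrix (Fin k) (Fin k) F) * Matrix.single r q 1 = 0 := by
  ext a b
  rw [ds, Matrix.diagonal_mul, Matrix.single_apply, Matrix.zero_apply]
  split_ifs with h1 h2 <;> simp
  exact hr (h2.1 ▸ h1)

lemma single_mul_ds {s : Finset (Fin k)} {r : Fin k} (hr : r ∉ s) (q : Fin k) :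
    Matrix.single q r 1 * (ds s : Matrix (Fin k) (Fin k) F) = 0 := by
  ext a b
  rw [ds, Matrix.mul_diagonal, Matrix.single_apply, Matrix.zero_apply]
  split_ifs with h1 h2 <;> simp
  exact hr (h1.2 ▸ h2)

lemma ds_insert {s : Finset (Fin k)} {r : Fin k} (hr : r ∉ s) :
    (ds (insert r s) : Matrix (Fin k) (Fin k) F) = ds s + Matrix.single r r 1 := by
  ext a b
  rw [ds, ds, Matrix.add_apply, Matrix.diagonal_apply, Matrix.diagonal_apply, Matrix.single_apply]
  by_cases hab : a = b
  · subst hab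
    by_cases har : r = a
    · subst har; simp [hr]
    · simp [har, Ne.symm har]
  · rw [if_neg hab, if_neg hab, if_neg fun h => hab (h.1.symm.trans h.2), add_zero]

lemma ds_singleton (r : Fin k) : (ds {r} : Matrix (Fin k) (Fin k) F) = Matrix.single r r 1 := by
  rw [show ({r} : Finset (Fin k)) = insert r ∅ from rfl, ds_insert (by simp)]
  simp [ds]

lemma eq_ds_of_apply {s : Finset (Fin k)} {X : Matrix (Fin k) (Fin k) F}
    (h : ∀ a b, X a b = if a = b ∧ a ∈ s then 1 else 0) : X = ds s := by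
  ext a b
  rw [h, ds, Matrix.diagonal_apply]
  by_cases hab : a = b <;> simp [hab]

/-- A matrix of rows. -/
def rowsM (Ψ : Fin k → Fin k → F) : Matrix (Fin k) (Fin k) F := Matrix.of Ψ

/-- A matrix of columns. -/
def colsM (R : Fin k → Fin k → F) : Matrix (Fin k) (Fin k) F := (Matrix.of R)ᵀ

lemma rows_cols (Ψ R : Fin k → Fin k → F) (X : Matrix (Fin k) (Fin k) F) (a b : Fin k) :
    (rowsM Ψ * X * colsM R) a b = Ψ a ⬝ᵥ X *ᵥ R b := by
  rw [mul_assoc, Matrix.mul_apply, dotProduct]
  rfl

lemma rows_cols_one (Ψ R : Fin k → Fin k → F) (a b : Fin k) : (rowsM Ψ * colsM R) a b = Ψ a ⬝ᵥ R b := by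
  rw [← mul_one (rowsM Ψ), rows_cols, Matrix.one_mulVec]

lemma rank_slot_swap (i j : Fin t) (X : Matrix (Fin k) (Fin k) F) :
    (slot i X : Mt t k F).rank = (slot j X : Mt t k F).rank := by
  have e : cj (permUnit k (Equiv.swap i j)) (slot i X : Mt t k F) = slot j X := by
    show permMat k (Equiv.swap i j) * slot i X * _ = _
    rw [permMat_mul_slot, Equiv.swap_apply_left, mul_assoc]
    show slot j X * (((permUnit k (Equiv.swap i j) : GL (Fin t → Fin k) F) : Mt t k F) * _) = _
    rw [Units.mul_inv, mul_one]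
  rw [← e, rank_cj]

lemma rank_slot_le (i : Fin t) (L X R : Matrix (Fin k) (Fin k) F) :
    (slot i (L * X * R) : Mt t k F).rank ≤ (slot i X : Mt t k F).rank := by
  rw [← slot_mul, ← slot_mul]
  exact rank_conj_le _ _ _

lemma com_ne_zero (j : Fin t) (r : Fin k) {Q : Mt t k F} (hQ : Com j Q) (h : Q ≠ 0) : eu j r r * Q ≠ 0 :=
  fun e => h (eu_mul_eq_zero hQ e)

lemma sand {j : Fin t} {T : Mt t k F} (hT : Com j T) (L X R : Matrix (Fin k) (Fin k) F) :
    slot j L * (slot j X * T) * slot j R = slot j (L * X * R) * T := by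
  rw [← mul_assoc, com_slotmul hT, slot_mul, slot_mul]

lemma rank_gt {j : Fin t} {s : Finset (Fin k)} {r : Fin k} (hr : r ∉ s) {C : Mt t k F} (hC : IsUnit C)
    (hCs : C * slot j (ds s) = slot j (ds s) * C) {Q : Mt t k F} (hQ : Com j Q) (hQ0 : Q ≠ 0) :
    (slot j (ds s) : Mt t k F).rank < (slot j (ds s) * C + eu j r r * Q).rank := by
  obtain ⟨U, rfl⟩ := hC
  refine rank_lt_add (C' := ((U⁻¹ : (Mt t k F)ˣ) : Mt t k F)) (by rw [slot_mul, ds_mul_ds]) ?_ ?_
    (com_ne_zero j r hQ hQ0) hCs (Units.mul_inv U)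
  · rw [← mul_assoc, eu, slot_mul, ds_mul_single hr, slot_zero, zero_mul]
  · rw [mul_assoc, ← hQ.slot_comm, ← mul_assoc, eu, slot_mul, single_mul_ds hr, slot_zero, zero_mul]

lemma rank_lt_insert (j : Fin t) {s : Finset (Fin k)} {r : Fin k} (hr : r ∉ s) :
    (slot j (ds s) : Mt t k F).rank < (slot j (ds (insert r s)) : Mt t k F).rank := by
  have h := rank_gt (F := F) (j := j) hr isUnit_one (by rw [one_mul, mul_one]) (com_one j) one_ne_zero
  rwa [mul_one, mul_one, eu, ← slot_add, ← ds_insert hr] at h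

lemma sq_expand {α : Type*} [Ring α] {X T B : α} (h1 : T * X = X * T) (h2 : B * X = X * B) (h3 : B * T = T * B) :
    (X * T + B) * (X * T + B) = X * X * (T * T) + X * (T * B + T * B) + B * B := by
  have l1 : ∀ z, T * (X * z) = X * (T * z) := fun z => by rw [← mul_assoc, h1, mul_assoc]
  have l2 : ∀ z, B * (X * z) = X * (B * z) := fun z => by rw [← mul_assoc, h2, mul_assoc]
  simp only [mul_add, add_mul, mul_assoc, l1, l2, h1, h2, h3]
  abel

lemma isUnit_one_add_mul {B T : Mt t k F} (hB : IsNilpotent B) (h : Commute B T) : IsUnit (1 + B * T) :=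
  IsNilpotent.isUnit_one_add (h.isNilpotent_mul_right hB)

lemma rank_sq_gt {j : Fin t} {A : Matrix (Fin k) (Fin k) F} {B' : Mt t k F} (hB : Com j B') (hn : IsNilpotent B')
    (hB0 : B' * B' ≠ 0) {L R : Matrix (Fin k) (Fin k) F} {p r : Fin k} (hpr : r ≠ p) {c c₀ : F}
    (h2 : L * (A * A) * R = ds {p}) (h1 : L * A * R = c • ds {p})
    (h0 : L * R = c₀ • ds {p} + Matrix.single r r 1) :
    (slot j (ds {p}) : Mt t k F).rank < ((slot j A * (1 + B') + B') * (slot j A * (1 + B') + B')).rank := by
  obtain ⟨T, hT⟩ : ∃ T : Mt t k F, T = 1 + B' := ⟨_, rfl⟩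
  rw [← hT]
  have hTc : Com j T := hT ▸ (com_one j).add hB
  have hTB : T * B' = B' * T := by rw [hT, add_mul, mul_add, one_mul, mul_one]
  have e : (slot j A * T + B') * (slot j A * T + B') =
      slot j (A * A) * (T * T) + slot j A * ((2 : F) • (T * B')) + slot j (1 : Matrix (Fin k) (Fin k) F) * (B' * B') := by
    rw [sq_expand (hTc.slot_comm A).symm (hB.slot_comm A).symm hTB.symm, slot_mul, slot_one, one_mul, two_smul]
  set C : Mt t k F := T * T + c • ((2 : F) • (T * B')) + c₀ • (B' * B') with hC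
  have key : slot j L * ((slot j A * T + B') * (slot j A * T + B')) * slot j R =
      slot j (ds {p}) * C + eu j r r * (B' * B') := by
    rw [e, mul_add, mul_add, add_mul, add_mul, sand (hTc.mul hTc), sand ((hTc.mul hB).smul _), sand (hB.mul hB),
      mul_one, h2, h1, h0, hC, slot_add, slot_smul, slot_smul, smul_mul_assoc, add_mul, smul_mul_assoc, mul_add,
      mul_add, mul_smul_comm (c : F), mul_smul_comm (c₀ : F), eu]
    abel
  have hCs : C * slot j (ds {p}) = slot j (ds {p}) * C := by
    have hcom : Com j C := (((hTc.mul hTc).add (((hTc.mul hB).smul _).smul _)).add ((hB.mul hB).smul _))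
    exact (hcom.slot_comm _).symm
  have hCu : IsUnit C := by
    rw [show C = 1 + B' * ((2 : F) • 1 + B' + c • ((2 : F) • T) + c₀ • B') by
      rw [hC]; simp only [mul_add, mul_smul_comm, mul_one, hTB]; rw [hT]; simp only [add_mul, mul_add, one_mul, mul_one]
      rw [two_smul F B']; abel]
    refine isUnit_one_add_mul hn ?_
    have hBT : Commute B' T := hTB.symm
    exact ((((Commute.one_right B').smul_right (2 : F)).add_right (Commute.refl B')).add_right
      ((hBT.smul_right (2 : F)).smul_right c)).add_right ((Commute.refl B').smul_right c₀)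
  exact (rank_gt (by simpa using hpr) hCu hCs (hB.mul hB) hB0).trans_le (key ▸ rank_conj_le _ _ _)

lemma rank_lin_gt {j : Fin t} {A : Matrix (Fin k) (Fin k) F} {B : Mt t k F} (hB : Com j B) (hn : IsNilpotent B)
    {L R W : Matrix (Fin k) (Fin k) F} {s : Finset (Fin k)} (hW : W * ds s = W) (hW' : ds s * W = W)
    (h1 : L * A * R = ds s) :
    (∀ r, r ∉ s → L * R = W + Matrix.single r r 1 → B ≠ 0 →
      (slot j (ds s) : Mt t k F).rank < (slot j A * (1 + B) + B).rank) ∧
    (L * R = W → (slot j (ds s) : Mt t k F).rank ≤ (slot j A * (1 + B) + B).rank) := by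
  set C : Mt t k F := 1 + B * (1 + slot j W) with hC
  have hcW : B * slot j W = slot j W * B := (hB.slot_comm W).symm
  have hCu : IsUnit C := isUnit_one_add_mul hn ((Commute.one_right _).add_right hcW)
  have hCs : C * slot j (ds s) = slot j (ds s) * C := by
    have hP : Commute (slot j (ds s) : Mt t k F) (slot j W) := by
      show _ * _ = _ * _
      rw [slot_mul, slot_mul, hW, hW']
    have hPB : Commute (slot j (ds s) : Mt t k F) B := hB.slot_comm _
    exact ((Commute.one_right (slot j (ds s) : Mt t k F)).add_right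
      (hPB.mul_right ((Commute.one_right (slot j (ds s) : Mt t k F)).add_right hP))).symm
  have key : ∀ X : Matrix (Fin k) (Fin k) F, L * R = W + X →
      slot j L * (slot j A * (1 + B) + B) * slot j R = slot j (ds s) * C + slot j X * B := by
    intro X hX
    rw [mul_add, add_mul, sand ((com_one j).add hB),
      show slot j L * B * slot j R = slot j L * (slot j (1 : Matrix (Fin k) (Fin k) F) * B) * slot j R by
        rw [slot_one, one_mul],
      sand hB, mul_one, h1, hX, hC, slot_add, add_mul, mul_add B, mul_one, hcW, mul_add, mul_add, mul_add, mul_one,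
      ← mul_assoc (slot j (ds s)) (slot j W), slot_mul, hW']
    abel
  refine ⟨fun r hr hLR hB0 => ?_, fun hLR => ?_⟩
  · exact (rank_gt hr hCu hCs hB hB0).trans_le (by rw [eu, ← key _ hLR]; exact rank_conj_le _ _ _)
  · have e := key 0 (by rw [hLR, add_zero])
    rw [slot_zero, zero_mul, add_zero] at e
    obtain ⟨U, hU⟩ := hCu
    refine le_trans ?_ ((le_of_eq (by rw [e])).trans (rank_conj_le (slot j L) (slot j R) _))
    calc (slot j (ds s) : Mt t k F).rank = (slot j (ds s) * C * ((U⁻¹ : (Mt t k F)ˣ) : Mt t k F)).rank := by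
          rw [mul_assoc, ← hU, Units.mul_inv, mul_one]
      _ ≤ _ := Matrix.rank_mul_le_left _ _

lemma cube_ne_zero {j : Fin t} {A : Matrix (Fin k) (Fin k) F} {B : Mt t k F} (hB : Com j B) (hn : IsNilpotent B)
    (hA : A * (A * A) ≠ 0) : (slot j A * (1 + B) + B) * ((slot j A * (1 + B) + B) * (slot j A * (1 + B) + B)) ≠ 0 := by
  classical
  intro h0
  obtain ⟨a, b, hab⟩ : ∃ a b, (A * (A * A)) a b ≠ 0 := by
    by_contra hc; push Not at hc; exact hA (Matrix.ext hc)
  set T := (1 + B) with hT
  have hTc : Com j T := (com_one j).add hB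
  have hTX : ∀ X, T * slot j X = slot j X * T := fun X => (hTc.slot_comm X).symm
  set w := slot j A * T with hw
  have hwB : w * B = B * w := by
    rw [hw, mul_assoc, show T * B = B * T by rw [hT, mul_add, add_mul, mul_one, one_mul], ← mul_assoc,
      hB.slot_comm, mul_assoc]
  obtain ⟨v, hv⟩ : ∃ v : Mt t k F, v = w := ⟨_, rfl⟩
  obtain ⟨W, hW⟩ : ∃ W, (w + B) * ((w + B) * (w + B)) = w * (w * w) + B * W := by
    refine ⟨w * w + w * (w + w + B) + B * (w + w + B), ?_⟩
    rw [← hv] at hwB ⊢
    have e : (v + B) * (v + B) = v * v + B * (v + v + B) := by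
      simp only [add_mul, mul_add, hwB]; abel
    have l : ∀ z, v * (B * z) = B * (v * z) := fun z => by rw [← mul_assoc, hwB, mul_assoc]
    rw [e]
    simp only [add_mul, mul_add, l, hwB, ← add_assoc]
    abel
  have hw3 : w * (w * w) = slot j (A * (A * A)) * (T * (T * T)) := by
    rw [hw, ← slot_mul, ← slot_mul]
    simp only [mul_assoc]
    rw [← mul_assoc T (slot j A), hTX, mul_assoc (slot j A) T, ← mul_assoc T (slot j A), hTX,
      mul_assoc (slot j A) T, ← mul_assoc T (slot j A), hTX, mul_assoc (slot j A) T]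
  have hTu : IsUnit (T * (T * T)) := by
    have : IsUnit T := IsNilpotent.isUnit_one_add hn
    exact this.mul (this.mul this)
  obtain ⟨U, hU⟩ := hTu
  set L : Matrix (Fin k) (Fin k) F := Matrix.single a a 1 with hL
  set R : Matrix (Fin k) (Fin k) F := Matrix.single b a ((A * (A * A)) a b)⁻¹ with hR
  have hLR : L * (A * (A * A)) * R = Matrix.single a a 1 := by
    rw [hL, hR, Matrix.single_mul_mul_single, one_mul, mul_inv_cancel₀ hab]
  set Z : Mt t k F := slot j L * (-(W * ((U⁻¹ : (Mt t k F)ˣ) : Mt t k F))) * slot j R with hZ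
  have he : (eu j a a : Mt t k F) = B * Z := by
    have e : slot j (A * (A * A)) = B * -(W * ((U⁻¹ : (Mt t k F)ˣ) : Mt t k F)) := by
      rw [← mul_one (slot j (A * (A * A))), ← Units.mul_inv U, ← mul_assoc, hU, ← hw3,
        eq_neg_of_add_eq_zero_left (hW.symm.trans h0), neg_mul, mul_neg, mul_assoc]
    rw [hZ, ← mul_assoc, ← mul_assoc B, ← hB.slot_comm, mul_assoc (slot j L) B, ← e, slot_mul, slot_mul, hLR, eu]
  have hpow : ∀ n : ℕ, ∃ Z', (eu j a a : Mt t k F) = B ^ (n + 1) * Z' := by
    intro n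
    induction n with
    | zero => exact ⟨Z, by rw [pow_one, he]⟩
    | succ n ih =>
      obtain ⟨Z', hZ'⟩ := ih
      refine ⟨Z' * Z, ?_⟩
      calc (eu j a a : Mt t k F) = eu j a a * eu j a a := (eu_mul j a a a).symm
        _ = eu j a a * (B * Z) := by rw [← he]
        _ = B * eu j a a * Z := by rw [← mul_assoc, hB a a]
        _ = _ := by rw [hZ', pow_succ' B (n + 1)]; simp only [mul_assoc]
  obtain ⟨n, hn'⟩ := hn
  obtain ⟨Z', hZ'⟩ := hpow n
  rw [pow_succ, hn', zero_mul, zero_mul] at hZ'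
  exact one_ne_zero (α := Mt t k F) (eu_mul_eq_zero (com_one j) (by rw [mul_one]; exact hZ'))

end CfsgLib.Geo.TensorPow.O
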