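/-
Normal forms for a unipotent wreath element; in dimension at least four a three cycle of factors has too large rank.
-/
import Cfsg.Agent.Geo.TensorPow.O.Block

set_option autoImplicit false
set_option linter.unusedSectionVars false

namespace CfsgLib.Geo.TensorPow.O

open Matrix Cfsg.Geo CfsgLib.Aschbacher
open scoped MatrixGroups

variable {F : Type*} [Field F] [Fintype F] {t k : ℕ} [NeZero k]
  {y : GL (Fin t → Fin k) F} {a : Fin t → GL (Fin k) F} {σ : Equiv.Perm (Fin t)}

lemma conj_shape (hy : (y : Mt t k F) = tens (fun l => (a l : Matrix (Fin k) (Fin k) F)) * permMat k σ)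
    (P : Fin t → GL (Fin k) F) :
    (((tensUnit P)⁻¹ * y * tensUnit P : GL (Fin t → Fin k) F) : Mt t k F) =
      tens (fun l => (((P l)⁻¹ * a l * P (σ.symm l) : GL (Fin k) F) : Matrix (Fin k) (Fin k) F)) * permMat k σ := by
  rw [Units.val_mul, Units.val_mul, hy]
  show tens (fun l => (((P l)⁻¹ : GL (Fin k) F) : Matrix (Fin k) (Fin k) F)) * (tens _ * permMat k σ) *
    tens (fun l => (P l : Matrix (Fin k) (Fin k) F)) = _
  rw [← mul_assoc, tens_mul, mul_assoc, permMat_mul_tens, ← mul_assoc, tens_mul]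
  simp only [Units.val_mul]

lemma shape_apply (hy : (y : Mt t k F) = tens (fun l => (a l : Matrix (Fin k) (Fin k) F)) * permMat k σ)
    (x z : Fin t → Fin k) : (y : Mt t k F) x z = ∏ l, (a l : Matrix (Fin k) (Fin k) F) (x l) (z (σ.symm l)) := by
  rw [hy, mul_permMat_apply]
  rfl

/-- An injection of the pairs into the representatives of the rotations of triples. -/
def tripleRep (k q r : ℕ) : ℕ × ℕ × ℕ :=
  if q < r then (q, r, r) else if r < q then (r, q, r) else if q = 0 then (0, 1, 2)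
  else if q + 1 < k then (0, q + 1, 1) else (0, 1, 3)

lemma card_lt_reps (hk : 4 ≤ k) {j j1 j2 : Fin t} (h1 : j1 ≠ j) (h2 : j2 ≠ j) (h12 : j1 ≠ j2) (b : Fin k) :
    (Finset.univ.filter fun x : Fin t → Fin k => x j = b).card <
      (Finset.univ.filter fun x : Fin t → Fin k => x j < x j1 ∧ x j ≤ x j2).card := by
  classical
  have hT : ∀ q r : Fin k, ∀ n, n = tripleRep k q r →
      n.1 < k ∧ n.2.1 < k ∧ n.2.2 < k ∧ n.1 < n.2.1 ∧ n.1 ≤ n.2.2 := by
    intro q r n hn
    have := q.isLt; have := r.isLt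
    subst hn
    unfold tripleRep
    split_ifs <;> simp <;> omega
  let f : (Fin t → Fin k) → (Fin t → Fin k) := fun x =>
    Function.update (Function.update (Function.update x j ⟨(tripleRep k (x j1) (x j2)).1, (hT _ _ _ rfl).1⟩)
      j1 ⟨(tripleRep k (x j1) (x j2)).2.1, (hT _ _ _ rfl).2.1⟩)
      j2 ⟨(tripleRep k (x j1) (x j2)).2.2, (hT _ _ _ rfl).2.2.1⟩
  have hf : ∀ x, (f x j : ℕ) = (tripleRep k (x j1) (x j2)).1 ∧ (f x j1 : ℕ) = (tripleRep k (x j1) (x j2)).2.1 ∧
      (f x j2 : ℕ) = (tripleRep k (x j1) (x j2)).2.2 := fun x => by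
    simp [f, Function.update_of_ne h2.symm, Function.update_of_ne h1.symm, Function.update_of_ne h12]
  set A := Finset.univ.filter fun x : Fin t → Fin k => x j = b with hA
  set B := Finset.univ.filter fun x : Fin t → Fin k => x j < x j1 ∧ x j ≤ x j2 with hB
  have himg : A.image f ⊆ B := fun z hz => by
    obtain ⟨x, -, rfl⟩ := Finset.mem_image.1 hz
    obtain ⟨e0, e1, e2⟩ := hf x
    have := (hT (x j1) (x j2) _ rfl).2.2.2
    simp only [hB, Finset.mem_filter, Finset.mem_univ, true_and, Fin.lt_def, Fin.le_def]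
    omega
  have hcard : (A.image f).card = A.card := Finset.card_image_of_injOn fun x hx z hz h => by
    simp only [hA, Finset.coe_filter, Finset.mem_univ, true_and, Set.mem_ofPred_eq] at hx hz
    obtain ⟨e0, e1, e2⟩ := hf x
    obtain ⟨g0, g1, g2⟩ := hf z
    rw [h, g0] at e0
    rw [h, g1] at e1
    rw [h, g2] at e2
    have := (x j1).isLt; have := (x j2).isLt; have := (z j1).isLt; have := (z j2).isLt
    have hq : (x j1 : ℕ) = z j1 ∧ (x j2 : ℕ) = z j2 := by
      unfold tripleRep at e0 e1 e2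
      split_ifs at e0 e1 e2 <;> dsimp only at e0 e1 e2 <;> omega
    funext l
    rcases eq_or_ne l j with rfl | hlj
    · rw [hx, hz]
    rcases eq_or_ne l j1 with rfl | hl1
    · exact Fin.ext hq.1
    rcases eq_or_ne l j2 with rfl | hl2
    · exact Fin.ext hq.2
    · simpa [f, Function.update_of_ne hlj, Function.update_of_ne hl1, Function.update_of_ne hl2] using congrFun h l
  refine hcard ▸ Finset.card_lt_card ⟨himg, fun hsub => ?_⟩
  let z : Fin t → Fin k := fun l => if l = j then ⟨0, by omega⟩ else if l = j1 then ⟨2, by omega⟩ else ⟨3, by omega⟩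
  have z0 : (z j : ℕ) = 0 := by simp [z]
  have z1 : (z j1 : ℕ) = 2 := by simp [z, h1]
  have z2 : (z j2 : ℕ) = 3 := by simp [z, h2, h12.symm]
  obtain ⟨x, -, hx⟩ := Finset.mem_image.1 (hsub (show z ∈ B from by
    simp only [hB, Finset.mem_filter, Finset.mem_univ, true_and, Fin.lt_def, Fin.le_def]; omega))
  obtain ⟨e0, e1, e2⟩ := hf x
  rw [hx, z0] at e0
  rw [hx, z1] at e1
  rw [hx, z2] at e2
  have := (x j1).isLt; have := (x j2).isLt
  unfold tripleRep at e0 e1 e2
  split_ifs at e0 e1 e2 <;> simp at e0 e1 e2 <;> omega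

/-- Small rank of the square of the difference to the identity forces a trivial permutation. -/
lemma perm_trivial (hy : (y : Mt t k F) = tens (fun l => (a l : Matrix (Fin k) (Fin k) F)) * permMat k σ)
    (hk : 4 ≤ k) {p : ℕ} (hp : p.Prime) (hp3 : 3 ≤ p) [CharP F p]
    (h3 : ((y : Mt t k F) - 1) * (((y : Mt t k F) - 1) * ((y : Mt t k F) - 1)) = 0) {i : Fin t} {b : Fin k}
    (hrk : (((y : Mt t k F) - 1) * ((y : Mt t k F) - 1)).rank ≤ (slot i (ds {b}) : Mt t k F).rank) (j : Fin t) :
    σ j = j := by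
  classical
  by_contra hne
  have hk2 : 2 ≤ k := by omega
  have hc3 := perm_cube hy hk2 hp hp3 h3 j
  have hone := eq_one_of_pow y hp hp3 h3
  set j1 := σ j with hj1
  set j2 := σ j1 with hj2
  have h1 : j1 ≠ j := hne
  have h2 : j2 ≠ j := fun e => h1 (by rw [e] at hc3; exact hc3)
  have h12 : j1 ≠ j2 := fun e => h1 (σ.injective (by rw [← hj2]; exact e.symm))
  obtain rfl : p = 3 := by
    have h := perm_pow_eq_one hy hk2 hone j
    have hit : ∀ r : ℕ, (σ ^ (3 * r)) j = j := fun r => by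
      induction r with
      | zero => simp
      | succ r ih =>
        rw [Nat.mul_succ, pow_add, Equiv.Perm.mul_apply, show (σ ^ 3) j = j from ?_, ih]
        rw [show (σ ^ 3) = σ * σ * σ by rw [pow_succ, pow_succ, pow_one]]
        exact hc3
    by_contra hp'
    have hm : p % 3 ≠ 0 := fun e =>
      hp' ((Nat.prime_dvd_prime_iff_eq Nat.prime_three hp).1 (Nat.dvd_of_mod_eq_zero e)).symm
    rw [show p = p % 3 + 3 * (p / 3) from (Nat.mod_add_div p 3).symm, pow_add, Equiv.Perm.mul_apply, hit] at h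
    rcases (show p % 3 = 1 ∨ p % 3 = 2 by omega) with e | e <;> rw [e] at h
    · exact h1 (by simpa using h)
    · exact h2 h
  obtain ⟨c, hc⟩ := triple_scalar hy hone hc3
  set P : Fin t → GL (Fin k) F := fun l => if l = j1 then a j1 else if l = j2 then a j2 * a j1 else 1 with hP
  set y' := (tensUnit P)⁻¹ * y * tensUnit P with hy'
  set a' : Fin t → GL (Fin k) F := fun l => (P l)⁻¹ * a l * P (σ.symm l) with ha'
  have hy'v : (y' : Mt t k F) = tens (fun l => (a' l : Matrix (Fin k) (Fin k) F)) * permMat k σ := conj_shape hy P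
  have s1 : σ.symm j1 = j := by rw [hj1, Equiv.symm_apply_apply]
  have s2 : σ.symm j2 = j1 := by rw [hj2, Equiv.symm_apply_apply]
  have s0 : σ.symm j = j2 := σ.symm_apply_eq.2 hc3.symm
  have e1 : a' j1 = 1 := by simp [ha', s1, hP, h1.symm, h2.symm]
  have e2 : a' j2 = 1 := by simp [ha', s2, hP, h12.symm, mul_assoc]
  have e0 : (a' j : Matrix (Fin k) (Fin k) F) = c • 1 := by
    rw [← hc]
    show _ = ((a j * a j2 * a j1 : GL (Fin k) F) : Matrix (Fin k) (Fin k) F)
    simp [ha', s0, hP, h1.symm, h2.symm, h12.symm, mul_assoc]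
  have hrot : ∀ x z, (y' : Mt t k F) x z ≠ 0 → z j = x j1 ∧ z j1 = x j2 ∧ z j2 = x j := by
    intro x z h
    rw [shape_apply hy'v, Finset.prod_ne_zero_iff] at h
    refine ⟨?_, ?_, ?_⟩
    · have := h j1 (Finset.mem_univ _)
      rw [e1, s1, Units.val_one, Matrix.one_apply] at this
      by_contra hcon; exact this (if_neg (Ne.symm hcon))
    · have := h j2 (Finset.mem_univ _)
      rw [e2, s2, Units.val_one, Matrix.one_apply] at this
      by_contra hcon; exact this (if_neg (Ne.symm hcon))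
    · have := h j (Finset.mem_univ _)
      rw [e0, s0, Matrix.smul_apply, Matrix.one_apply] at this
      by_contra hcon; exact this (by rw [if_neg (Ne.symm hcon), smul_zero])
  set Pr : Mt t k F := proj fun x => x j < x j1 ∧ x j ≤ x j2 with hPr
  have hentry : ∀ (X : Mt t k F) x z, (Pr * X * Pr) x z =
      (if x j < x j1 ∧ x j ≤ x j2 then 1 else 0) * X x z * (if z j < z j1 ∧ z j ≤ z j2 then 1 else 0) := fun X x z => by
    rw [hPr, proj, Matrix.mul_diagonal, Matrix.diagonal_mul]
    congr 1 <;> first | (congr 1; by_cases h : x j < x j1 ∧ x j ≤ x j2 <;> simp [h]) |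
      (by_cases h : z j < z j1 ∧ z j ≤ z j2 <;> simp [h])
  have hz1 : Pr * (y' : Mt t k F) * Pr = 0 := Matrix.ext fun x z => by
    rw [hentry, Matrix.zero_apply]
    by_cases hx : x j < x j1 ∧ x j ≤ x j2
    swap; · rw [if_neg hx, zero_mul, zero_mul]
    by_cases hz : z j < z j1 ∧ z j ≤ z j2
    swap; · rw [if_neg hz, mul_zero]
    by_contra h
    obtain ⟨r0, r1, r2⟩ := hrot x z (fun e => h (by rw [e, mul_zero, zero_mul]))
    rw [r0, r1, r2] at hz
    simp only [Fin.lt_def, Fin.le_def] at hx hz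
    omega
  have hz2 : Pr * ((y' : Mt t k F) * (y' : Mt t k F)) * Pr = 0 := Matrix.ext fun x z => by
    rw [hentry, Matrix.zero_apply]
    by_cases hx : x j < x j1 ∧ x j ≤ x j2
    swap; · rw [if_neg hx, zero_mul, zero_mul]
    by_cases hz : z j < z j1 ∧ z j ≤ z j2
    swap; · rw [if_neg hz, mul_zero]
    by_contra h
    have h' : ((y' : Mt t k F) * (y' : Mt t k F)) x z ≠ 0 := fun e => h (by rw [e, mul_zero, zero_mul])
    rw [Matrix.mul_apply] at h'
    obtain ⟨w, -, hw⟩ := Finset.exists_ne_zero_of_sum_ne_zero h'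
    obtain ⟨hw1, hw2⟩ := mul_ne_zero_iff.1 hw
    obtain ⟨r0, r1, r2⟩ := hrot x w hw1
    obtain ⟨q0, q1, q2⟩ := hrot w z hw2
    rw [q0, q1, q2, r0, r1, r2] at hz
    simp only [Fin.lt_def, Fin.le_def] at hx hz
    omega
  have hthree : (3 : F) = 0 := by exact_mod_cast CharP.cast_eq_zero F 3
  have hsq : ((y' : Mt t k F) - 1) * ((y' : Mt t k F) - 1) =
      (y' : Mt t k F) * (y' : Mt t k F) + (y' : Mt t k F) + 1 := by
    have h : (3 : F) • (y' : Mt t k F) = 0 := by rw [hthree, zero_smul]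
    rw [sub_mul, mul_sub, mul_sub, one_mul, mul_one, one_mul]
    rw [show (3 : F) • (y' : Mt t k F) = (y' : Mt t k F) + y' + y' by module] at h
    rw [eq_comm, ← sub_eq_zero]
    rw [← h]
    abel
  have hblock : Pr * (((y' : Mt t k F) - 1) * ((y' : Mt t k F) - 1)) * Pr = Pr := by
    rw [hsq, mul_add, mul_add, add_mul, add_mul, hz1, hz2, zero_add, zero_add, mul_one, hPr, proj,
      Matrix.diagonal_mul_diagonal]
    congr 1
    funext x
    split_ifs <;> simp
  have hconj : cj (tensUnit P)⁻¹ (((y : Mt t k F) - 1) * ((y : Mt t k F) - 1)) =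
      ((y' : Mt t k F) - 1) * ((y' : Mt t k F) - 1) := by
    rw [cj_mul, cj_sub, cj_one, cj, inv_inv, hy', Units.val_mul, Units.val_mul]
  have hle := rank_conj_le Pr Pr (((y' : Mt t k F) - 1) * ((y' : Mt t k F) - 1))
  rw [hblock] at hle
  have hc' := card_lt_reps hk h1 h2 h12 b
  rw [← hconj, rank_cj] at hle
  rw [rank_slot_swap i j, ds_singleton] at hrk
  rw [← rank_eu_self (F := F), ← rank_proj (F := F)] at hc'
  rw [← hPr] at hc'
  exact lt_irrefl _ (hc'.trans_le (hle.trans hrk))

end CfsgLib.Geo.TensorPow.O
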