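/-
In dimension at least four a wreath element of the type of an Eichler element lives on one factor.
-/
import Cfsg.Agent.Geo.TensorPow.O.Orbit

set_option autoImplicit false
set_option linter.unusedSectionVars false

namespace CfsgLib.Geo.TensorPow.O

open Matrix Cfsg.Geo CfsgLib.Aschbacher
open scoped MatrixGroups

variable {F : Type*} [Field F] [Fintype F] {t k : ℕ} [NeZero k] {d u v : Fin k → F}

lemma eq_block {s : Finset (Fin k)} {r : Fin k} (hr : r ∉ s) {X : Matrix (Fin k) (Fin k) F}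
    (h : ∀ a b, ¬ (a ∈ s ∧ b ∈ s) → X a b = if a = r ∧ b = r then 1 else 0) :
    X = ds s * X * ds s + Matrix.single r r 1 := by
  ext a b
  rw [Matrix.add_apply, ds, Matrix.mul_diagonal, Matrix.diagonal_mul, Matrix.single_apply]
  by_cases hab : a ∈ s ∧ b ∈ s
  · have : ¬ (r = a ∧ r = b) := fun e => hr (e.1 ▸ hab.1)
    simp [hab.1, hab.2, this]
  · rw [h a b hab]
    rcases not_and_or.1 hab with ha | hb
    · simp [ha, eq_comm]
    · simp [hb, eq_comm]

lemma eq_inside {s : Finset (Fin k)} {X : Matrix (Fin k) (Fin k) F}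
    (h : ∀ a b, ¬ (a ∈ s ∧ b ∈ s) → X a b = 0) : X = ds s * X * ds s := by
  ext a b
  rw [ds, Matrix.mul_diagonal, Matrix.diagonal_mul]
  by_cases hab : a ∈ s ∧ b ∈ s
  · simp [hab.1, hab.2]
  · rw [h a b hab]; simp

lemma block_left (s : Finset (Fin k)) (X : Matrix (Fin k) (Fin k) F) :
    ds s * X * ds s * ds s = ds s * X * ds s ∧ ds s * (ds s * X * ds s) = ds s * X * ds s := by
  constructor
  · rw [mul_assoc _ (ds s), ds_mul_ds]
  · rw [← mul_assoc, ← mul_assoc, ds_mul_ds]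

/-- A vector in the kernel and outside a cyclic subspace of length three. -/
lemma exists_split (hk : 4 ≤ k) {A : Matrix (Fin k) (Fin k) F} (h3 : A * (A * A) = 0) {φ r : Fin k → F}
    (h : φ ⬝ᵥ (A * A) *ᵥ r = 1) :
    ∃ r0 ψ : Fin k → F, A *ᵥ r0 = 0 ∧ φ ⬝ᵥ r0 = 0 ∧ ψ ⬝ᵥ r0 = 1 ∧ ψ ⬝ᵥ r = 0 ∧ ψ ⬝ᵥ A *ᵥ r = 0 ∧
      ψ ⬝ᵥ (A * A) *ᵥ r = 0 := by
  classical
  set f : Matrix (Fin 3) (Fin k) F := Matrix.of ![φ, φ ᵥ* A, φ ᵥ* (A * A)] with hf
  obtain ⟨w, hw, hw0⟩ : ∃ w ∈ LinearMap.ker f.mulVecLin, w ≠ 0 := by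
    refine Submodule.exists_mem_ne_zero_of_ne_bot fun hb => ?_
    have h1 := LinearMap.finrank_le_finrank_of_injective (LinearMap.ker_eq_bot.1 hb)
    simp at h1
    omega
  have hP : ∀ w, f *ᵥ w = 0 → φ ⬝ᵥ w = 0 ∧ φ ⬝ᵥ A *ᵥ w = 0 ∧ φ ⬝ᵥ (A * A) *ᵥ w = 0 := fun w hw => by
    refine ⟨congrFun hw 0, ?_, ?_⟩
    · rw [Matrix.dotProduct_mulVec]; exact congrFun hw 1
    · rw [Matrix.dotProduct_mulVec]; exact congrFun hw 2
  obtain ⟨w1, w2, w3⟩ := hP w (by simpa using hw)
  have h33 : ∀ z, A *ᵥ (A *ᵥ (A *ᵥ z)) = 0 := fun z => by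
    rw [Matrix.mulVec_mulVec, Matrix.mulVec_mulVec, mul_assoc, h3, Matrix.zero_mulVec]
  have hAA : ∀ z, (A * A) *ᵥ z = A *ᵥ (A *ᵥ z) := fun z => (Matrix.mulVec_mulVec ..).symm
  obtain ⟨r0, hr0, hA0, e0⟩ : ∃ r0, r0 ≠ 0 ∧ A *ᵥ r0 = 0 ∧ φ ⬝ᵥ r0 = 0 := by
    by_cases c1 : A *ᵥ w = 0
    · exact ⟨w, hw0, c1, w1⟩
    by_cases c2 : A *ᵥ (A *ᵥ w) = 0
    · exact ⟨_, c1, c2, w2⟩
    · exact ⟨_, c2, h33 w, by rw [← hAA]; exact w3⟩
  have hnot : r0 ∉ Submodule.span F ({r, A *ᵥ r, A *ᵥ (A *ᵥ r)} : Set (Fin k → F)) := by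
    intro hm
    obtain ⟨a, z, hz, rfl⟩ := Submodule.mem_span_insert.1 hm
    obtain ⟨b, c, rfl⟩ := Submodule.mem_span_pair.1 hz
    have h' : φ ⬝ᵥ A *ᵥ (A *ᵥ r) = 1 := by rw [← hAA]; exact h
    have ha : a = 0 := by
      have e := congrArg (fun Z => φ ⬝ᵥ A *ᵥ Z) hA0
      simp only [Matrix.mulVec_add, Matrix.mulVec_smul, h33, Matrix.mulVec_zero, smul_zero, dotProduct_add,
        dotProduct_smul, dotProduct_zero, add_zero, h', smul_eq_mul, mul_one] at e
      exact e
    have hb : b = 0 := by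
      have e := congrArg (fun Z => φ ⬝ᵥ Z) hA0
      simp only [Matrix.mulVec_add, Matrix.mulVec_smul, h33, smul_zero, ha, zero_smul, zero_add, dotProduct_add,
        dotProduct_smul, dotProduct_zero, add_zero, h', smul_eq_mul, mul_one] at e
      exact e
    simp only [ha, hb, zero_smul, zero_add, dotProduct_smul, h', smul_eq_mul, mul_one] at e0
    exact hr0 (by rw [ha, hb, e0]; simp)
  obtain ⟨ψ, hψ, hψ0⟩ := exists_covector _ hnot
  exact ⟨r0, ψ, hA0, e0, hψ0, hψ _ (Submodule.subset_span (by simp)), hψ _ (Submodule.subset_span (by simp)),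
    hAA r ▸ hψ _ (Submodule.subset_span (by simp))⟩

lemma skew_of_sq_zero (hd : ∀ p, d p ≠ 0) {g : GL (Fin k) F} (hg : g ∈ isoG d) {A : Matrix (Fin k) (Fin k) F}
    (hA : (g : Matrix (Fin k) (Fin k) F) = 1 + A) (hAA : A * A = 0) : sa d A = -A := by
  have hi : ((g⁻¹ : GL (Fin k) F) : Matrix (Fin k) (Fin k) F) = 1 - A :=
    Units.inv_eq_of_mul_eq_one_right (by rw [hA, add_mul, one_mul, mul_sub, mul_one, hAA, sub_zero]; abel)
  have e := inv_eq_sa hd hg
  rw [hi, hA, sa_add, sa_one hd, sub_eq_add_neg, add_right_inj] at e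
  exact e.symm

lemma sym_of_cube_zero (hd : ∀ p, d p ≠ 0) {g : GL (Fin k) F} (hg : g ∈ isoG d) {A : Matrix (Fin k) (Fin k) F}
    (hA : (g : Matrix (Fin k) (Fin k) F) = 1 + A) (h3 : A * (A * A) = 0) : sa d (A * A) = A * A := by
  have hi : ((g⁻¹ : GL (Fin k) F) : Matrix (Fin k) (Fin k) F) = 1 + (A * A - A) :=
    Units.inv_eq_of_mul_eq_one_right (by
      rw [hA, add_mul, one_mul, mul_add, mul_one, mul_sub, h3]; abel)
  have e := inv_eq_sa hd hg
  rw [hi, hA, sa_add, sa_one hd, add_right_inj] at e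
  rw [sa_mul hd, ← e, mul_sub, sub_mul, sub_mul, mul_assoc A A (A * A), h3, mul_zero, mul_assoc A A A, h3]
  simp

variable {j : Fin t} {A : Matrix (Fin k) (Fin k) F} {B : Mt t k F}

lemma big_sq (hk : 4 ≤ k) {p0 p1 p2 : Fin k} (n01 : p0 ≠ p1) (n02 : p0 ≠ p2) (n12 : p1 ≠ p2) (hB : Com j B) (hn : IsNilpotent B) (h3 : A * (A * A) = 0) (hA : A * A ≠ 0) :
    (B * B ≠ 0 → (slot j (ds {p0}) : Mt t k F).rank <
      ((slot j A * (1 + B) + B) * (slot j A * (1 + B) + B)).rank) ∧
    (B ≠ 0 → (slot j (ds {p0, p1}) : Mt t k F).rank < (slot j A * (1 + B) + B).rank) := by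
  classical
  obtain ⟨r, hr⟩ : ∃ r, (A * A) *ᵥ r ≠ 0 := by
    by_contra hc
    push Not at hc
    exact hA (Matrix.ext_iff_mulVec.2 fun x => by rw [hc, Matrix.zero_mulVec])
  obtain ⟨φ, hφ⟩ := Tensor.exists_dot_one hr
  obtain ⟨r0, ψ, hr0, f0, g0, g1, g2, g3⟩ := exists_split hk h3 hφ
  have hAA : ∀ z, (A * A) *ᵥ z = A *ᵥ (A *ᵥ z) := fun z => (Matrix.mulVec_mulVec ..).symm
  have h33 : ∀ z, A *ᵥ (A *ᵥ (A *ᵥ z)) = 0 := fun z => by
    rw [Matrix.mulVec_mulVec, Matrix.mulVec_mulVec, mul_assoc, h3, Matrix.zero_mulVec]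
  rw [hAA] at hφ g3
  have f1 : φ ⬝ᵥ A *ᵥ r0 = 0 := by rw [hr0, dotProduct_zero]
  obtain ⟨c, hc⟩ : ∃ c, c = φ ⬝ᵥ A *ᵥ r := ⟨_, rfl⟩
  refine ⟨fun hB0 => ?_, fun hB0 => ?_⟩
  · set Ψ : Fin k → Fin k → F := fun a => if a = p0 then φ else if a = p2 then ψ else 0 with hΨ
    set R : Fin k → Fin k → F := fun a => if a = p0 then r else if a = p2 then r0 else 0 with hR
    refine rank_sq_gt (L := rowsM Ψ) (R := colsM R) hB hn hB0 (p := p0) (r := p2) n02.symm (c := c)
      (c₀ := φ ⬝ᵥ r) (eq_ds_of_apply fun a b => ?_) ?_ ?_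
    · simp only [rows_cols, hΨ, hR, Finset.mem_singleton]
      rcases eq_or_ne a p0 with ha0 | ha0 <;> [skip; rcases eq_or_ne a p2 with ha2 | ha2] <;>
        rcases eq_or_ne b p0 with hb0 | hb0 <;> (try rcases eq_or_ne b p2 with hb2 | hb2) <;>
        (try have := Ne.symm hb0) <;> (try have := Ne.symm hb1) <;> (try have := Ne.symm hb2) <;> (try have := Ne.symm ha0) <;>
        (try have := Ne.symm ha1) <;> (try have := Ne.symm ha2) <;>
        simp [*, n02.symm, Matrix.mulVec_zero, -Matrix.mulVec_mulVec]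
    · ext a b
      rw [rows_cols, Matrix.smul_apply, ds, Matrix.diagonal_apply, hΨ, hR]
      simp only [Finset.mem_singleton]
      rcases eq_or_ne a p0 with ha0 | ha0 <;> [skip; rcases eq_or_ne a p2 with ha2 | ha2] <;>
        rcases eq_or_ne b p0 with hb0 | hb0 <;> (try rcases eq_or_ne b p2 with hb2 | hb2) <;>
        (try have := Ne.symm hb0) <;> (try have := Ne.symm hb1) <;> (try have := Ne.symm hb2) <;> (try have := Ne.symm ha0) <;>
        (try have := Ne.symm ha1) <;> (try have := Ne.symm ha2) <;>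
        simp [*, n02.symm, Matrix.mulVec_zero]
    · ext a b
      rw [rows_cols_one, Matrix.add_apply, Matrix.smul_apply, ds, Matrix.diagonal_apply, Matrix.single_apply, hΨ, hR]
      simp only [Finset.mem_singleton]
      rcases eq_or_ne a p0 with ha0 | ha0 <;> [skip; rcases eq_or_ne a p2 with ha2 | ha2] <;>
        rcases eq_or_ne b p0 with hb0 | hb0 <;> (try rcases eq_or_ne b p2 with hb2 | hb2) <;>
        (try have := Ne.symm hb0) <;> (try have := Ne.symm hb1) <;> (try have := Ne.symm hb2) <;> (try have := Ne.symm ha0) <;>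
        (try have := Ne.symm ha1) <;> (try have := Ne.symm ha2) <;>
        simp [*, n02.symm]
  · set Ψ : Fin k → Fin k → F := fun a => if a = p0 then φ else if a = p1 then φ ᵥ* A else if a = p2 then ψ else 0
      with hΨ
    set R : Fin k → Fin k → F := fun a => if a = p0 then A *ᵥ r else if a = p1 then r - c • (A *ᵥ r)
      else if a = p2 then r0 else 0 with hR
    set s : Finset (Fin k) := {p0, p1} with hs
    set W := ds s * (rowsM Ψ * colsM R) * ds s
    refine (rank_lin_gt (W := W) hB hn (block_left s _).1 (block_left s _).2 (L := rowsM Ψ) (R := colsM R)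
      (eq_ds_of_apply fun a b => ?_)).1 p2 (by simp [hs, n02.symm, n12.symm]) (eq_block (by simp [hs, n02.symm, n12.symm])
        fun a b hab => ?_) hB0
    · rw [rows_cols, hΨ, hR, hs]
      rcases eq_or_ne a p0 with ha0 | ha0 <;> [skip; rcases eq_or_ne a p1 with ha1 | ha1] <;>
        (try rcases eq_or_ne a p2 with ha2 | ha2) <;>
        rcases eq_or_ne b p0 with hb0 | hb0 <;> (try rcases eq_or_ne b p1 with hb1 | hb1) <;>
        (try rcases eq_or_ne b p2 with hb2 | hb2) <;>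
        (try have := Ne.symm hb0) <;> (try have := Ne.symm hb1) <;> (try have := Ne.symm hb2) <;> (try have := Ne.symm ha0) <;>
        (try have := Ne.symm ha1) <;> (try have := Ne.symm ha2) <;>
        simp [*, n01.symm, n02.symm, n12.symm, Matrix.mulVec_zero, Matrix.mulVec_sub, Matrix.mulVec_smul,
          dotProduct_sub, dotProduct_smul, ← Matrix.dotProduct_mulVec, -Matrix.mulVec_mulVec]
    · rw [hs] at hab
      simp only [Finset.mem_insert, Finset.mem_singleton] at hab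
      rw [rows_cols_one, hΨ, hR]
      rcases eq_or_ne a p0 with ha0 | ha0 <;> [skip; rcases eq_or_ne a p1 with ha1 | ha1] <;>
        (try rcases eq_or_ne a p2 with ha2 | ha2) <;>
        rcases eq_or_ne b p0 with hb0 | hb0 <;> (try rcases eq_or_ne b p1 with hb1 | hb1) <;>
        (try rcases eq_or_ne b p2 with hb2 | hb2) <;>
        (try have := Ne.symm hb0) <;> (try have := Ne.symm hb1) <;> (try have := Ne.symm hb2) <;> (try have := Ne.symm ha0) <;>
        (try have := Ne.symm ha1) <;> (try have := Ne.symm ha2) <;>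
        simp [*, n01.symm, n02.symm, n12.symm, dotProduct_sub, dotProduct_smul, ← Matrix.dotProduct_mulVec,
          one_ne_zero] at hab ⊢

lemma big_lin (hD : Dat d) (hk : 5 ≤ k) {p0 p1 p2 : Fin k} (n01 : p0 ≠ p1) (n02 : p0 ≠ p2) (n12 : p1 ≠ p2) (hB : Com j B) (hn : IsNilpotent B) (hA : sa d A = -A) (hA0 : A ≠ 0)
    (hB0 : B ≠ 0) :
    (slot j (ds {p0, p1}) : Mt t k F).rank < (slot j A * (1 + B) + B).rank := by
  classical
  obtain ⟨v1, h1⟩ : ∃ x, A *ᵥ x ≠ 0 := by
    by_contra hc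
    push Not at hc
    exact hA0 (Matrix.ext_iff_mulVec.2 fun x => by rw [hc, Matrix.zero_mulVec])
  obtain ⟨v2, h2⟩ : ∃ x, A *ᵥ x ∉ F ∙ (A *ᵥ v1) := by
    by_contra hc
    push Not at hc
    exact hA0 (skew_line hD hA (z := A *ᵥ v1) fun x => by
      obtain ⟨c, hc'⟩ := Submodule.mem_span_singleton.1 (hc x); exact ⟨c, hc'.symm⟩)
  obtain ⟨φ2, k21, k22⟩ := exists_covector _ h2
  have k21' : φ2 ⬝ᵥ A *ᵥ v1 = 0 := k21 _ (Submodule.mem_span_singleton_self _)
  obtain ⟨ξ, hξ⟩ := Tensor.exists_dot_one h1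
  obtain ⟨φ1, k11, k12⟩ : ∃ φ1, φ1 ⬝ᵥ A *ᵥ v1 = 1 ∧ φ1 ⬝ᵥ A *ᵥ v2 = 0 :=
    ⟨ξ - (ξ ⬝ᵥ A *ᵥ v2) • φ2, by simp [sub_dotProduct, smul_dotProduct, k21', hξ],
      by simp [sub_dotProduct, smul_dotProduct, k22]⟩
  set S := Submodule.span F ({A *ᵥ v1, A *ᵥ v2} : Set (Fin k → F)) with hS
  by_cases h3 : ∀ x, A *ᵥ x ∈ S
  · obtain ⟨r0, hr0, hr0S⟩ : ∃ r0, A *ᵥ r0 = 0 ∧ r0 ∉ S := by
      by_contra hc
      push Not at hc
      have e1 := A.mulVecLin.finrank_range_add_finrank_ker
      have e2 := Submodule.finrank_mono (show LinearMap.range A.mulVecLin ≤ S by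
        rintro _ ⟨x, rfl⟩; exact h3 x)
      have e3 := Submodule.finrank_mono (show LinearMap.ker A.mulVecLin ≤ S from fun x hx => hc x (by simpa using hx))
      have e4 : Module.finrank F S ≤ 2 := by
        rw [hS, show ({A *ᵥ v1, A *ᵥ v2} : Set (Fin k → F)) = Set.range ![A *ᵥ v1, A *ᵥ v2] by simp [Set.pair_comm]]
        exact (finrank_range_le_card _).trans (by simp)
      rw [Module.finrank_fintype_fun_eq_card, Fintype.card_fin] at e1
      omega
    obtain ⟨ψ, hψ, hψ0⟩ := exists_covector _ hr0S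
    have m1 : ψ ⬝ᵥ A *ᵥ v1 = 0 := hψ _ (Submodule.subset_span (by simp))
    have m2 : ψ ⬝ᵥ A *ᵥ v2 = 0 := hψ _ (Submodule.subset_span (by simp))
    set Ψ : Fin k → Fin k → F := fun a => if a = p0 then φ1 - (φ1 ⬝ᵥ r0) • ψ
      else if a = p1 then φ2 - (φ2 ⬝ᵥ r0) • ψ else if a = p2 then ψ else 0 with hΨ
    set R : Fin k → Fin k → F := fun a => if a = p0 then v1 - (ψ ⬝ᵥ v1) • r0
      else if a = p1 then v2 - (ψ ⬝ᵥ v2) • r0 else if a = p2 then r0 else 0 with hR
    set s : Finset (Fin k) := {p0, p1} with hs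
    refine (rank_lin_gt (W := ds s * (rowsM Ψ * colsM R) * ds s) hB hn (block_left s _).1 (block_left s _).2
      (L := rowsM Ψ) (R := colsM R) (eq_ds_of_apply fun a b => ?_)).1 p2 (by simp [hs, n02.symm, n12.symm])
      (eq_block (by simp [hs, n02.symm, n12.symm]) fun a b hab => ?_) hB0
    · rw [rows_cols, hΨ, hR, hs]
      rcases eq_or_ne a p0 with ha0 | ha0 <;> [skip; rcases eq_or_ne a p1 with ha1 | ha1] <;>
        (try rcases eq_or_ne a p2 with ha2 | ha2) <;>
        rcases eq_or_ne b p0 with hb0 | hb0 <;> (try rcases eq_or_ne b p1 with hb1 | hb1) <;>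
        (try rcases eq_or_ne b p2 with hb2 | hb2) <;>
        (try have := Ne.symm hb0) <;> (try have := Ne.symm hb1) <;> (try have := Ne.symm hb2) <;> (try have := Ne.symm ha0) <;>
        (try have := Ne.symm ha1) <;> (try have := Ne.symm ha2) <;>
        simp [*, n01.symm, n02.symm, n12.symm, Matrix.mulVec_zero, Matrix.mulVec_sub, Matrix.mulVec_smul,
          dotProduct_sub, dotProduct_smul, sub_dotProduct, smul_dotProduct]
    · rw [hs] at hab
      simp only [Finset.mem_insert, Finset.mem_singleton] at hab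
      rw [rows_cols_one, hΨ, hR]
      rcases eq_or_ne a p0 with ha0 | ha0 <;> [skip; rcases eq_or_ne a p1 with ha1 | ha1] <;>
        (try rcases eq_or_ne a p2 with ha2 | ha2) <;>
        rcases eq_or_ne b p0 with hb0 | hb0 <;> (try rcases eq_or_ne b p1 with hb1 | hb1) <;>
        (try rcases eq_or_ne b p2 with hb2 | hb2) <;>
        (try have := Ne.symm hb0) <;> (try have := Ne.symm hb1) <;> (try have := Ne.symm hb2) <;> (try have := Ne.symm ha0) <;>
        (try have := Ne.symm ha1) <;> (try have := Ne.symm ha2) <;>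
        simp [*, n01.symm, n02.symm, n12.symm, dotProduct_sub, dotProduct_smul, sub_dotProduct, smul_dotProduct,
          one_ne_zero] at hab ⊢
  · push Not at h3
    obtain ⟨v3, h3⟩ := h3
    obtain ⟨φ3, k3, k33⟩ := exists_covector _ h3
    have k31 : φ3 ⬝ᵥ A *ᵥ v1 = 0 := k3 _ (Submodule.subset_span (by simp))
    have k32 : φ3 ⬝ᵥ A *ᵥ v2 = 0 := k3 _ (Submodule.subset_span (by simp))
    set Ψ : Fin k → Fin k → F := fun a => if a = p0 then φ1 - (φ1 ⬝ᵥ A *ᵥ v3) • φ3
      else if a = p1 then φ2 - (φ2 ⬝ᵥ A *ᵥ v3) • φ3 else if a = p2 then φ3 else 0 with hΨ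
    set R : Fin k → Fin k → F := fun a => if a = p0 then v1 else if a = p1 then v2 else if a = p2 then v3 else 0
      with hR
    set s : Finset (Fin k) := insert p2 {p0, p1} with hs
    refine (rank_lt_insert j (show p2 ∉ ({p0, p1} : Finset (Fin k)) by simp [n02.symm, n12.symm])).trans_le
      ((rank_lin_gt (j := j) (A := A) (W := ds s * (rowsM Ψ * colsM R) * ds s) hB hn (block_left s _).1 (block_left s _).2
        (L := rowsM Ψ) (R := colsM R) (eq_ds_of_apply fun a b => ?_)).2 (eq_inside fun a b hab => ?_))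
    · rw [rows_cols, hΨ, hR, hs]
      rcases eq_or_ne a p0 with ha0 | ha0 <;> [skip; rcases eq_or_ne a p1 with ha1 | ha1] <;>
        (try rcases eq_or_ne a p2 with ha2 | ha2) <;>
        rcases eq_or_ne b p0 with hb0 | hb0 <;> (try rcases eq_or_ne b p1 with hb1 | hb1) <;>
        (try rcases eq_or_ne b p2 with hb2 | hb2) <;>
        (try have := Ne.symm hb0) <;> (try have := Ne.symm hb1) <;> (try have := Ne.symm hb2) <;> (try have := Ne.symm ha0) <;>
        (try have := Ne.symm ha1) <;> (try have := Ne.symm ha2) <;>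
        simp [*, n01.symm, n02.symm, n12.symm, Matrix.mulVec_zero, sub_dotProduct, smul_dotProduct]
    · rw [hs] at hab
      simp only [Finset.mem_insert, Finset.mem_singleton] at hab
      rw [rows_cols_one, hΨ, hR]
      rcases eq_or_ne a p0 with ha0 | ha0 <;> [skip; rcases eq_or_ne a p1 with ha1 | ha1] <;>
        (try rcases eq_or_ne a p2 with ha2 | ha2) <;>
        rcases eq_or_ne b p0 with hb0 | hb0 <;> (try rcases eq_or_ne b p1 with hb1 | hb1) <;>
        (try rcases eq_or_ne b p2 with hb2 | hb2) <;>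
        (try have := Ne.symm hb0) <;> (try have := Ne.symm hb1) <;> (try have := Ne.symm hb2) <;> (try have := Ne.symm ha0) <;>
        (try have := Ne.symm ha1) <;> (try have := Ne.symm ha2) <;>
        simp [*, n01.symm, n02.symm, n12.symm] at hab ⊢

/-- A self-adjoint matrix of small rank is a multiple of a dyad. -/
lemma exists_dyad (hD : Dat d) {Q : Matrix (Fin k) (Fin k) F} (hQ : sa d Q = Q) (hQ0 : Q ≠ 0) (i : Fin t)
    (hk : 2 ≤ k) (hrk : (slot j Q : Mt t k F).rank ≤ (slot i (ds {(⟨0, by omega⟩ : Fin k)}) : Mt t k F).rank) :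
    ∃ (z : Fin k → F) (c : F), z ≠ 0 ∧ c ≠ 0 ∧ Q = c • vd d z z := by
  classical
  obtain ⟨v1, h1⟩ : ∃ x, Q *ᵥ x ≠ 0 := by
    by_contra hc
    push Not at hc
    exact hQ0 (Matrix.ext_iff_mulVec.2 fun x => by rw [hc, Matrix.zero_mulVec])
  obtain ⟨z, hz⟩ : ∃ z, Q *ᵥ v1 = z := ⟨_, rfl⟩
  rw [hz] at h1
  obtain ⟨p1, n01⟩ : ∃ p1 : Fin k, (⟨0, by omega⟩ : Fin k) ≠ p1 := ⟨⟨1, by omega⟩, by simp⟩
  generalize (⟨0, by omega⟩ : Fin k) = p0 at n01 hrk
  have hline : ∀ x, ∃ c : F, Q *ᵥ x = c • z := by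
    intro x
    by_contra hc
    have hx : Q *ᵥ x ∉ F ∙ z := fun h => by
      obtain ⟨c, hc'⟩ := Submodule.mem_span_singleton.1 h; exact hc ⟨c, hc'.symm⟩
    obtain ⟨φ2, k21, k22⟩ := exists_covector _ hx
    have k21' : φ2 ⬝ᵥ z = 0 := k21 _ (Submodule.mem_span_singleton_self _)
    obtain ⟨ξ, hξ⟩ := Tensor.exists_dot_one h1
    set Ψ : Fin k → Fin k → F := fun a => if a = p0 then ξ - (ξ ⬝ᵥ Q *ᵥ x) • φ2 else if a = p1 then φ2 else 0 with hΨ
    set R : Fin k → Fin k → F := fun a => if a = p0 then v1 else if a = p1 then x else 0 with hR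
    have e : rowsM Ψ * Q * colsM R = ds (insert p1 {p0}) := eq_ds_of_apply fun a b => by
      rw [rows_cols, hΨ, hR]
      rcases eq_or_ne a p0 with ha0 | ha0 <;> [skip; rcases eq_or_ne a p1 with ha1 | ha1] <;>
        rcases eq_or_ne b p0 with hb0 | hb0 <;> (try rcases eq_or_ne b p1 with hb1 | hb1) <;>
        (try have := Ne.symm hb0) <;> (try have := Ne.symm hb1) <;> (try have := Ne.symm hb2) <;> (try have := Ne.symm ha0) <;>
        (try have := Ne.symm ha1) <;> (try have := Ne.symm ha2) <;>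
        simp [*, n01.symm, Matrix.mulVec_zero, sub_dotProduct, smul_dotProduct]
    have := (rank_lt_insert (F := F) j (show p1 ∉ ({p0} : Finset (Fin k)) by simp [n01.symm])).trans_le
      (e ▸ rank_slot_le j (rowsM Ψ) Q (colsM R))
    rw [rank_slot_swap i j] at hrk
    exact lt_irrefl _ (this.trans_le hrk)
  choose c hc using hline
  obtain ⟨x₀, hx₀⟩ : ∃ x, fd d x z ≠ 0 := by
    by_contra hcon
    push Not at hcon
    exact h1 (eq_zero_of_fd hD.ne fun y => by rw [fd_symm]; exact hcon y)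
  have hsy : ∀ x y, c y * fd d x z = c x * fd d y z := fun x y => by
    have e := fd_mulVec hD.ne Q x y
    rw [hQ, hc, hc, fd_smul_left, fd_smul_right, fd_symm d y z] at e
    linear_combination -e
  have hQv : Q = (c x₀ / fd d x₀ z) • vd d z z := Matrix.ext_iff_mulVec.2 fun y => by
    rw [hc, Matrix.smul_mulVec, vd_mulVec, smul_smul, fd_symm d y z]
    congr 1
    field_simp
    linear_combination hsy x₀ y
  exact ⟨z, _, h1, fun e => hQ0 (by rw [hQv, e, zero_smul]), hQv⟩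

/-- A wreath isometry of the type of an Eichler element is one of a factor. -/
theorem one_slot (hD : Dat d) (hf : Fr d u v) (hk : 4 ≤ k) {y : GL (Fin t → Fin k) F} (hyw : y ∈ tensorWreathStandard k t F)
    (hyi : y ∈ isoG (dt d t)) (h3 : ((y : Mt t k F) - 1) * (((y : Mt t k F) - 1) * ((y : Mt t k F) - 1)) = 0)
    (hne : ((y : Mt t k F) - 1) * ((y : Mt t k F) - 1) ≠ 0) (i : Fin t)
    (hr1 : ((y : Mt t k F) - 1).rank ≤
      (slot i (ds {(⟨0, by omega⟩ : Fin k), ⟨1, by omega⟩}) : Mt t k F).rank)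
    (hr2 : (((y : Mt t k F) - 1) * ((y : Mt t k F) - 1)).rank ≤
      (slot i (ds {(⟨0, by omega⟩ : Fin k)}) : Mt t k F).rank) :
    ∃ (j : Fin t) (A : Matrix (Fin k) (Fin k) F) (z : Fin k → F) (c : F), (y : Mt t k F) = slot j (1 + A) ∧
      z ≠ 0 ∧ fd d z z = 0 ∧ c ≠ 0 ∧ A * A = c • vd d z z := by
  classical
  have hd := hD.ne
  obtain ⟨p, hp, hp3, hchar⟩ := hD.exists_char
  haveI := Fact.mk hp
  obtain ⟨a, σ, hy⟩ := exists_tens_perm hyw
  obtain rfl : σ = 1 := Equiv.ext fun j => perm_trivial hy hk hp hp3 h3 hr2 j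
  have hone := eq_one_of_pow y hp hp3 h3
  choose e g he hgi hag hgp hgn using fun l =>
    exists_normal hD hp (pow_scalar hy hone (j := l) rfl) (sa_mul_scalar hy hd hyi (j := l) rfl)
  have hy0 : (y : Mt t k F) = tens fun l => (a l : Matrix (Fin k) (Fin k) F) := by
    rw [hy, show (permMat k (1 : Equiv.Perm (Fin t)) : Mt t k F) = 1 by ext x z; simp [permMat, Matrix.one_apply, eq_comm],
      mul_one]
  have hyg : y = tensUnit g := by
    have hv : (y : Mt t k F) = (∏ l, e l) • tens fun l => (g l : Matrix (Fin k) (Fin k) F) := by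
      rw [hy0, ← tens_smul]; simp only [← hag]
    have hgp' : (tens fun l => (g l : Matrix (Fin k) (Fin k) F)) ^ p = (1 : Mt t k F) := by
      have : ∀ n : ℕ, (tens fun l => (g l : Matrix (Fin k) (Fin k) F)) ^ n =
          tens fun l => ((g l : Matrix (Fin k) (Fin k) F)) ^ n := fun n => by
        induction n with
        | zero => simp [tens_one]
        | succ n ih => rw [pow_succ, ih, tens_mul]; simp only [pow_succ]
      rw [this, show (fun l => (g l : Matrix (Fin k) (Fin k) F) ^ p) = fun _ => 1 from funext fun l => by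
        rw [← Units.val_pow_eq_pow_val, hgp, Units.val_one], tens_one]
    have h1 : (∏ l, e l) ^ p = 1 ^ p := by
      have h := congrArg Units.val hone
      rw [Units.val_pow_eq_pow_val, Units.val_one, hv, smul_pow, hgp'] at h
      have := congrFun (congrFun h fun _ => 0) fun _ => 0
      simpa using this
    refine Units.ext ?_
    rw [hv, pow_char_inj hp h1, one_smul]
    rfl
  have hy1 : (y : Mt t k F) = tens fun l => (g l : Matrix (Fin k) (Fin k) F) := by rw [hyg]; rfl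
  have hsplit : ∀ j : Fin t, ∀ A, A = (g j : Matrix (Fin k) (Fin k) F) - 1 → ∃ B : Mt t k F,
      Com j B ∧ IsNilpotent B ∧ (y : Mt t k F) - 1 = slot j A * (1 + B) + B ∧
      (B = 0 → (y : Mt t k F) = slot j (1 + A)) := by
    intro j A hA
    set T : Mt t k F := tens (Function.update (fun l => (g l : Matrix (Fin k) (Fin k) F)) j 1) with hT
    have hyT : (y : Mt t k F) = slot j (g j : Matrix (Fin k) (Fin k) F) * T := by
      rw [hy1, hT, slot, tens_mul]
      congr 1
      funext l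
      rcases eq_or_ne l j with rfl | hl
      · simp
      · simp [Function.update_of_ne hl]
    have hTc : Com j T := com_tens (by simp)
    have hTp : T ^ p = 1 := by
      have hcm : Commute (slot j (g j : Matrix (Fin k) (Fin k) F) : Mt t k F) T := hTc.slot_comm _
      have h := congrArg Units.val hone
      rw [Units.val_pow_eq_pow_val, hyT, hcm.mul_pow, Units.val_one] at h
      have : (slot j (g j : Matrix (Fin k) (Fin k) F) : Mt t k F) ^ p = 1 := by
        rw [← slotU_val, ← Units.val_pow_eq_pow_val, ← map_pow, hgp, map_one, Units.val_one]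
      rwa [this, one_mul] at h
    refine ⟨T - 1, hTc.sub (com_one j), ⟨p, ?_⟩, ?_, fun h => ?_⟩
    · rw [sub_pow_char_of_commute p (Commute.one_right _), hTp, one_pow, sub_self]
    · rw [hyT, hA, slot_sub, slot_one, add_sub_cancel, sub_mul, one_mul]; abel
    · rw [hyT, sub_eq_zero.1 h, mul_one, hA, add_sub_cancel]
  have hcube : ∀ j, ((g j : Matrix (Fin k) (Fin k) F) - 1) *
      (((g j : Matrix (Fin k) (Fin k) F) - 1) * ((g j : Matrix (Fin k) (Fin k) F) - 1)) = 0 := by
    intro j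
    obtain ⟨B, hB, hn, hY, -⟩ := hsplit j _ rfl
    by_contra hA
    exact cube_ne_zero hB hn hA (by rw [← hY]; exact h3)
  by_cases hsq : ∃ j, ((g j : Matrix (Fin k) (Fin k) F) - 1) * ((g j : Matrix (Fin k) (Fin k) F) - 1) ≠ 0
  · obtain ⟨j, hj⟩ := hsq
    set A := (g j : Matrix (Fin k) (Fin k) F) - 1 with hA
    obtain ⟨B, hB, hn, hY, hB0⟩ := hsplit j A hA
    have hgA : (g j : Matrix (Fin k) (Fin k) F) = 1 + A := by rw [hA, add_sub_cancel]
    have hBz : B = 0 := by
      by_contra hB1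
      by_cases hB2 : B * B = 0
      · have := (big_sq hk (p0 := ⟨0, by omega⟩) (p1 := ⟨1, by omega⟩) (p2 := ⟨2, by omega⟩) (by simp) (by simp) (by simp) hB hn (hcube j) hj).2 hB1
        rw [← hY, rank_slot_swap j i] at this
        exact lt_irrefl _ (this.trans_le hr1)
      · have := (big_sq hk (p0 := ⟨0, by omega⟩) (p1 := ⟨1, by omega⟩) (p2 := ⟨2, by omega⟩) (by simp) (by simp) (by simp) hB hn (hcube j) hj).1 hB2
        rw [← hY, rank_slot_swap j i] at this
        exact lt_irrefl _ (this.trans_le hr2)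
    have hyA := hB0 hBz
    have hsym := sym_of_cube_zero hd (hgi j) hgA (hcube j)
    rw [hyA, slot_add, slot_one, add_sub_cancel_left, slot_mul] at hr2
    obtain ⟨z, c, hz, hc, hQ⟩ := exists_dyad hD hsym hj i (by omega) hr2
    refine ⟨j, A, z, c, hyA, hz, ?_, hc, hQ⟩
    have e : (A * A) * (A * A) = 0 := by rw [mul_assoc A A, hcube j, mul_zero]
    rw [hQ, smul_mul_smul_comm, vd_mul_vd, smul_smul, smul_eq_zero] at e
    have := e.resolve_right (vd_ne_zero hd hz hz)
    exact (mul_eq_zero.1 this).resolve_left (mul_ne_zero hc hc)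
  · push Not at hsq
    exfalso
    by_cases hk5 : k ≤ 4
    · refine hne ?_
      rw [hy1, show (fun l => (g l : Matrix (Fin k) (Fin k) F)) = fun _ => 1 from funext fun l => ?_, tens_one,
        sub_self, mul_zero]
      exact sub_eq_zero.1 (skew_sq_zero hD hf hk5
        (skew_of_sq_zero hd (hgi l) (add_sub_cancel _ _).symm (hsq l)) (hsq l))
    obtain ⟨j, hj⟩ : ∃ j, (g j : Matrix (Fin k) (Fin k) F) - 1 ≠ 0 := by
      by_contra hc
      push Not at hc
      refine hne ?_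
      rw [hy1, show (fun l => (g l : Matrix (Fin k) (Fin k) F)) = fun _ => 1 from funext fun l => sub_eq_zero.1 (hc l),
        tens_one, sub_self, mul_zero]
    set A := (g j : Matrix (Fin k) (Fin k) F) - 1 with hA
    obtain ⟨B, hB, hn, hY, hB0⟩ := hsplit j A hA
    by_cases hBz : B = 0
    · refine hne ?_
      rw [hB0 hBz, slot_add, slot_one, add_sub_cancel_left, slot_mul, hsq j, slot_zero]
    · have := big_lin hD (by omega) (p0 := ⟨0, by omega⟩) (p1 := ⟨1, by omega⟩) (p2 := ⟨2, by omega⟩) (by simp) (by simp) (by simp) hB hn (skew_of_sq_zero hd (hgi j) (add_sub_cancel _ _).symm (hsq j)) hj hBz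
      rw [← hY, rank_slot_swap j i] at this
      exact lt_irrefl _ (this.trans_le hr1)

end CfsgLib.Geo.TensorPow.O
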