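/-
Dimension three: an element commuting with the root group of a factor pulls the root group back to one factor;
a wreath element of the type of an Eichler element has a fixed factor which is not scalar.
-/
import Cfsg.Agent.Geo.TensorPow.O.Big

set_option autoImplicit false
set_option linter.unusedSectionVars false

namespace CfsgLib.Geo.TensorPow.O

open Matrix Cfsg.Geo CfsgLib.Aschbacher
open CfsgLib.Geo.TensorPow.U (emb embHom emb_mul emb_one emb_injective exists_embHom embHom_val embHom_mem_wreath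
  mem_wreath_one)
open scoped MatrixGroups

variable {F : Type*} [Field F] [Fintype F] {s t k : ℕ} [NeZero k] {d u v : Fin k → F}

lemma cf_add (i : Fin t) (a b : Fin k → F) (X Y : Mt t k F) :
    cf d i a b (X + Y) = cf d i a b X + cf d i a b Y := sl_ext (i := i) fun x y => by
  rw [sl_add, sl_cf, sl_cf, sl_cf, sl_add, Matrix.add_mulVec, fd_add_right, add_smul]

lemma cf_smul (i : Fin t) (a b : Fin k → F) (c : F) (X : Mt t k F) :
    cf d i a b (c • X) = c • cf d i a b X := sl_ext (i := i) fun x y => by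
  rw [sl_smul, sl_cf, sl_cf, sl_smul, Matrix.smul_mulVec, fd_smul_right, smul_smul]

/-- A member fixing one factor is in the wreath group. -/
lemma Bad.com_wreath (hD : Dat d) {M : Subgroup (GL (Fin (s + 1) → Fin k) F)} (hM : Bad d M) (hrec : Rec d (s + 1))
    (hs : 1 ≤ s) {i : Fin (s + 1)} {g : GL (Fin (s + 1) → Fin k) F} (hg : g ∈ M)
    (hc : Com i (g : Mt (s + 1) k F)) : g ∈ tensorWreathStandard k (s + 1) F := by
  obtain ⟨h, rfl⟩ := exists_embHom hc
  refine embHom_mem_wreath i ?_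
  rcases Nat.lt_or_ge s 2 with hs2 | hs2
  · obtain rfl : s = 1 := by omega
    exact mem_wreath_one (by have := hD.three; omega) h
  · have hb := comap_bad hD.ne hD hM i
    exact ((hrec s (Nat.lt_succ_self s) hs _ hb.toBase).resolve_right (hb.nfull hs2)) hg

variable (hD : Dat d) (hf : Fr d u v)
include hD hf

lemma comm_line (h3 : k = 3) {i : Fin t} {m₀ : Fin k → F} (hm₀ : m₀ ∈ Pp d u v) (hmm : fd d m₀ m₀ ≠ 0)
    {X : Mt t k F} (h : Commute X (slot i (eich d u m₀))) {m : Fin k → F} (hm : m ∈ Pp d u v) :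
    Commute X (slot i (eich d u m)) := by
  have h2 := hD.two
  have hn := (Pp d u v).neg_mem hm₀
  have h' : Commute X (slot i (eich d u (-m₀))) := by
    have e1 : slot i (eich d u (-m₀)) * slot i (eich d u m₀) = (1 : Mt t k F) := by
      rw [slot_mul, eich_mul h2 hf.uu hn.1 hm₀.1, neg_add_cancel, eich_zero, slot_one]
    have e2 : slot i (eich d u m₀) * slot i (eich d u (-m₀)) = (1 : Mt t k F) := by
      rw [slot_mul, eich_neg h2 hf.uu hm₀.1, slot_one]
    show X * _ = _ * X
    calc X * slot i (eich d u (-m₀))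
        = slot i (eich d u (-m₀)) * slot i (eich d u m₀) * X * slot i (eich d u (-m₀)) := by rw [e1, one_mul]
      _ = slot i (eich d u (-m₀)) * (X * slot i (eich d u m₀)) * slot i (eich d u (-m₀)) := by
          rw [h.eq]; simp only [mul_assoc]
      _ = slot i (eich d u (-m₀)) * X := by
          rw [← mul_assoc, mul_assoc (_ * X), e2, mul_one]
  have hN : Commute X (slot i (wg d m₀ u)) := by
    have e : wg d m₀ u = (2 : F)⁻¹ • (eich d u m₀ - eich d u (-m₀)) := by
      rw [eich, eich, fd_neg_left, fd_neg_right, neg_neg, ← neg_one_smul F m₀, wg_smul_left]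
      match_scalars <;> field_simp <;> ring
    rw [e, slot_smul, slot_sub]
    exact (h.sub_right h').smul_right _
  have hZ : Commute X (slot i (vd d u u)) := by
    have e : vd d u u = (-fd d m₀ m₀)⁻¹ • (wg d m₀ u * wg d m₀ u) := by
      rw [nm_mul hf hm₀ hm₀, smul_smul, inv_mul_cancel₀ (neg_ne_zero.2 hmm), one_smul]
    rw [e, slot_smul, ← slot_mul]
    exact (hN.mul_right hN).smul_right _
  rw [hf.three_line hD h3 hm₀ hmm hm, eich_frame hf, wg_smul_left, slot_sub, slot_add, slot_one, slot_smul, slot_smul]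
  exact ((Commute.one_right X).add_right (hN.smul_right _)).sub_right (hZ.smul_right _)

/-- An element commuting with the root group of a factor without fixing it comes from the root group of one
factor. -/
theorem three_fix (h3 : k = 3) {M : Subgroup (GL (Fin (s + 1) → Fin k) F)} (hM : Bad d M) (hrec : Rec d (s + 1))
    (hs : 1 ≤ s) {g : GL (Fin (s + 1) → Fin k) F} (hg : g ∈ M) {i j : Fin (s + 1)} {n : Fin k → F}
    (hn : n ∈ Pp d u v) (hnn : fd d n n ≠ 0)
    (hy : ∀ m ∈ Pp d u v, Commute (slot j (eich d u m) : Mt (s + 1) k F) (cj g (slot i (eich d u n))))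
    (hyn : ¬ Com j (cj g (slot i (eich d u n)))) : Pres g i j := by
  classical
  have hd := hD.ne
  have h2 := hD.two
  -- the images
  set x : F → Mt (s + 1) k F := fun c => cj g⁻¹ (slot j (eich d u (c • n))) with hx
  have hmc : ∀ c : F, c • n ∈ Pp d u v := fun c => (Pp d u v).smul_mem c hn
  set N := cj g⁻¹ (slot j (wg d n u)) with hN
  set Q := cj g⁻¹ (slot j ((-(fd d n n / 2)) • vd d u u)) with hQ
  have hxp : ∀ c : F, x c = 1 + c • N + (c * c) • Q := fun c => by
    rw [hx, hN, hQ]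
    simp only
    rw [eich_frame hf, wg_smul_left, fd_smul_left, fd_smul_right, ← cj_smul, ← cj_smul, ← slot_smul, ← slot_smul,
      sub_eq_add_neg, slot_add, slot_add, slot_one, cj_add, cj_add, cj_one, smul_smul]
    congr 2
    rw [← neg_smul]
    congr 1
    ring
  have hxx : ∀ c c' : F, x c * x c' = x (c + c') := fun c c' => by
    simp only [hx]
    rw [← cj_mul, slot_mul, eich_mul h2 hf.uu (hmc c).1 (hmc c').1, add_smul]
  have hx0 : x 0 = 1 := by rw [hxp]; simp
  have hxM : ∀ c : F, ∃ h ∈ centG M d u v i, (h : Mt (s + 1) k F) = x c := by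
    intro c
    obtain ⟨e, he, hev⟩ := eich_mem_sqG h2 hd hf.uu (hmc c).1
    refine ⟨g⁻¹ * slotU j e * (g⁻¹)⁻¹, ?_, by simp [hx, cj, hev, slotU_val]⟩
    refine mem_centG hD hf (M.mul_mem (M.mul_mem (M.inv_mem hg) (hM.toBase.slot_sq hd j he))
      (M.inv_mem (M.inv_mem hg))) fun m hm => ?_
    have hc : Commute (cj g⁻¹ (slot j (e : Matrix (Fin k) (Fin k) F))) (slot i (eich d u n)) := by
      have h := hy _ (hmc c)
      rw [← hev] at h
      have := congrArg (cj g⁻¹) h.eq
      rw [cj_mul, cj_mul, cj_inv_cj] at this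
      exact this
    have := comm_line hD hf h3 hn hnn hc hm
    simp only [cj] at this
    rw [Units.val_mul, Units.val_mul, slotU_val]
    first | exact this.eq | exact this.eq.symm
  -- the decomposition
  have hdec : ∀ c : F, ∃ w ∈ Pp d u v, ∃ γ : Mt (s + 1) k F, Com i γ ∧ Mem M γ ∧ x c = slot i (eich d u w) * γ := by
    intro c
    obtain ⟨h, hh, hhv⟩ := hxM ((2 : F)⁻¹ * c)
    obtain ⟨w, hw, hc⟩ := exists_com_of_sq hD hf hM hrec hs hh
    have hhx : ((h * h : GL (Fin (s + 1) → Fin k) F) : Mt (s + 1) k F) = x c := by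
      rw [Units.val_mul, hhv, hxx, ← add_mul, show (2 : F)⁻¹ + 2⁻¹ = 1 by field_simp; norm_num, one_mul]
    rw [hhx] at hc
    refine ⟨-w, (Pp d u v).neg_mem hw, _, hc, ?_, ?_⟩
    · obtain ⟨e, he, hev⟩ := eich_mem_sqG h2 hd hf.uu hw.1
      exact ⟨h * h * slotU i e, M.mul_mem (M.mul_mem (Subgroup.mem_inf.1 hh).1 (Subgroup.mem_inf.1 hh).1)
        (hM.toBase.slot_sq hd i he), by rw [Units.val_mul, hhx, slotU_val, hev]⟩
    · rw [hc.slot_comm, mul_assoc, slot_mul, eich_neg h2 hf.uu hw.1, slot_one, mul_one]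
  choose w hw γ hγ hγM hxγ using hdec
  set ω : F → F := fun c => fd d n (w c) with hω
  have hsl : ∀ (a : Fin k → F) (w : Fin k → F) (γ : Mt (s + 1) k F), Com i γ →
      cf d i a v (slot i (eich d u w) * γ) = fd d a (eich d u w *ᵥ v) • γ := fun a w γ hc => by
    refine sl_ext (i := i) fun p q => ?_
    obtain ⟨e, he⟩ := com_iff_sl.1 hc p q
    rw [sl_cf, sl_slot_mul, sl_smul, he, mul_smul_comm, mul_one, Matrix.smul_mulVec, fd_smul_right, smul_smul,
      mul_comm]
  have hEv : ∀ w ∈ Pp d u v, fd d u (eich d u w *ᵥ v) = 1 ∧ fd d n (eich d u w *ᵥ v) = fd d n w := fun w hw => by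
    rw [eich_mulVec]
    simp [fd_add_right, fd_sub_right, fd_smul_right, hf.uu, hf.uv, hw.1, fd_symm d v w, hw.2, fd_symm d u n, hn.1,
      fd_symm d v n, hn.2]
  have hu1 : ∀ c, cf d i u v (x c) = γ c := fun c => by
    rw [hxγ c, hsl u _ _ (hγ c), (hEv _ (hw c)).1, one_smul]
  have hn1 : ∀ c, cf d i n v (x c) = ω c • γ c := fun c => by
    rw [hxγ c, hsl n _ _ (hγ c), (hEv _ (hw c)).2]
  have hν1 : cf d i n v (1 : Mt (s + 1) k F) = 0 := by
    have := hsl n 0 1 (com_one i)
    rw [eich_zero, slot_one, one_mul, Matrix.one_mulVec, fd_symm d v n, hn.2, zero_smul] at this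
    exact this
  have hγγ : ∀ c, γ c * γ (-c) = 1 ∧ ω (-c) = -ω c := by
    intro c
    have e := hxx c (-c)
    rw [add_neg_cancel, hx0, hxγ c, hxγ (-c), mul_assoc, ← mul_assoc (γ c), ← (hγ c).slot_comm, mul_assoc,
      ← mul_assoc (slot i _), slot_mul, eich_mul h2 hf.uu (hw c).1 (hw (-c)).1] at e
    have hc := (hγ c).mul (hγ (-c))
    have hwm := (Pp d u v).add_mem (hw c) (hw (-c))
    have e1 := congrArg (cf d i u v) e
    rw [hsl u _ _ hc, (hEv _ hwm).1, one_smul, cf_of_com hD hf (com_one i)] at e1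
    have e2 := congrArg (cf d i n v) e
    rw [hsl n _ _ hc, (hEv _ hwm).2, hν1, fd_add_right, e1, smul_eq_zero, or_iff_left one_ne_zero] at e2
    exact ⟨e1, eq_neg_of_add_eq_zero_right e2⟩
  set P := cf d i n v N
  set T := cf d i n v Q
  set R := cf d i u v N
  set S := cf d i u v Q
  have hγe : ∀ c : F, γ c = 1 + c • R + (c * c) • S := fun c => by
    rw [← hu1, hxp, cf_add, cf_add, cf_smul, cf_smul, cf_of_com hD hf (com_one i)]
  have hωe : ∀ c : F, ω c • γ c = c • P + (c * c) • T := fun c => by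
    rw [← hn1, hxp, cf_add, cf_add, cf_smul, cf_smul, hν1, zero_add]
  by_cases hall : ∃ c : F, c ≠ 0 ∧ ω c = 0
  · exfalso
    obtain ⟨c, hc0, hc⟩ := hall
    have hxc : ∀ e, ω e = 0 → Com i (x e) := fun e he => by
      have : w e = 0 := by
        rw [hf.three_line hD h3 hn hnn (hw e)]
        simp only [hω] at he
        rw [he, zero_div, zero_smul]
      rw [hxγ e, this, eich_zero, slot_one, one_mul]
      exact hγ e
    have h1 := hxc c hc
    have h1' := hxc (-c) (by rw [(hγγ c).2, hc, neg_zero])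
    have hNc : Com i N := by
      have e : N = (2 * c)⁻¹ • (x c - x (-c)) := by
        rw [hxp, hxp]; match_scalars <;> field_simp <;> ring
      rw [e]; exact (h1.sub h1').smul _
    have hQc : Com i Q := by
      have e : Q = (2 * (c * c))⁻¹ • (x c + x (-c) - (2 : F) • (1 : Mt (s + 1) k F)) := by
        rw [hxp, hxp]; match_scalars <;> field_simp <;> ring
      rw [e]; exact ((h1.add h1').sub ((com_one i).smul _)).smul _
    refine hyn (com_of_cent hD hf hM hrec hs hg (fun e _ m hm => ?_) _)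
    have hm' : Com i (cj g⁻¹ (slot j (eich d u m))) := by
      rw [hf.three_line hD h3 hn hnn hm]
      show Com i (x _)
      rw [hxp]
      exact ((com_one i).add (hNc.smul _)).add (hQc.smul _)
    have := congrArg (cj g) (hm'.slot_comm (e : Matrix (Fin k) (Fin k) F))
    rw [cj_mul, cj_mul, cj_cj_inv] at this
    exact this.symm
  push Not at hall
  have hlin : ∀ c : F, ω c • (1 + (c * c) • S) = c • P := fun c => by
    have e1 := hωe c
    have e2 := hωe (-c)
    rw [(hγγ c).2, hγe (-c), neg_mul_neg] at e2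
    rw [hγe c] at e1
    have e : (2 : F) • (ω c • (1 + (c * c) • S)) = (2 : F) • (c • P) := by
      calc (2 : F) • (ω c • (1 + (c * c) • S))
          = ω c • (1 + c • R + (c * c) • S) - (-ω c) • (1 + (-c) • R + (c * c) • S) := by module
        _ = c • P + (c * c) • T - ((-c) • P + (c * c) • T) := by rw [e1, e2]
        _ = _ := by module
    exact smul_right_injective _ h2 e
  obtain ⟨r, hr0, hr1⟩ := exists_scale hD (hD.five h3)
  obtain ⟨σ, hσ⟩ : ∃ σ : F, S = σ • 1 := by
    have e1 := hlin 1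
    rw [one_mul, one_smul, one_smul] at e1
    have e := hlin r
    rw [← e1, smul_smul] at e
    have hne : r * ω 1 - ω r * (r * r) ≠ 0 := by
      intro h0
      have h' : (ω r - r * ω 1) • (1 : Mt (s + 1) k F) = 0 := by
        rw [← sub_eq_zero] at e
        rw [← e, show ω r • (1 + (r * r) • S) - (r * ω 1) • (1 + S) =
          (ω r - r * ω 1) • (1 : Mt (s + 1) k F) - (r * ω 1 - ω r * (r * r)) • S by module, h0, zero_smul, sub_zero]
      have h'' := sub_eq_zero.1 ((smul_eq_zero.1 h').resolve_right one_ne_zero)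
      rw [h'', show r * ω 1 - r * ω 1 * (r * r) = (r * ω 1) * (1 - r * r) by ring, mul_eq_zero,
        or_iff_right (mul_ne_zero hr0 (hall 1 one_ne_zero)), sub_eq_zero] at h0
      exact hr1 h0.symm
    refine ⟨(ω r - r * ω 1) / (r * ω 1 - ω r * (r * r)), ?_⟩
    have h' : (r * ω 1 - ω r * (r * r)) • S = (ω r - r * ω 1) • (1 : Mt (s + 1) k F) := by
      rw [eq_comm, ← sub_eq_zero, show (ω r - r * ω 1) • (1 : Mt (s + 1) k F) - (r * ω 1 - ω r * (r * r)) • S =
        ω r • (1 + (r * r) • S) - (r * ω 1) • (1 + S) by module, e, sub_self]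
    rw [div_eq_inv_mul, ← smul_smul, ← h', smul_smul, inv_mul_cancel₀ hne, one_smul]
  have hRR : ∀ c : F, c ≠ 0 → R * R = (2 * σ + (c * c) * (σ * σ)) • 1 := fun c hc => by
    have e := (hγγ c).1
    rw [hγe, hγe, hσ, neg_mul_neg] at e
    simp only [add_mul, mul_add, smul_mul_assoc, mul_smul_comm, one_mul, mul_one, smul_smul, smul_add] at e
    rw [← sub_eq_zero] at e
    have e' : (c * c) • ((2 * σ + (c * c) * (σ * σ)) • (1 : Mt (s + 1) k F) - R * R) = 0 := by
      rw [← e]; match_scalars <;> ring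
    exact (sub_eq_zero.1 ((smul_eq_zero.1 e').resolve_left (mul_ne_zero hc hc))).symm
  have hσ0 : σ = 0 := by
    have e := (hRR 1 one_ne_zero).symm.trans (hRR r hr0)
    have := smul_left_injective F (one_ne_zero (α := Mt (s + 1) k F)) e
    have h' : (1 - r * r) * (σ * σ) = 0 := by linear_combination this
    exact mul_self_eq_zero.1 ((mul_eq_zero.1 h').resolve_left (fun h => hr1 (sub_eq_zero.1 h).symm))
  have hRsq : R * R = 0 := by rw [hRR 1 one_ne_zero, hσ0]; simp
  have hγ1 : γ 1 = 1 := by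
    obtain ⟨G, hGM, hGv⟩ := hγM 1
    have hGc : Com i (G : Mt (s + 1) k F) := hGv ▸ hγ 1
    have hGw := hM.com_wreath hD hrec hs hGM hGc
    rw [← hGv]
    by_contra hne
    have hG1 : (G : Mt (s + 1) k F) - 1 = R := by rw [hGv, hγe, hσ, hσ0]; simp
    obtain ⟨l, A, hA⟩ := classify_wreath_odd h2 (by omega) hGw (by rw [hG1, hRsq]) hne
    have hGe : (G : Mt (s + 1) k F) = slot l (1 + A) := by rw [slot_add, slot_one, ← hA, add_sub_cancel]
    have hAA : A * A = 0 := slot_injective l (by rw [← slot_mul, ← hA, hG1, hRsq, slot_zero])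
    let h : GL (Fin k) F := ⟨1 + A, 1 - A, by rw [add_mul, one_mul, mul_sub, mul_one, hAA, sub_zero]; abel, by
      rw [sub_mul, mul_add, mul_add, one_mul, mul_one, hAA, add_zero, one_mul]; abel⟩
    have hh : h ∈ isoG d := (mem_isoG hd).2 (slot_injective l (by
      show slot l (sa d (1 + A) * (1 + A)) = (slot l 1 : Mt (s + 1) k F)
      rw [slot_one, ← slot_mul, ← sa_slot hd, ← hGe, (mem_isoG (dt_ne hd)).1 (hM.iso hGM)]))
    have hA0 := skew_sq_zero hD hf (by omega) (skew_of_sq_zero hd hh rfl hAA) hAA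
    exact hne (by rw [hGe, hA0, add_zero, slot_one])
  have hx1 := hxγ 1
  rw [hγ1, mul_one] at hx1
  have hw1 : fd d (w 1) (w 1) ≠ 0 := by
    have h0 : fd d n (w 1) ≠ 0 := hall 1 one_ne_zero
    rw [hf.three_line hD h3 hn hnn (hw 1), fd_smul_left, fd_smul_right]
    exact mul_ne_zero (div_ne_zero h0 hnn) (mul_ne_zero (div_ne_zero h0 hnn) hnn)
  refine pres_of_fix hD hf hM hrec hs hg (c := fd d n n / fd d (w 1) (w 1)) ?_
  simp only [hx, one_smul] at hx1
  have e : cj g⁻¹ (slot j ((eich d u n - 1) * (eich d u n - 1))) =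
      (slot i ((eich d u (w 1) - 1) * (eich d u (w 1) - 1)) : Mt (s + 1) k F) := by
    rw [← slot_mul, cj_mul, slot_sub, slot_one, cj_sub, cj_one, hx1, ← slot_mul, slot_sub, slot_one]
  rw [eich_sub_one_sq hD hf hn, eich_sub_one_sq hD hf (hw 1), slot_smul, slot_smul, cj_smul] at e
  have e' := congrArg (cj g) e
  rw [cj_smul, cj_smul, cj_cj_inv] at e'
  rw [div_eq_inv_mul, ← smul_smul, show fd d n n • slot j (vd d u u) = -((-fd d n n) • (slot j (vd d u u) : Mt (s + 1) k F))
    by module, e', ← neg_smul, neg_neg, smul_smul, inv_mul_cancel₀ hw1, one_smul]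

/-- The contraction of the Eichler element in dimension three. -/
lemma homotopy (h3 : k = 3) {n : Fin k → F} (hn : n ∈ Pp d u v) (hnn : fd d n n ≠ 0) :
    ∃ K L : Matrix (Fin k) (Fin k) F, (eich d u n - 1) * K + L * (eich d u n - 1) = 1 := by
  refine ⟨-(fd d n n)⁻¹ • vd d n v + (fd d n n)⁻¹ • vd d (v - (2 : F)⁻¹ • n) n, (fd d n n)⁻¹ • vd d v n,
    hf.ext hD.ne fun a b _ hb => ?_⟩
  congr 1
  have h2 := hD.two
  have hb' : b = u ∨ b = v ∨ ∃ c : F, b = c • n := by
    rcases hb with h | h | h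
    · exact Or.inl h
    · exact Or.inr (Or.inl h)
    · exact Or.inr (Or.inr ⟨_, hf.three_line hD h3 hn hnn h⟩)
  have hnu : fd d n u = 0 := by rw [fd_symm, hn.1]
  have hnv : fd d n v = 0 := by rw [fd_symm, hn.2]
  simp only [Matrix.add_mulVec, Matrix.sub_mulVec, ← Matrix.mulVec_mulVec, Matrix.one_mulVec, Matrix.smul_mulVec,
    vd_mulVec, eich_mulVec, Matrix.mulVec_add, Matrix.mulVec_sub, Matrix.mulVec_smul, Matrix.neg_mulVec,
    Matrix.mulVec_neg]
  rcases hb' with rfl | rfl | ⟨c, rfl⟩ <;>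
    simp only [fd_add_right, fd_sub_right, fd_smul_right, fd_neg_right, hf.uu, hf.vv, hf.uv, hf.vu, hn.1, hn.2, hnu,
      hnv] <;> match_scalars <;> field_simp <;> ring

omit hD hf in
lemma eq_three {σ : Equiv.Perm (Fin t)} {p : ℕ} (hp : p.Prime) {j : Fin t} (hpj : (σ ^ p) j = j)
    (h3 : σ (σ (σ j)) = j) (hne : σ j ≠ j) : p = 3 := by
  have hit : ∀ r : ℕ, (σ ^ (3 * r)) j = j := fun r => by
    induction r with
    | zero => simp
    | succ r ih =>
      rw [Nat.mul_succ, pow_add, Equiv.Perm.mul_apply, show (σ ^ 3) j = j from ?_, ih]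
      rw [pow_succ, pow_succ, pow_one]
      exact h3
  by_contra hp'
  have hm : p % 3 ≠ 0 := fun e =>
    hp' ((Nat.prime_dvd_prime_iff_eq Nat.prime_three hp).1 (Nat.dvd_of_mod_eq_zero e)).symm
  rw [show p = p % 3 + 3 * (p / 3) from (Nat.mod_add_div p 3).symm, pow_add, Equiv.Perm.mul_apply, hit] at hpj
  rcases (show p % 3 = 1 ∨ p % 3 = 2 by omega) with e | e <;> rw [e] at hpj
  · exact hne (by simpa using hpj)
  · exact hne (by rw [show σ j = σ ((σ ^ 2) j) by rw [hpj], pow_two]; exact h3)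

/-- A wreath element of the type of an Eichler element does not fix all the factors it fixes pointwise. -/
theorem three_exists (h3 : k = 3) {g : GL (Fin t → Fin k) F} {i : Fin t} {n : Fin k → F} (hn : n ∈ Pp d u v)
    (hnn : fd d n n ≠ 0) {y : GL (Fin t → Fin k) F} (hyv : (y : Mt t k F) = cj g (slot i (eich d u n)))
    {a : Fin t → GL (Fin k) F} {σ : Equiv.Perm (Fin t)}
    (hy : (y : Mt t k F) = tens (fun l => (a l : Matrix (Fin k) (Fin k) F)) * permMat k σ) :
    ∃ j, σ j = j ∧ ∀ c : F, (a j : Matrix (Fin k) (Fin k) F) ≠ c • 1 := by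
  classical
  by_contra hc
  push Not at hc
  have hk2 : 2 ≤ k := by omega
  obtain ⟨p, hp, hp3, hchar⟩ := hD.exists_char
  have hY : (y : Mt t k F) - 1 = cj g (slot i (eich d u n - 1)) := by
    rw [hyv, slot_sub, slot_one, cj_sub, cj_one]
  have hcube : ((y : Mt t k F) - 1) * (((y : Mt t k F) - 1) * ((y : Mt t k F) - 1)) = 0 := by
    rw [hY, ← cj_mul, ← cj_mul, slot_mul, slot_mul, eich_sub_one_cube hD hf hn, slot_zero, cj_zero]
  have hone := eq_one_of_pow y hp hp3 hcube
  have hσ3 := perm_cube hy hk2 hp hp3 hcube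
  let rep : Fin t → Prop := fun j => j ≤ σ j ∧ j ≤ σ (σ j)
  set P : Fin t → GL (Fin k) F := fun l =>
    if rep l then 1 else if rep (σ.symm l) then a l else a l * a (σ.symm l) with hP
  have hsc : ∀ l, ∃ c : F, (((P l)⁻¹ * a l * P (σ.symm l) : GL (Fin k) F) : Matrix (Fin k) (Fin k) F) = c • 1 := by
    intro l
    have hs : σ.symm l = σ (σ l) := σ.symm_apply_eq.2 (hσ3 l).symm
    have hcase : rep l ∨ rep (σ l) ∨ rep (σ (σ l)) := by
      simp only [rep, hσ3 l]
      simp only [Fin.le_def]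
      omega
    by_cases hfix : σ l = l
    · obtain ⟨c, hc⟩ := hc l hfix
      refine ⟨c, ?_⟩
      have hl : rep l := ⟨le_of_eq hfix.symm, le_of_eq (by rw [hfix, hfix])⟩
      simp [hP, hs, hfix, hl, hc]
    by_cases hl : rep l
    · obtain rfl := eq_three hp (perm_pow_eq_one hy hk2 hone l) (hσ3 l) hfix
      obtain ⟨c, hc⟩ := triple_scalar hy hone (hσ3 l)
      refine ⟨c, ?_⟩
      have h2 : ¬ rep (σ (σ l)) := fun h => hfix (by
        have e : σ (σ l) = l := le_antisymm (by simpa [hσ3 l] using h.1) hl.2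
        conv_lhs => rw [← e, hσ3 l])
      have h1 : ¬ rep (σ l) := fun h => hfix (le_antisymm (by simpa [hσ3 l] using h.2) hl.1)
      have hs2 : σ.symm (σ (σ l)) = σ l := σ.symm_apply_apply _
      rw [← hc]
      simp [hP, hs, hs2, hl, h1, h2, mul_assoc]
    refine ⟨1, ?_⟩
    by_cases h2 : rep (σ.symm l)
    · simp [hP, hl, h2]
    · have h1 : rep (σ.symm (σ.symm l)) := by
        rw [hs, σ.symm_apply_apply]
        exact (hcase.resolve_left hl).resolve_right (hs ▸ h2)
      simp [hP, hl, h2, h1]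
  choose γ hγ using hsc
  have hy' : (((tensUnit P)⁻¹ * y * tensUnit P : GL (Fin t → Fin k) F) : Mt t k F) =
      (∏ l, γ l) • permMat k σ := by
    rw [conj_shape hy P, funext hγ, tens_smul, tens_one, smul_mul_assoc, one_mul]
  obtain ⟨K, L, hKL⟩ := homotopy hD hf h3 hn hnn
  set Y' : Mt t k F := (∏ l, γ l) • permMat k σ - 1 with hY'
  have hYc : Y' = cj ((tensUnit P)⁻¹ * g) (slot i (eich d u n - 1)) := by
    rw [cj_comp, ← hY, cj_sub, cj_one, hY', ← hy']
    simp [cj, mul_assoc]
  have hid : Y' * cj ((tensUnit P)⁻¹ * g) (slot i K) + cj ((tensUnit P)⁻¹ * g) (slot i L) * Y' = 1 := by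
    rw [hYc, ← cj_mul, ← cj_mul, ← cj_add, slot_mul, slot_mul, ← slot_add, hKL, slot_one, cj_one]
  set x₀ : Fin t → Fin k := fun _ => 0
  have hl : ∀ Z : Mt t k F, (Y' * Z) x₀ x₀ = ((∏ l, γ l) - 1) * Z x₀ x₀ := fun Z => by
    rw [hY', sub_mul, one_mul, smul_mul_assoc, Matrix.sub_apply, Matrix.smul_apply, permMat_mul_apply, smul_eq_mul]
    rw [show x₀ ∘ σ = x₀ from rfl]; ring
  have hr : ∀ Z : Mt t k F, (Z * Y') x₀ x₀ = ((∏ l, γ l) - 1) * Z x₀ x₀ := fun Z => by
    rw [hY', mul_sub, mul_one, mul_smul_comm, Matrix.sub_apply, Matrix.smul_apply, mul_permMat_apply, smul_eq_mul]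
    rw [show x₀ ∘ σ.symm = x₀ from rfl]; ring
  have hc1 : (∏ l, γ l) - 1 = 0 := by
    have e : Y' * (Y' * Y') = 0 := by
      rw [hYc, ← cj_mul, ← cj_mul, slot_mul, slot_mul, eich_sub_one_cube hD hf hn, slot_zero, cj_zero]
    have e' := congrFun (congrFun e x₀) x₀
    rw [hl, hl, show Y' x₀ x₀ = (Y' * (1 : Mt t k F)) x₀ x₀ by rw [mul_one], hl, Matrix.one_apply_eq, mul_one,
      Matrix.zero_apply] at e'
    exact pow_eq_zero_iff (n := 3) (by norm_num) |>.1 (by rw [pow_three]; exact e')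
  have := congrFun (congrFun hid x₀) x₀
  rw [Matrix.add_apply, hl, hr, hc1, zero_mul, zero_mul, add_zero, Matrix.one_apply_eq] at this
  exact one_ne_zero this.symm

end CfsgLib.Geo.TensorPow.O
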