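/-
A member sending an anisotropic Eichler element of a factor into the wreath group lies in the wreath group.
-/
import Cfsg.Agent.Geo.TensorPow.O.Three
import Cfsg.Agent.Geo.TensorPow.Semi

set_option autoImplicit false
set_option linter.unusedSectionVars false

namespace CfsgLib.Geo.TensorPow.O

open Matrix Cfsg.Geo CfsgLib.Aschbacher
open CfsgLib.Geo.TensorPow.U (mem_wreath_one)
open scoped MatrixGroups

variable {F : Type*} [Field F] [Fintype F] {s k : ℕ} [NeZero k] {d u v : Fin k → F}

lemma cols_ds_rows (R Ψ : Fin k → Fin k → F) (S : Finset (Fin k)) :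
    colsM R * ds S * rowsM Ψ = ∑ p ∈ S, Matrix.vecMulVec (R p) (Ψ p) := by
  classical
  ext a b
  rw [Matrix.mul_apply, Matrix.sum_apply]
  simp only [ds, Matrix.mul_diagonal, Matrix.vecMulVec_apply, colsM, rowsM, Matrix.transpose_apply, Matrix.of_apply,
    mul_ite, mul_one, mul_zero, ite_mul, zero_mul]
  rw [← Finset.sum_filter]
  exact Finset.sum_congr (by ext; simp) fun _ _ => rfl

variable (hD : Dat d) (hf : Fr d u v)
include hD hf

lemma rank_eich {t : ℕ} (i j : Fin t) {n : Fin k → F} (hn : n ∈ Pp d u v) {p0 p1 : Fin k} (h01 : p0 ≠ p1) :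
    (slot i (eich d u n - 1) : Mt t k F).rank ≤ (slot j (ds {p0, p1}) : Mt t k F).rank ∧
      (slot i ((eich d u n - 1) * (eich d u n - 1)) : Mt t k F).rank ≤ (slot j (ds {p0}) : Mt t k F).rank := by
  classical
  set R : Fin k → Fin k → F := fun a => if a = p0 then n else if a = p1 then u else 0 with hR
  set Ψ : Fin k → Fin k → F := fun a => if a = p0 then (fun b => d b * u b)
    else if a = p1 then (fun b => d b * (-(n + (fd d n n / 2) • u)) b) else 0 with hΨ
  set R' : Fin k → Fin k → F := fun a => if a = p0 then (-fd d n n) • u else 0 with hR'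
  set Ψ' : Fin k → Fin k → F := fun a => if a = p0 then (fun b => d b * u b) else 0 with hΨ'
  have e1 : eich d u n - 1 = colsM R * ds {p0, p1} * rowsM Ψ := by
    rw [cols_ds_rows, Finset.sum_pair h01]
    simp only [hR, hΨ, if_pos, if_neg h01.symm]
    show _ = vd d n u + vd d u (-(n + (fd d n n / 2) • u))
    rw [eich, wg, vd_neg_right, vd_add_right, vd_smul_right]
    abel
  have e2 : (eich d u n - 1) * (eich d u n - 1) = colsM R' * ds {p0} * rowsM Ψ' := by
    rw [cols_ds_rows, Finset.sum_singleton, eich_sub_one_sq hD hf hn]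
    simp only [hR', hΨ', if_pos]
    show _ = vd d ((-fd d n n) • u) u
    rw [vd_smul_left]
  exact ⟨by rw [e1, ← rank_slot_swap i j]; exact rank_slot_le _ _ _ _,
    by rw [e2, ← rank_slot_swap i j]; exact rank_slot_le _ _ _ _⟩

variable {M : Subgroup (GL (Fin (s + 1) → Fin k) F)}

/-- A member sending an anisotropic Eichler element into the wreath group maps the factor to a factor. -/
theorem exists_pres (hM : Bad d M) (hrec : Rec d (s + 1)) (hs : 1 ≤ s) {g : GL (Fin (s + 1) → Fin k) F} (hg : g ∈ M)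
    {i : Fin (s + 1)} {n : Fin k → F} (hn : n ∈ Pp d u v) (hnn : fd d n n ≠ 0) {y : GL (Fin (s + 1) → Fin k) F}
    (hy : y ∈ tensorWreathStandard k (s + 1) F) (hyv : (y : Mt (s + 1) k F) = cj g (slot i (eich d u n))) :
    ∃ j, Pres g i j := by
  classical
  have hd := hD.ne
  have h2 := hD.two
  have hk := hD.three
  obtain ⟨e, he, hev⟩ := eich_mem_sqG h2 hd hf.uu hn.1
  have hyM : y ∈ M := by
    rw [show y = g * slotU i e * g⁻¹ from Units.ext (by rw [hyv, cj, Units.val_mul, Units.val_mul, slotU_val, hev])]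
    exact M.mul_mem (M.mul_mem hg (hM.toBase.slot_sq hd i he)) (M.inv_mem hg)
  have hY : (y : Mt (s + 1) k F) - 1 = cj g (slot i (eich d u n - 1)) := by
    rw [hyv, slot_sub, slot_one, cj_sub, cj_one]
  have hYY : ((y : Mt (s + 1) k F) - 1) * ((y : Mt (s + 1) k F) - 1) =
      cj g (slot i ((eich d u n - 1) * (eich d u n - 1))) := by
    rw [hY, ← cj_mul, slot_mul]
  suffices H : ∃ j, ∃ h ∈ sqG d, Pres (slotU j h * g) i j by
    obtain ⟨j, h, -, hP⟩ := H
    refine ⟨j, ?_⟩
    have := hP.mul (pres_slotU j h⁻¹)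
    rwa [map_inv, inv_mul_cancel_left] at this
  by_cases h3 : k = 3
  · obtain ⟨p, hp, hp3, hchar⟩ := hD.exists_char
    haveI := Fact.mk hp
    obtain ⟨a, σ, hya⟩ := exists_tens_perm hy
    obtain ⟨j, hj, hja⟩ := three_exists hD hf h3 hn hnn hyv hya
    have hcube : ((y : Mt (s + 1) k F) - 1) * (((y : Mt (s + 1) k F) - 1) * ((y : Mt (s + 1) k F) - 1)) = 0 := by
      rw [hYY, hY, ← cj_mul, slot_mul, eich_sub_one_cube hD hf hn, slot_zero, cj_zero]
    have hone := eq_one_of_pow y hp hp3 hcube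
    obtain ⟨c, q, hc, hq, haq, hqp, hqn⟩ :=
      exists_normal hD hp (pow_scalar hya hone hj) (sa_mul_scalar hya hd (hM.iso hyM) hj)
    have hq1 : q ≠ 1 := fun h => hja c (by rw [haq, h, Units.val_one])
    obtain ⟨z, hz0, hz, hqz⟩ := exists_fixed_iso hD hq hqn hq1
    obtain ⟨h, hh, c', hc', hhz⟩ := exists_move hD hf hz0 hz
    have hhi := sqG_le d hh
    obtain ⟨H, hH⟩ : ∃ H, H = h * q * h⁻¹ := ⟨_, rfl⟩
    have hHn : ((H : Matrix (Fin k) (Fin k) F) - 1) ^ p = 0 := by
      have e : H ^ p = 1 := by rw [hH, conj_pow, hqp, mul_one, mul_inv_cancel]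
      rw [sub_pow_char_of_commute p (Commute.one_right _), ← Units.val_pow_eq_pow_val, e, Units.val_one, one_pow,
        sub_self]
    have hHu : (H : Matrix (Fin k) (Fin k) F) *ᵥ u = u := by
      have e : (h : Matrix (Fin k) (Fin k) F) *ᵥ (c'⁻¹ • z) = u := by
        rw [Matrix.mulVec_smul, hhz, smul_smul, inv_mul_cancel₀ hc', one_smul]
      rw [hH, Units.val_mul, Units.val_mul, ← Matrix.mulVec_mulVec, ← Matrix.mulVec_mulVec]
      conv_lhs => arg 2; arg 2; rw [← e]
      rw [Matrix.mulVec_mulVec _ _ (h : Matrix (Fin k) (Fin k) F), Units.inv_mul, Matrix.one_mulVec,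
        Matrix.mulVec_smul, hqz, Matrix.mulVec_smul, hhz, smul_smul, inv_mul_cancel₀ hc', one_smul]
    obtain ⟨w, hw, hHw⟩ := eich_of_fix hD hf h3
      (hH ▸ (isoG d).mul_mem ((isoG d).mul_mem hhi hq) ((isoG d).inv_mem hhi))
      hHn hHu
    refine ⟨j, h, hh, three_fix hD hf h3 hM hrec hs (M.mul_mem (hM.toBase.slot_sq hd j hh) hg) hn hnn
      (fun m hm => ?_) fun hcom => ?_⟩
    · obtain ⟨em, hem, hemv⟩ := eich_mem_sqG h2 hd hf.uu hm.1
      have hcm : q * (h⁻¹ * em * h) = h⁻¹ * em * h * q := by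
        have hHc : H * em = em * H := Units.ext (by
          rw [Units.val_mul, Units.val_mul, hHw, hemv, eich_mul h2 hf.uu hw.1 hm.1, eich_mul h2 hf.uu hm.1 hw.1,
            add_comm])
        calc q * (h⁻¹ * em * h) = h⁻¹ * (H * em) * h := by rw [hH]; group
          _ = h⁻¹ * (em * H) * h := by rw [hHc]
          _ = _ := by rw [hH]; group
      set X : Matrix (Fin k) (Fin k) F := ((h⁻¹ * em * h : GL (Fin k) F) : Matrix (Fin k) (Fin k) F) with hX
      have hfix : cj y (slot j X) = slot j X := by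
        rw [cj_shape hya, hj]
        congr 1
        have e' : (((a j)⁻¹ : GL (Fin k) F) : Matrix (Fin k) (Fin k) F) =
            c⁻¹ • ((q⁻¹ : GL (Fin k) F) : Matrix (Fin k) (Fin k) F) := by
          refine Units.inv_eq_of_mul_eq_one_right ?_
          rw [haq, smul_mul_smul_comm, mul_inv_cancel₀ hc, Units.mul_inv, one_smul]
        rw [haq, e', smul_mul_assoc, smul_mul_smul_comm, mul_inv_cancel₀ hc, one_smul, hX, ← Units.val_mul,
          ← Units.val_mul, hcm, mul_inv_cancel_right]
      have hcy : Commute (y : Mt (s + 1) k F) (slot j X) := by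
        show _ * _ = _ * _
        conv_rhs => rw [← hfix]
        rw [cj, mul_assoc, Units.inv_mul, mul_one]
      have hkey : slot j (eich d u m) = cj (slotU j h) (slot j X : Mt (s + 1) k F) := by
        rw [cj_slot, hX, ← Units.val_mul, ← Units.val_mul, show h * (h⁻¹ * em * h) * h⁻¹ = em by group, hemv]
      rw [hkey, cj_comp, ← hyv]
      show _ * _ = _ * _
      rw [← cj_mul, ← cj_mul, hcy.eq]
    · rw [cj_comp, ← hyv] at hcom
      have h' : Com j (y : Mt (s + 1) k F) := by
        have := cj_slotU_com hcom h⁻¹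
        rw [map_inv] at this
        have e := cj_inv_cj (slotU j h) (y : Mt (s + 1) k F)
        rw [this] at e
        rw [← e]; exact hcom
      obtain ⟨c₀, hc₀⟩ := scalar_of_conj_fix (a := a j) fun X => slot_injective j (by
        have e := cj_shape hya j X
        rw [hj] at e
        rw [← e, cj, ← h'.slot_comm, mul_assoc, Units.mul_inv, mul_one])
      exact hja c₀ hc₀
  · have hk4 : 4 ≤ k := by omega
    have hZ : vd d u u ≠ (0 : Matrix (Fin k) (Fin k) F) := vd_ne_zero hd hf.u_ne hf.u_ne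
    have hne : ((y : Mt (s + 1) k F) - 1) * ((y : Mt (s + 1) k F) - 1) ≠ 0 := by
      rw [hYY, eich_sub_one_sq hD hf hn]
      intro h
      rw [← cj_zero g] at h
      exact smul_ne_zero (neg_ne_zero.2 hnn) hZ (slot_injective i ((cj_injective g h).trans (slot_zero i).symm))
    have hr := rank_eich hD hf i i hn (p0 := ⟨0, by omega⟩) (p1 := ⟨1, by omega⟩) (by simp)
    obtain ⟨j, A, z, c, hyA, hz0, hz, hc, hAA⟩ := one_slot hD hf hk4 hy (hM.iso hyM)
      (by rw [hYY, hY, ← cj_mul, slot_mul, eich_sub_one_cube hD hf hn, slot_zero, cj_zero]) hne i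
      (by rw [hY, rank_cj]; exact hr.1) (by rw [hYY, rank_cj]; exact hr.2)
    obtain ⟨h, hh, c', hc', hhz⟩ := exists_move hD hf hz0 hz
    refine ⟨j, h, hh, pres_of_fix hD hf hM hrec hs (M.mul_mem (hM.toBase.slot_sq hd j hh) hg)
      (c := (-fd d n n)⁻¹ * (c * (c' * c'))) ?_⟩
    have e : cj g (slot i (vd d u u)) = (-fd d n n)⁻¹ • c • slot j (vd d z z) := by
      have e1 := hYY
      rw [eich_sub_one_sq hD hf hn, slot_smul, cj_smul, hyA, slot_add, slot_one, add_sub_cancel_left, slot_mul, hAA,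
        slot_smul] at e1
      rw [e1, smul_smul, inv_mul_cancel₀ (neg_ne_zero.2 hnn), one_smul]
    rw [cj_comp, e, cj_smul, cj_smul, cj_slot, conj_vd hd (sqG_le d hh), hhz, vd_smul_left, vd_smul_right, slot_smul,
      slot_smul, smul_smul, smul_smul, smul_smul]
    congr 1
    ring

/-- A member sending an anisotropic Eichler element of a factor into the wreath group lies there. -/
theorem mem_of_eich (hM : Bad d M) (hrec : Rec d (s + 1)) {g : GL (Fin (s + 1) → Fin k) F} (hg : g ∈ M)
    {i : Fin (s + 1)} {n : Fin k → F} (hn : n ∈ Pp d u v) (hnn : fd d n n ≠ 0) {y : GL (Fin (s + 1) → Fin k) F}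
    (hy : y ∈ tensorWreathStandard k (s + 1) F) (hyv : (y : Mt (s + 1) k F) = cj g (slot i (eich d u n))) :
    g ∈ tensorWreathStandard k (s + 1) F := by
  classical
  have hd := hD.ne
  have hk := hD.three
  rcases Nat.eq_zero_or_pos s with rfl | hs
  · exact mem_wreath_one (by omega) g
  obtain ⟨j, hij⟩ := exists_pres hD hf hM hrec hs hg hn hnn hy hyv
  refine mem_wreath_of_pres (by omega) (by omega) fun l => ?_
  rcases eq_or_ne l i with rfl | hli
  · exact ⟨j, hij⟩
  obtain ⟨e, he, hev⟩ := eich_mem_sqG hD.two hd hf.uu hn.1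
  have hM' : g * slotU l e * g⁻¹ ∈ M := M.mul_mem (M.mul_mem hg (hM.toBase.slot_sq hd l he)) (M.inv_mem hg)
  have hv : ((g * slotU l e * g⁻¹ : GL (Fin (s + 1) → Fin k) F) : Mt (s + 1) k F) = cj g (slot l (eich d u n)) := by
    rw [cj, Units.val_mul, Units.val_mul, slotU_val, hev]
  exact exists_pres hD hf hM hrec hs hg hn hnn (hM.com_wreath hD hrec hs hM' (i := j)
    (by rw [hv]; exact hij.com (com_slot hli.symm _))) hv

end CfsgLib.Geo.TensorPow.O
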