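/-
The skew matrices of one factor have no two commuting ideals; the components in the sum over the factors.
-/
import Cfsg.Agent.Geo.TensorPow.O.Semi

set_option autoImplicit false
set_option linter.unusedSectionVars false

namespace CfsgLib.Geo.TensorPow.O

open Matrix Cfsg.Geo CfsgLib.Aschbacher
open scoped MatrixGroups

variable {F : Type*} [Field F] [Fintype F] {t k : ℕ} {d u v : Fin k → F}

/-- A set of skew matrices closed under the brackets with the skew matrices. -/
structure AdCl (d : Fin k → F) (W : Matrix (Fin k) (Fin k) F → Prop) : Prop where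
  skew : ∀ X, W X → sa d X = -X
  ad : ∀ X, W X → ∀ K, sa d K = -K → W (K * X - X * K)

variable (hD : Dat d) (hf : Fr d u v)
include hD hf

/-- A nonzero closed set contains a linear part at the vector of the pair. -/
lemma AdCl.exists_root {W : Matrix (Fin k) (Fin k) F → Prop} (hW : AdCl d W) {X : Matrix (Fin k) (Fin k) F}
    (hX : W X) (hX0 : X ≠ 0) : ∃ w ∈ Pp d u v, w ≠ 0 ∧ W (wg d w u) := by
  have hd := hD.ne
  have hnu : ∀ m ∈ Pp d u v, fd d m u = 0 ∧ fd d m v = 0 := fun m hm => ⟨by rw [fd_symm, hm.1], by rw [fd_symm, hm.2]⟩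
  have hsk : ∀ {Y : Matrix (Fin k) (Fin k) F}, sa d Y = -Y → ∀ a b, fd d a (Y *ᵥ b) = -fd d b (Y *ᵥ a) := by
    intro Y hY a b
    rw [fd_symm, fd_mulVec hd, hY, Matrix.neg_mulVec, fd_neg_right]
  have h2 := hD.two
  have hz : ∀ {Y : Matrix (Fin k) (Fin k) F}, sa d Y = -Y → ∀ a, fd d a (Y *ᵥ a) = 0 := by
    intro Y hY a
    have := hsk hY a a
    exact (mul_eq_zero.1 (show 2 * fd d a (Y *ᵥ a) = 0 by linear_combination this)).resolve_left h2
  have case1 : ∀ Y, W Y → prj d u v (Y *ᵥ u) ≠ 0 → ∃ w ∈ Pp d u v, w ≠ 0 ∧ W (wg d w u) := by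
    intro Y hY hw0
    set w := prj d u v (Y *ᵥ u) with hwd
    have hw : w ∈ Pp d u v := prj_mem hf _
    have hYs := hW.skew Y hY
    have hR : ∀ m ∈ Pp d u v, W (wg d ((2 * fd d m w) • m - fd d m m • w) u) := fun m hm => by
      have hN : sa d (wg d m u) = -wg d m u := sa_wg hd _ _
      have h := hW.ad _ (hW.ad _ hY _ hN) _ hN
      have hYu : Y *ᵥ u = fd d v (Y *ᵥ u) • u + w := by
        conv_lhs => rw [eq_smul_add (d := d) (u := u) (v := v) (Y *ᵥ u)]
        rw [hz hYs, zero_smul, add_zero]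
      have hmw : fd d m (Y *ᵥ u) = fd d m w := by
        rw [hYu, fd_add_right, fd_smul_right, (hnu m hm).1, mul_zero, zero_add]
      have e : wg d m u * (wg d m u * Y - Y * wg d m u) - (wg d m u * Y - Y * wg d m u) * wg d m u =
          wg d ((2 * fd d m w) • m - fd d m m • w) u := by
        have e1 : wg d m u * Y * wg d m u = -fd d m (Y *ᵥ u) • wg d m u := by
          simp only [wg, mul_sub, sub_mul, mul_assoc, mul_vd, vd_mulVec, vd_smul_left, hz hYs, hsk hYs u m]
          module
        have e2 : vd d u u * Y + Y * vd d u u = wg d w u := by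
          rw [vd_mul hd, mul_vd, hYs, Matrix.neg_mulVec, vd_neg_right, hYu, vd_add_left, vd_add_right, vd_smul_left,
            vd_smul_right, wg]
          abel
        rw [mul_sub, sub_mul, ← mul_assoc, ← mul_assoc, mul_assoc Y, nm_mul hf hm hm, smul_mul_assoc, mul_smul_comm,
          e1, hmw]
        rw [sub_eq_add_neg ((2 * fd d m w) • m), ← neg_smul, wg_add_left, wg_smul_left, wg_smul_left, ← e2]
        module
      rw [← e]; exact h
    by_cases hww : fd d w w = 0
    · obtain ⟨m, hm, hmm, hmw⟩ := exists_aniso_meet hD hf hw hw0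
      refine ⟨_, (Pp d u v).sub_mem ((Pp d u v).smul_mem _ hm) ((Pp d u v).smul_mem _ hw), fun e => ?_, hR m hm⟩
      have := congrArg (fd d w) e
      rw [fd_sub_right, fd_smul_right, fd_smul_right, hww, mul_zero, sub_zero, fd_zero_right, fd_symm d m w] at this
      exact mul_ne_zero (mul_ne_zero h2 hmw) hmw this
    · refine ⟨_, (Pp d u v).sub_mem ((Pp d u v).smul_mem _ hw) ((Pp d u v).smul_mem _ hw), fun e => ?_, hR w hw⟩
      rw [← sub_smul, smul_eq_zero, or_iff_left hw0] at e
      exact hww (by linear_combination e)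
  by_cases hXu : prj d u v (X *ᵥ u) = 0
  swap
  · exact case1 X hX hXu
  by_cases hY : ∃ m ∈ Pp d u v, prj d u v ((wg d m v * X - X * wg d m v) *ᵥ u) ≠ 0
  · obtain ⟨m, -, hm⟩ := hY
    exact case1 _ (hW.ad X hX _ (sa_wg hd _ _)) hm
  push Not at hY
  have hXs := hW.skew X hX
  set α := fd d v (X *ᵥ u) with hα
  have hXu' : X *ᵥ u = α • u := by
    conv_lhs => rw [eq_smul_add (d := d) (u := u) (v := v) (X *ᵥ u)]
    rw [hz hXs, hXu, zero_smul, add_zero, add_zero]
  have hXm : ∀ m ∈ Pp d u v, prj d u v (X *ᵥ m) = α • m := fun m hm => by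
    have h := hY m hm
    have e : (wg d m v * X - X * wg d m v) *ᵥ u = α • m - X *ᵥ m := by
      rw [Matrix.sub_mulVec, ← Matrix.mulVec_mulVec, ← Matrix.mulVec_mulVec, hXu', Matrix.mulVec_smul, wg_mulVec,
        hf.vu, (hnu m hm).1, zero_smul, sub_zero, one_smul]
    rw [e] at h
    simp only [prj, fd_sub_right, fd_smul_right, hm.1, hm.2, mul_zero, zero_sub, neg_smul] at h
    rw [prj, eq_comm, ← sub_eq_zero, ← h]
    abel
  have hα0 : α = 0 := by
    obtain ⟨n, hn, hnn⟩ := hf.exists_aniso hD
    have e := congrArg (fd d n) (hXm n hn)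
    rw [fd_smul_right, prj, fd_sub_right, fd_sub_right, fd_smul_right, fd_smul_right, (hnu n hn).1, (hnu n hn).2,
      hz hXs] at e
    exact (mul_eq_zero.1 (show α * fd d n n = 0 by linear_combination -e)).resolve_right hnn
  set w := prj d u v (X *ᵥ v) with hwd
  have hw : w ∈ Pp d u v := prj_mem hf _
  have hXw : X = wg d w u := by
    have h1 : ∀ a, fd d a (X *ᵥ u) = 0 := fun a => by rw [hXu', hα0, zero_smul, fd_zero_right]
    have hmw : ∀ m ∈ Pp d u v, fd d m (X *ᵥ v) = fd d m w := fun m hm => by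
      rw [hwd, prj, fd_sub_right, fd_sub_right, fd_smul_right, fd_smul_right, (hnu m hm).1, (hnu m hm).2]
      ring
    refine hf.ext hd fun a b ha hb => ?_
    rw [wg_mulVec, fd_sub_right, fd_smul_right, fd_smul_right]
    rcases hb with hb | hb | hb
    · rw [hb, h1, hf.uu, (hnu w hw).1]; ring
    · rw [hb, hf.uv, (hnu w hw).2]
      rcases ha with ha | ha | ha
      · rw [ha, hw.1, hsk hXs, h1]; ring
      · rw [ha, hz hXs, hw.2]; ring
      · rw [hmw a ha]; ring
    · rw [hb.1]
      rcases ha with ha | ha | ha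
      · rw [ha, hsk hXs, h1, hf.uu]; ring
      · rw [ha, hsk hXs, hmw b hb, hf.vu, fd_symm d b w]; ring
      · have := hXm b hb
        rw [hα0, zero_smul] at this
        have e := congrArg (fd d a) this
        rw [prj, fd_sub_right, fd_sub_right, fd_smul_right, fd_smul_right, (hnu a ha).1, (hnu a ha).2,
          fd_zero_right] at e
        rw [(hnu a ha).1]
        linear_combination e
  exact ⟨w, hw, fun e => hX0 (by rw [hXw, e, wg_zero_left]), hXw ▸ hX⟩

/-- Two nonzero closed sets do not commute. -/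
theorem AdCl.not_comm {W W' : Matrix (Fin k) (Fin k) F → Prop} (hW : AdCl d W) (hW' : AdCl d W')
    {X X' : Matrix (Fin k) (Fin k) F} (hX : W X) (hX0 : X ≠ 0) (hX' : W' X') (hX'0 : X' ≠ 0) :
    ¬ ∀ A B, W A → W' B → A * B = B * A := by
  intro hc
  have hd := hD.ne
  have h2 := hD.two
  obtain ⟨w, hw, hw0, hwW⟩ := hW.exists_root hD hf hX hX0
  obtain ⟨w', hw', hw'0, hw'W⟩ := hW'.exists_root hD hf hX' hX'0
  have hnu : ∀ m ∈ Pp d u v, fd d m u = 0 ∧ fd d m v = 0 := fun m hm => ⟨by rw [fd_symm, hm.1], by rw [fd_symm, hm.2]⟩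
  have key : ∀ m ∈ Pp d u v, fd d w w' • m = fd d m w • w' + fd d m w' • w := by
    intro m hm
    have h := congrArg (· *ᵥ v) (hc _ _ hwW (hW'.ad _ hw'W (wg d m v) (sa_wg hd _ _)))
    simp only [← Matrix.mulVec_mulVec, Matrix.sub_mulVec, Matrix.mulVec_sub, wg_mulVec, Matrix.mulVec_smul,
      fd_sub_right, fd_smul_right, hf.uu, hf.vv, hf.uv, hf.vu, hw.1, hw.2, hw'.1, hw'.2, hm.1, hm.2, (hnu m hm).1,
      (hnu m hm).2, (hnu w hw).1, (hnu w hw).2, (hnu w' hw').1, (hnu w' hw').2, zero_smul, mul_zero, sub_zero,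
      zero_sub, one_smul, mul_one, fd_symm d w w', fd_symm d m w, fd_symm d m w', fd_neg_right, fd_zero_right, neg_zero,
      smul_zero] at h
    rw [← sub_eq_zero] at h
    first
      | (rw [← sub_eq_zero]; rw [← h]; module)
      | (rw [eq_comm, ← sub_eq_zero]; rw [← h]; module)
  by_cases hc0 : fd d w w' = 0
  · obtain ⟨m, hm, -, hmw⟩ := exists_aniso_meet hD hf hw hw0
    have e := key m hm
    rw [hc0, zero_smul] at e
    have hw'' : w' = (-(fd d m w)⁻¹ * fd d m w') • w := by
      have : fd d m w • w' = -(fd d m w' • w) := eq_neg_of_add_eq_zero_left e.symm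
      calc w' = (fd d m w)⁻¹ • (fd d m w • w') := by rw [smul_smul, inv_mul_cancel₀ hmw, one_smul]
        _ = _ := by rw [this, smul_neg, smul_smul, neg_mul, neg_smul]
    obtain ⟨l, rfl⟩ : ∃ l, w' = l • w := ⟨_, hw''⟩
    rw [fd_smul_right, smul_smul, ← add_smul, eq_comm, smul_eq_zero, or_iff_left hw0] at e
    have hl : l ≠ 0 := fun h => hw'0 (by rw [h, zero_smul])
    exact mul_ne_zero (mul_ne_zero h2 hl) hmw (by linear_combination e)
  · have hqw : fd d w w = 0 := by
      have e := key w hw
      rw [← sub_eq_zero] at e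
      have e' : fd d w w • w' = 0 := by
        have : fd d w w • w' = -(fd d w w' • w - (fd d w w • w' + fd d w w' • w)) := by module
        rw [this, e, neg_zero]
      exact (smul_eq_zero.1 e').resolve_right hw'0
    have hqw' : fd d w' w' = 0 := by
      have e := key w' hw'
      rw [fd_symm d w w', ← sub_eq_zero] at e
      have e' : fd d w' w' • w = 0 := by
        have : fd d w' w' • w = -(fd d w w' • w' - (fd d w w' • w' + fd d w' w' • w)) := by module
        rw [this, e, neg_zero]
      exact (smul_eq_zero.1 e').resolve_right hw0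
    rcases (show k = 3 ∨ k = 4 ∨ 5 ≤ k by have := hD.three; omega) with h3 | h4 | h5
    · obtain ⟨n, hn, hnn⟩ := hf.exists_aniso hD
      have e := hf.three_line hD h3 hn hnn hw
      rw [e, fd_smul_left, fd_smul_right, ← mul_assoc, mul_eq_zero, or_iff_left hnn, mul_self_eq_zero] at hqw
      exact hw0 (by rw [e, hqw, zero_smul])
    · exact hw0 (hf.four_aniso hD h4 hw hqw)
    · obtain ⟨c, hcP, hcc, hco⟩ := hf.exists_more hD (r := 2) (by omega) ![w + w', w - w']
        (fun j => by fin_cases j <;> [exact (Pp d u v).add_mem hw hw'; exact (Pp d u v).sub_mem hw hw'])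
        (fun j => by
          fin_cases j <;>
            simp [fd_add_left, fd_add_right, fd_sub_left, fd_sub_right, hqw, hqw', fd_symm d w w'] <;>
            intro h <;> exact mul_ne_zero h2 hc0 (by first | linear_combination h | linear_combination -h))
        (fun j j' h => by
          fin_cases j <;> fin_cases j' <;>
            simp [fd_add_left, fd_add_right, fd_sub_left, fd_sub_right, hqw, hqw', fd_symm d w w'] at h ⊢)
      have h0 := hco 0
      have h1 := hco 1
      simp [fd_add_left, fd_sub_left] at h0 h1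
      have e1 : fd d c w = 0 := by
        rw [fd_symm]; exact (mul_eq_zero.1 (show 2 * fd d w c = 0 by linear_combination h0 + h1)).resolve_left h2
      have e2 : fd d c w' = 0 := by
        rw [fd_symm]; exact (mul_eq_zero.1 (show 2 * fd d w' c = 0 by linear_combination h0 - h1)).resolve_left h2
      have e := key c hcP
      rw [e1, e2, zero_smul, zero_smul, add_zero, smul_eq_zero, or_iff_right hc0] at e
      exact hcc (by rw [e, fd_zero_left])

omit hf in
/-- A skew matrix is a combination of elementary skew matrices. -/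
lemma skew_eq_sum {A : Matrix (Fin k) (Fin k) F} (hA : sa d A = -A) :
    A = ∑ p, ((2 : F)⁻¹ * (d p)⁻¹) • wg d (A *ᵥ Pi.single p 1) (Pi.single p 1) := by
  have h1 : ∑ p, (d p)⁻¹ • vd d (Pi.single p (1 : F)) (Pi.single p 1) = (1 : Matrix (Fin k) (Fin k) F) := by
    ext a b
    rw [Matrix.sum_apply, Finset.sum_eq_single a]
    · rcases eq_or_ne a b with rfl | hab
      · simp [vd_apply, inv_mul_cancel₀ (hD.ne a)]
      · simp [vd_apply, hab, Ne.symm hab]
    · intro p _ hp; simp [vd_apply, Ne.symm hp]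
    · simp
  have e1 : A * 1 = ∑ p, (d p)⁻¹ • vd d (A *ᵥ Pi.single p 1) (Pi.single p 1) := by
    rw [← h1, Finset.mul_sum]
    simp only [mul_smul_comm, mul_vd]
  have e2 : 1 * A = -∑ p, (d p)⁻¹ • vd d (Pi.single p 1) (A *ᵥ Pi.single p 1) := by
    rw [← h1, Finset.sum_mul, ← Finset.sum_neg_distrib]
    refine Finset.sum_congr rfl fun p _ => ?_
    rw [smul_mul_assoc, vd_mul hD.ne, hA, Matrix.neg_mulVec, vd_neg_right, smul_neg]
  have e : (2 : F) • A = ∑ p, (d p)⁻¹ • wg d (A *ᵥ Pi.single p 1) (Pi.single p 1) := by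
    rw [two_smul]
    nth_rw 1 [← mul_one A]
    nth_rw 2 [← one_mul A]
    rw [e1, e2, ← sub_eq_add_neg, ← Finset.sum_sub_distrib]
    simp only [wg, smul_sub]
  calc A = (2 : F)⁻¹ • ((2 : F) • A) := by rw [smul_smul, inv_mul_cancel₀ hD.two, one_smul]
    _ = _ := by rw [e, Finset.smul_sum]; simp only [smul_smul]

/-- A sum over the factors of skew matrices. -/
def InL (d : Fin k → F) (X : Mt t k F) : Prop :=
  ∃ K : Fin t → Matrix (Fin k) (Fin k) F, (∀ l, sa d (K l) = -K l) ∧ X = ∑ l, slot l (K l)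

omit hD hf in
lemma InL.smul {X : Mt t k F} (h : InL d X) (c : F) : InL d (c • X) := by
  obtain ⟨K, hK, rfl⟩ := h
  exact ⟨fun l => c • K l, fun l => by rw [sa_smul, hK, smul_neg], by simp [Finset.smul_sum, slot_smul]⟩

omit hD hf in
lemma InL.sum {α : Type*} (s : Finset α) {f : α → Mt t k F} (h : ∀ a ∈ s, InL d (f a)) : InL d (∑ a ∈ s, f a) := by
  classical
  induction s using Finset.induction with
  | empty => exact ⟨0, fun l => by simp [sa_zero], by simp [slot_zero]⟩
  | insert a s ha ih =>
    obtain ⟨K, hK, hKv⟩ := h a (Finset.mem_insert_self a s)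
    obtain ⟨K', hK', hKv'⟩ := ih fun b hb => h b (Finset.mem_insert_of_mem hb)
    refine ⟨K + K', fun l => by rw [Pi.add_apply, sa_add, hK, hK', neg_add], ?_⟩
    rw [Finset.sum_insert ha, hKv, hKv', ← Finset.sum_add_distrib]
    simp [slot_add]

omit hf in
lemma sum_slot_inj [NeZero k] {K K' : Fin t → Matrix (Fin k) (Fin k) F} (hK : ∀ l, sa d (K l) = -K l)
    (hK' : ∀ l, sa d (K' l) = -K' l) (h : (∑ l, slot l (K l) : Mt t k F) = ∑ l, slot l (K' l)) : K = K' := by
  classical
  funext l
  have hb : ∀ (G : Fin t → Matrix (Fin k) (Fin k) F) P, slot l P * (∑ r, slot r (G r) : Mt t k F) -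
      (∑ r, slot r (G r)) * slot l P = slot l (P * G l - G l * P) := by
    intro G P
    rw [Finset.mul_sum, Finset.sum_mul, ← Finset.sum_sub_distrib, Finset.sum_eq_single l]
    · rw [slot_mul, slot_mul, slot_sub]
    · intro r _ hr; rw [slot_mul_comm hr.symm, sub_self]
    · simp
  obtain ⟨c, hc⟩ := scalar_of_forall_comm (A := K l - K' l) fun P => by
    have e := hb K P
    rw [h, hb K' P] at e
    have := slot_injective l e
    rw [mul_sub, sub_mul, ← sub_eq_zero]
    rw [← sub_eq_zero] at this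
    rw [← neg_zero, ← this]
    abel
  have e : sa d (c • (1 : Matrix (Fin k) (Fin k) F)) = -(c • 1) := by
    rw [← hc, sa_sub, hK, hK']; abel
  rw [sa_smul, sa_one hD.ne] at e
  have h0 := congrFun (congrFun e 0) 0
  simp at h0
  have : c = 0 := (mul_eq_zero.1 (show (2 : F) * c = 0 by linear_combination h0)).resolve_left hD.two
  rw [this, zero_smul] at hc
  exact sub_eq_zero.1 hc

/-- An automorphism of the sum of the factors permutes them. -/
theorem exists_single [NeZero k] {g : GL (Fin t → Fin k) F}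
    (hg : ∀ i A, sa d A = -A → InL d (cj g (slot i A))) (hg' : ∀ i A, sa d A = -A → InL d (cj g⁻¹ (slot i A)))
    (i : Fin t) {A : Matrix (Fin k) (Fin k) F} (hA : sa d A = -A) :
    ∃ l B, cj g (slot i A) = slot l B := by
  classical
  choose φ hφs hφ using hg
  choose ψ hψs hψ using hg'
  let W : Fin t → Fin t → Matrix (Fin k) (Fin k) F → Prop := fun i l X => ∃ A hA, X = φ i A hA l
  have hbr : ∀ {A B : Matrix (Fin k) (Fin k) F}, sa d A = -A → sa d B = -B → sa d (A * B - B * A) = -(A * B - B * A) := by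
    intro A B hA hB
    rw [sa_sub, sa_mul hD.ne, sa_mul hD.ne, hA, hB]
    noncomm_ring
  have hmul : ∀ i r A hA B hB, ∀ l, φ i A hA l * φ r B hB l - φ r B hB l * φ i A hA l =
      if h : r = i then φ i (A * B - B * A) (hbr hA hB) l else 0 := by
    intro i r A hA B hB
    have e : (∑ l, slot l (φ i A hA l * φ r B hB l - φ r B hB l * φ i A hA l) : Mt t k F) =
        cj g (slot i A * slot r B - slot r B * slot i A) := by
      rw [cj_sub, cj_mul, cj_mul, hφ i A hA, hφ r B hB]
      conv_rhs =>
        arg 1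
        rw [Finset.sum_mul]
      conv_rhs =>
        arg 2
        rw [Finset.mul_sum]
      rw [← Finset.sum_sub_distrib]
      refine Finset.sum_congr rfl fun l _ => ?_
      rw [Finset.mul_sum, Finset.sum_mul, ← Finset.sum_sub_distrib, Finset.sum_eq_single l]
      · rw [slot_mul, slot_mul, slot_sub]
      · intro m _ hm
        rw [slot_mul_comm hm.symm, sub_self]
      · simp
    by_cases h : r = i
    · subst h
      intro l
      rw [dif_pos rfl]
      refine congrFun (sum_slot_inj hD (fun l => hbr (hφs _ _ _ l) (hφs _ _ _ l)) (hφs r _ _) ?_) l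
      rw [e, ← hφ, slot_sub, slot_mul, slot_mul]
    · intro l
      rw [dif_neg h]
      refine congrFun (sum_slot_inj hD (K' := fun _ => 0) (fun l => hbr (hφs _ _ _ l) (hφs _ _ _ l))
        (fun l => by simp [sa_zero]) ?_) l
      rw [e, slot_mul_comm (Ne.symm h), sub_self, cj_zero]
      simp [slot_zero]
  have hdec : ∀ l K, ∀ hK : sa d K = -K, ∀ m, (if m = l then K else 0) = ∑ r, φ r (ψ l K hK r) (hψs l K hK r) m := by
    intro l K hK
    refine congrFun (sum_slot_inj hD (fun m => by split_ifs <;> simp [hK, sa_zero]) (fun m => ?_) ?_)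
    · induction (Finset.univ : Finset (Fin t)) using Finset.induction with
      | empty => simp [sa_zero]
      | insert r s hr ih => rw [Finset.sum_insert hr, sa_add, ih, hφs, neg_add]
    · rw [Finset.sum_eq_single l (fun m _ hm => by rw [if_neg hm, slot_zero]) (by simp), if_pos rfl]
      simp only [slot_sum]
      rw [Finset.sum_comm, ← cj_cj_inv g (slot l K), hψ l K hK]
      simp only [← hφ]
      induction (Finset.univ : Finset (Fin t)) using Finset.induction with
      | empty => simp [cj_zero]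
      | insert r s hr ih => rw [Finset.sum_insert hr, Finset.sum_insert hr, cj_add, ih]
  have hAd : ∀ i l, AdCl d (W i l) := fun i l => ⟨fun X ⟨A, hA, e⟩ => e ▸ hφs i A hA l, fun X ⟨A, hA, e⟩ K hK => by
    refine ⟨ψ l K hK i * A - A * ψ l K hK i, hbr (hψs l K hK i) hA, ?_⟩
    subst e
    have h := hdec l K hK l
    rw [if_pos rfl] at h
    refine (congrArg (fun Z => Z * φ i A hA l - φ i A hA l * Z) h).trans ?_
    beta_reduce
    rw [Finset.sum_mul, Finset.mul_sum, ← Finset.sum_sub_distrib, Finset.sum_eq_single i]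
    · rw [hmul, dif_pos rfl]
    · intro r _ hr
      rw [hmul, dif_neg (Ne.symm hr)]
    · simp⟩
  have huniq : ∀ i r l, (∃ A hA, φ i A hA l ≠ 0) → (∃ B hB, φ r B hB l ≠ 0) → i = r := by
    intro i r l ⟨A, hA, hA0⟩ ⟨B, hB, hB0⟩
    by_contra hne
    refine AdCl.not_comm hD hf (hAd i l) (hAd r l) ⟨A, hA, rfl⟩ hA0 ⟨B, hB, rfl⟩ hB0 ?_
    rintro X Y ⟨A', hA', rfl⟩ ⟨B', hB', rfl⟩
    have := hmul i r A' hA' B' hB' l
    rw [dif_neg (Ne.symm hne), sub_eq_zero] at this
    exact this
  obtain ⟨n, hn, hnn⟩ := hf.exists_aniso hD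
  have hN : sa d (wg d n u) = -wg d n u := sa_wg hD.ne _ _
  have hN0 : wg d n u ≠ 0 := fun e => hnn (by rw [nm_eq_zero hf hn e, fd_zero_left])
  have hex : ∀ l, ∃ i, ∃ A hA, φ i A hA l ≠ 0 := by
    intro l
    have h := hdec l (wg d n u) hN l
    rw [if_pos rfl] at h
    by_contra hcon
    push Not at hcon
    exact hN0 (h.trans (Finset.sum_eq_zero fun r _ => hcon r _ _))
  choose π hπ using hex
  have hsurj : Function.Surjective π := by
    intro i
    by_contra hcon
    push Not at hcon
    have e := hφ i (wg d n u) hN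
    rw [Finset.sum_eq_zero (fun l _ => ?_), ← cj_zero g] at e
    · exact hN0 (slot_injective i ((cj_injective g e).trans (slot_zero i).symm))
    · by_contra hne
      exact hcon l (huniq _ _ l (hπ l) ⟨_, hN, fun h => hne (by rw [h, slot_zero])⟩)
  obtain ⟨l, hl⟩ := hsurj i
  refine ⟨l, φ i A hA l, ?_⟩
  rw [hφ i A hA, Finset.sum_eq_single l]
  · intro m _ hm
    by_contra hne
    exact hm ((Finite.injective_iff_surjective.2 hsurj) ((huniq _ _ m (hπ m) ⟨A, hA, fun h => hne (by rw [h, slot_zero])⟩).trans hl.symm))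
  · simp

end CfsgLib.Geo.TensorPow.O
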