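/-
Forms with four arguments on a tensor power: values at vectors, the Casimir element of the skew matrices of
the factors, and the members fixing it.
-/
import Cfsg.Agent.Geo.TensorPow.O.So
import Cfsg.Agent.Geo.TensorPow.Forms

set_option autoImplicit false
set_option linter.unusedSectionVars false

namespace CfsgLib.Geo.TensorPow.O

open Matrix Cfsg.Geo CfsgLib.Aschbacher
open scoped MatrixGroups

variable {F : Type*} [Field F]

/-- Every argument is a vector. -/
def eT : Fin 4 → Bool := fun _ => true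

section ev

variable {t k : ℕ}

local notation "V" => ((Fin t → Fin k) → F)
local notation "C₄" => ((Fin 4 → Fin t → Fin k) → F)

/-- The value at four vectors. -/
def ev (X : C₄) (z : Fin 4 → V) : F := ∑ b, (∏ j, z j (b j)) * X b

lemma ev_act (g : GL (Fin t → Fin k) F) (X : C₄) (z : Fin 4 → V) :
    ev (act eT g X) z = ev X fun j => (g : Mt t k F) *ᵥ z j := by
  simp only [ev, act, Finset.mul_sum]
  rw [Finset.sum_comm]
  refine Finset.sum_congr rfl fun b _ => ?_
  simp only [← mul_assoc, ← Finset.sum_mul, ← Finset.prod_mul_distrib, Matrix.mulVec, dotProduct, eT, ent_true]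
  rw [Fintype.prod_sum fun j c => (g : Mt t k F) (b j) c * z j c]
  congr 1
  exact Finset.sum_congr rfl fun a _ => Finset.prod_congr rfl fun j _ => mul_comm _ _

lemma ev_single (X : C₄) (a : Fin 4 → Fin t → Fin k) : ev X (fun j => Pi.single (a j) 1) = X a := by
  rw [ev, Finset.sum_eq_single a]
  · simp
  · intro b _ hb
    obtain ⟨j, hj⟩ := Function.ne_iff.1 hb
    rw [Finset.prod_eq_zero (Finset.mem_univ j) (Pi.single_eq_of_ne hj 1), zero_mul]
  · simp

lemma ev_ext {X Y : C₄} (h : ∀ z, ev X z = ev Y z) : X = Y := funext fun a => by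
  rw [← ev_single X a, ← ev_single Y a, h]

lemma ev_sub (X Y : C₄) (z : Fin 4 → V) : ev (X - Y) z = ev X z - ev Y z := by
  simp only [ev, Pi.sub_apply, mul_sub, Finset.sum_sub_distrib]

lemma ev_sum {α : Type*} (s : Finset α) (f : α → C₄) (z : Fin 4 → V) :
    ev (∑ x ∈ s, f x) z = ∑ x ∈ s, ev (f x) z := by
  simp only [ev, Finset.sum_apply, Finset.mul_sum]
  exact Finset.sum_comm

lemma ev_zero (z : Fin 4 → V) : ev (0 : C₄) z = 0 := by simp [ev]

lemma ev_smul (c : F) (X : C₄) (z : Fin 4 → V) : ev (c • X) z = c * ev X z := by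
  simp only [ev, Pi.smul_apply, smul_eq_mul, Finset.mul_sum]
  exact Finset.sum_congr rfl fun b _ => by ring

lemma ev_update (X : C₄) (z : Fin 4 → V) (j : Fin 4) (x : V) :
    ev X (Function.update z j x) =
      ∑ b : Fin 4 → Fin t → Fin k, x (b j) * (∏ l ∈ Finset.univ.erase j, z l (b l)) * X b := by
  refine Finset.sum_congr rfl fun b _ => ?_
  rw [← Finset.mul_prod_erase _ _ (Finset.mem_univ j), Function.update_self]
  congr 2
  exact Finset.prod_congr rfl fun l hl => by rw [Function.update_of_ne (Finset.ne_of_mem_erase hl)]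

/-- The value as a linear function of one vector. -/
def evL (X : C₄) (z : Fin 4 → V) (j : Fin 4) : V →ₗ[F] F where
  toFun x := ev X (Function.update z j x)
  map_add' x y := by simp only [ev_update, Pi.add_apply, add_mul, Finset.sum_add_distrib]
  map_smul' c x := by simp only [ev_update, Pi.smul_apply, smul_eq_mul, Finset.mul_sum, RingHom.id_apply, mul_assoc]

lemma evL_apply (X : C₄) (z : Fin 4 → V) (j : Fin 4) (x : V) : evL X z j x = ev X (Function.update z j x) := rfl

/-- Alternating in the first two arguments. -/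
def Alt (X : C₄) : Prop := ∀ z, ev X (z ∘ Equiv.swap 0 1) = -ev X z

lemma Alt.act {X : C₄} (h : Alt X) (g : GL (Fin t → Fin k) F) : Alt (act eT g X) := fun z => by
  rw [ev_act, ev_act]
  exact h fun j => (g : Mt t k F) *ᵥ z j

lemma Alt.sum {α : Type*} (s : Finset α) {f : α → C₄} (h : ∀ x ∈ s, Alt (f x)) : Alt (∑ x ∈ s, f x) := fun z => by
  rw [ev_sum, ev_sum, ← Finset.sum_neg_distrib]
  exact Finset.sum_congr rfl fun x hx => h x hx z

end ev

section pairing

variable {t k : ℕ}

local notation "V" => ((Fin t → Fin k) → F)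
local notation "C₄" => ((Fin 4 → Fin t → Fin k) → F)

lemma slot_neg' (i : Fin t) (A : Matrix (Fin k) (Fin k) F) : (slot i (-A) : Mt t k F) = -slot i A := by
  rw [← neg_one_smul F, slot_smul, neg_one_smul]

lemma fd_sum_right {ι α : Type} [Fintype ι] [DecidableEq ι] (e x : ι → F) (s : Finset α) (f : α → ι → F) :
    fd e x (∑ a ∈ s, f a) = ∑ a ∈ s, fd e x (f a) := by
  simp only [fd, Finset.sum_apply, Finset.mul_sum]
  exact Finset.sum_comm

lemma fd_single_left {ι : Type} [Fintype ι] [DecidableEq ι] (e x : ι → F) (a : ι) :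
    fd e (Pi.single a 1) x = e a * x a := by
  rw [fd_symm, fd_single_right]

/-- The product of the bilinear forms of two matrices. -/
def prM (d : Fin k → F) (X Y : Mt t k F) : C₄ :=
  fun b => dt d t (b 0) * X (b 0) (b 1) * (dt d t (b 2) * Y (b 2) (b 3))

lemma ev_prM (d : Fin k → F) (X Y : Mt t k F) (z : Fin 4 → V) :
    ev (prM d X Y) z = fd (dt d t) (z 0) (X *ᵥ z 1) * fd (dt d t) (z 2) (Y *ᵥ z 3) := by
  let e : (Fin 4 → Fin t → Fin k) ≃ ((Fin t → Fin k) × (Fin t → Fin k)) × ((Fin t → Fin k) × (Fin t → Fin k)) :=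
    { toFun := fun b => ((b 0, b 1), (b 2, b 3))
      invFun := fun p => ![p.1.1, p.1.2, p.2.1, p.2.2]
      left_inv := fun b => by funext j; fin_cases j <;> rfl
      right_inv := fun p => rfl }
  have h : ∀ (x y : V) (A : Mt t k F), fd (dt d t) x (A *ᵥ y) =
      ∑ p : (Fin t → Fin k) × (Fin t → Fin k), x p.1 * y p.2 * (dt d t p.1 * A p.1 p.2) := fun x y A => by
    rw [Fintype.sum_prod_type]
    simp only [fd, Matrix.mulVec, dotProduct, Finset.mul_sum]
    exact Finset.sum_congr rfl fun i _ => Finset.sum_congr rfl fun j _ => by ring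
  rw [h, h, Finset.sum_mul_sum, ← Fintype.sum_prod_type', ev]
  refine Fintype.sum_equiv e _ _ fun b => ?_
  change _ = z 0 (b 0) * z 1 (b 1) * (dt d t (b 0) * X (b 0) (b 1)) *
    (z 2 (b 2) * z 3 (b 3) * (dt d t (b 2) * Y (b 2) (b 3)))
  simp only [Fin.prod_univ_four, prM]
  ring

lemma act_prM {d : Fin k → F} (hd : ∀ p, d p ≠ 0) {g : GL (Fin t → Fin k) F} (hg : g ∈ isoG (dt d t))
    (X Y : Mt t k F) : act eT g (prM d X Y) = prM d (cj g⁻¹ X) (cj g⁻¹ Y) := by
  refine ev_ext fun z => ?_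
  have h : ∀ (x y : V) (A : Mt t k F), fd (dt d t) ((g : Mt t k F) *ᵥ x) (A *ᵥ ((g : Mt t k F) *ᵥ y)) =
      fd (dt d t) x (cj g⁻¹ A *ᵥ y) := fun x y A => by
    conv_lhs => rw [show A *ᵥ ((g : Mt t k F) *ᵥ y) = (g : Mt t k F) *ᵥ (cj g⁻¹ A *ᵥ y) by
      simp [cj, Matrix.mulVec_mulVec, ← mul_assoc]]
    exact hg _ _
  rw [ev_act, ev_prM, ev_prM, h, h]

/-- The Casimir element of the skew matrices of the factors. -/
def cas (d : Fin k → F) (t : ℕ) : (Fin 4 → Fin t → Fin k) → F :=
  ∑ l : Fin t, ∑ p, ∑ r, ((d p * d r)⁻¹) •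
    prM d (slot l (wg d (Pi.single p 1) (Pi.single r 1))) (slot l (wg d (Pi.single p 1) (Pi.single r 1)))

variable {d : Fin k → F}

lemma alt_cas (hd : ∀ p, d p ≠ 0) : Alt (cas d t) := by
  intro z
  simp only [cas, ev_sum, ev_smul, ev_prM, ← Finset.sum_neg_distrib, Function.comp_apply, Equiv.swap_apply_left,
    Equiv.swap_apply_right, show Equiv.swap (0 : Fin 4) 1 2 = 2 by decide, show Equiv.swap (0 : Fin 4) 1 3 = 3 by decide]
  refine Finset.sum_congr rfl fun l _ => Finset.sum_congr rfl fun p _ => Finset.sum_congr rfl fun r _ => ?_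
  rw [show fd (dt d t) (z 1) (slot l (wg d (Pi.single p 1) (Pi.single r 1)) *ᵥ z 0) =
      -fd (dt d t) (z 0) (slot l (wg d (Pi.single p 1) (Pi.single r 1)) *ᵥ z 1) by
    rw [fd_symm, fd_mulVec (dt_ne hd), sa_slot hd, sa_wg hd, slot_neg', Matrix.neg_mulVec, fd_neg_right]]
  ring

lemma sum_wg_wg {a : Matrix (Fin k) (Fin k) F} {lam : F} (hd : ∀ p, d p ≠ 0) (ha : a * sa d a = lam • 1)
    (x y x' y' : Fin k) :
    ∑ p, ∑ r, (d p * d r)⁻¹ * (wg d (a *ᵥ Pi.single p 1) (a *ᵥ Pi.single r 1) x y *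
        wg d (a *ᵥ Pi.single p 1) (a *ᵥ Pi.single r 1) x' y') =
      lam ^ 2 * ∑ p, ∑ r, (d p * d r)⁻¹ * (wg d (Pi.single p 1) (Pi.single r 1) x y *
        wg d (Pi.single p 1) (Pi.single r 1) x' y') := by
  have key : ∀ (b : Matrix (Fin k) (Fin k) F) (G : Fin k → Fin k → F),
      (∀ x x', ∑ p, (d p)⁻¹ * (b x p * b x' p) = G x x') →
      ∑ p, ∑ r, (d p * d r)⁻¹ * (wg d (b *ᵥ Pi.single p 1) (b *ᵥ Pi.single r 1) x y *
        wg d (b *ᵥ Pi.single p 1) (b *ᵥ Pi.single r 1) x' y') =
      d y * d y' * (G x x' * G y y' - G x y' * G y x' - G y x' * G x y' + G y y' * G x x') := fun b G hG => by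
    simp only [← hG, wg, Matrix.sub_apply, vd_apply, Matrix.mulVec_single_one, Matrix.col_apply, Finset.sum_mul,
      Finset.mul_sum, mul_add, mul_sub, sub_mul, mul_inv, ← Finset.sum_sub_distrib, ← Finset.sum_add_distrib]
    exact Finset.sum_congr rfl fun p _ => Finset.sum_congr rfl fun r _ => by ring
  have h1 : ∀ x x' : Fin k, ∑ p, (d p)⁻¹ * (a x p * a x' p) = lam * (if x = x' then (d x')⁻¹ else 0) := fun x x' => by
    have e := congrFun (congrFun ha x) x'
    simp only [Matrix.mul_apply, sa_apply, Matrix.smul_apply, smul_eq_mul, Matrix.one_apply] at e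
    rw [show ∑ p, (d p)⁻¹ * (a x p * a x' p) = (∑ p, a x p * ((d p)⁻¹ * a x' p * d x')) * (d x')⁻¹ by
      rw [Finset.sum_mul]
      refine Finset.sum_congr rfl fun p _ => ?_
      have := hd x'
      field_simp, e]
    split_ifs <;> ring
  have h2 : ∀ x x' : Fin k, ∑ p, (d p)⁻¹ * ((1 : Matrix (Fin k) (Fin k) F) x p * (1 : Matrix (Fin k) (Fin k) F) x' p) =
      if x = x' then (d x')⁻¹ else 0 := fun x x' => by
    rcases eq_or_ne x x' with rfl | h
    · simp [Matrix.one_apply]
    · simp [Matrix.one_apply, h, Ne.symm h]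
  have k1 := key a _ h1
  have k2 := key 1 _ h2
  simp only [Matrix.one_mulVec] at k2
  rw [k1, k2]
  ring

lemma tens_eq_one [NeZero k] {b : Fin t → Matrix (Fin k) (Fin k) F} (h : tens b = 1) (i : Fin t) :
    ∃ c : F, c ≠ 0 ∧ b i = c • 1 := by
  have e : sl i (tens b) 0 0 = sl i (1 : Mt t k F) 0 0 := by rw [h]
  rw [sl_tens, ← slot_one (i := i), sl_slot, if_pos fun _ _ => rfl] at e
  set c := ∏ l ∈ Finset.univ.erase i, b l ((0 : Fin t → Fin k) l) ((0 : Fin t → Fin k) l) with hc
  have hc0 : c ≠ 0 := fun h0 => by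
    rw [h0, zero_smul] at e
    exact one_ne_zero (congrFun (congrFun e.symm 0) 0)
  exact ⟨c⁻¹, inv_ne_zero hc0, by rw [← e, smul_smul, inv_mul_cancel₀ hc0, one_smul]⟩

lemma exists_similitude [NeZero k] (hd : ∀ p, d p ≠ 0) {y : GL (Fin t → Fin k) F} (hyi : y ∈ isoG (dt d t))
    {a : Fin t → GL (Fin k) F} {σ : Equiv.Perm (Fin t)}
    (hy : (y : Mt t k F) = tens (fun l => (a l : Matrix (Fin k) (Fin k) F)) * permMat k σ) (l : Fin t) :
    ∃ c : F, c ≠ 0 ∧ sa d (a l : Matrix (Fin k) (Fin k) F) * a l = c • 1 ∧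
      (a l : Matrix (Fin k) (Fin k) F) * sa d (a l : Matrix (Fin k) (Fin k) F) = c • 1 := by
  have h := (mem_isoG (dt_ne hd)).1 hyi
  rw [hy, sa_mul (dt_ne hd), sa_tens, sa_permMat hd] at h
  have h' : tens (fun r => sa d (a r : Matrix (Fin k) (Fin k) F) * (a r : Matrix (Fin k) (Fin k) F)) = 1 := by
    have e1 : permMat k σ * permMat k σ.symm = (1 : Mt t k F) := permMat_mul_inv σ
    have e2 : permMat k σ.symm * permMat k σ = (1 : Mt t k F) := by simpa using permMat_mul_inv (m := k) (F := F) σ.symm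
    rw [← tens_mul]
    calc (tens fun r => sa d (a r : Matrix (Fin k) (Fin k) F)) * tens (fun r => (a r : Matrix (Fin k) (Fin k) F))
        = permMat k σ * (permMat k σ.symm * (tens fun r => sa d (a r : Matrix (Fin k) (Fin k) F)) *
            (tens (fun r => (a r : Matrix (Fin k) (Fin k) F)) * permMat k σ)) * permMat k σ.symm := by
          simp only [mul_assoc]
          rw [e1, mul_one, ← mul_assoc (permMat k σ), e1, one_mul]
      _ = 1 := by rw [h, mul_one, e1]
  obtain ⟨c, hc, hcl⟩ := tens_eq_one h' l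
  refine ⟨c, hc, hcl, ?_⟩
  have h1 : (c⁻¹ • sa d (a l : Matrix (Fin k) (Fin k) F)) * (a l : Matrix (Fin k) (Fin k) F) = 1 := by
    rw [smul_mul_assoc, hcl, smul_smul, inv_mul_cancel₀ hc, one_smul]
  have := mul_eq_one_comm.1 h1
  rw [mul_smul_comm, inv_smul_eq_iff₀ hc] at this
  exact this

lemma prM_slot (l : Fin t) (X Y : Matrix (Fin k) (Fin k) F) (b : Fin 4 → Fin t → Fin k) :
    prM d (slot l X) (slot l Y) b =
      (if (∀ r, r ≠ l → b 0 r = b 1 r) ∧ (∀ r, r ≠ l → b 2 r = b 3 r) then dt d t (b 0) * dt d t (b 2) else 0) *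
        (X (b 0 l) (b 1 l) * Y (b 2 l) (b 3 l)) := by
  rw [prM, slot_apply, slot_apply]
  by_cases h1 : ∀ r, r ≠ l → b 0 r = b 1 r
  · by_cases h2 : ∀ r, r ≠ l → b 2 r = b 3 r
    · rw [if_pos h1, if_pos h2, if_pos ⟨h1, h2⟩]; ring
    · simp [h2]
  · simp [h1]

/-- The wreath group fixes the Casimir element. -/
lemma cas_invariant [NeZero k] [Fintype F] (hd : ∀ p, d p ≠ 0) {h : GL (Fin t → Fin k) F}
    (hh : h ∈ tensorWreathStandard k t F) (hi : h ∈ isoG (dt d t)) : act eT h (cas d t) = cas d t := by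
  obtain ⟨a, σ, hy⟩ := exists_tens_perm (inv_mem hh)
  have hyi := inv_mem hi
  choose lam hlam0 hlam hlam' using exists_similitude hd hyi hy
  have hconj : ∀ l (x y : Fin k → F), cj h⁻¹ (slot l (wg d x y)) = slot (σ l) ((lam (σ l))⁻¹ •
      wg d ((a (σ l) : Matrix (Fin k) (Fin k) F) *ᵥ x) ((a (σ l) : Matrix (Fin k) (Fin k) F) *ᵥ y)) := by
    intro l x y
    rw [cj_shape hy]
    congr 1
    set A := (a (σ l) : Matrix (Fin k) (Fin k) F)
    have hinv : (((a (σ l))⁻¹ : GL (Fin k) F) : Matrix (Fin k) (Fin k) F) = (lam (σ l))⁻¹ • sa d A :=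
      Units.inv_eq_of_mul_eq_one_right (by
        rw [mul_smul_comm, hlam', smul_smul, inv_mul_cancel₀ (hlam0 _), one_smul])
    rw [hinv, mul_smul_comm]
    congr 1
    rw [wg, mul_sub, sub_mul, mul_vd, mul_vd, vd_mul hd, vd_mul hd, sa_sa hd, wg]
  have hcas : ∀ l, (∑ p, ∑ r, ((d p * d r)⁻¹) •
      prM d (cj h⁻¹ (slot l (wg d (Pi.single p 1) (Pi.single r 1))))
        (cj h⁻¹ (slot l (wg d (Pi.single p 1) (Pi.single r 1))))) =
      ∑ p, ∑ r, ((d p * d r)⁻¹) • prM d (slot (σ l) (wg d (Pi.single p 1) (Pi.single r 1)))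
        (slot (σ l) (wg d (Pi.single p 1) (Pi.single r 1))) := by
    intro l
    funext b
    simp only [hconj, Finset.sum_apply, Pi.smul_apply, smul_eq_mul, prM_slot, Matrix.smul_apply]
    set K := if (∀ r, r ≠ σ l → b 0 r = b 1 r) ∧ (∀ r, r ≠ σ l → b 2 r = b 3 r) then
      dt d t (b 0) * dt d t (b 2) else 0
    have := sum_wg_wg hd (hlam' (σ l)) (b 0 (σ l)) (b 1 (σ l)) (b 2 (σ l)) (b 3 (σ l))
    have e : ∀ (w X Y : F), w * (K * ((lam (σ l))⁻¹ * X * ((lam (σ l))⁻¹ * Y))) =
        K * (lam (σ l))⁻¹ ^ 2 * (w * (X * Y)) := fun w X Y => by ring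
    have e' : ∀ (w X Y : F), w * (K * (X * Y)) = K * (w * (X * Y)) := fun w X Y => by ring
    simp only [e, e', ← Finset.mul_sum, this]
    have := hlam0 (σ l)
    field_simp
  conv_lhs => simp only [cas, act_sum]
  rw [cas]
  refine Fintype.sum_equiv σ _ _ fun l => ?_
  rw [← hcas l]
  refine Finset.sum_congr rfl fun p _ => Finset.sum_congr rfl fun r _ => ?_
  rw [← act_prM hd hi]
  funext x
  simp only [act, Pi.smul_apply, smul_eq_mul, Finset.mul_sum]
  exact Finset.sum_congr rfl fun b _ => by ring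

lemma sum_wg_single (x y : Fin k → F) :
    ∑ p, ∑ r, (x p * y r) • wg d (Pi.single p 1) (Pi.single r 1) = wg d x y := by
  ext a b
  simp only [Matrix.sum_apply, Matrix.smul_apply, smul_eq_mul, wg, Matrix.sub_apply, vd_apply, mul_sub,
    Finset.sum_sub_distrib, Pi.single_apply, mul_ite, ite_mul, mul_one, mul_zero, one_mul, zero_mul]
  simp
  ring

variable [Fintype F] {u v : Fin k → F}

/-- A member fixing the Casimir element permutes the skew matrices of the factors. -/
lemma inL_of_fix (hD : Dat d) (hf : Fr d u v) {g : GL (Fin t → Fin k) F} (hg : g ∈ isoG (dt d t))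
    (hfix : act eT g (cas d t) = cas d t) (i : Fin t) {A : Matrix (Fin k) (Fin k) F} (hA : sa d A = -A) :
    InL d (cj g (slot i A)) := by
  classical
  have hd := hD.ne
  obtain ⟨n, hn, hnn⟩ := hf.exists_aniso hD
  set W : Fin k → Fin k → Matrix (Fin k) (Fin k) F := fun p r => wg d (Pi.single p 1) (Pi.single r 1) with hW
  set K : ((Fin t → Fin k) → F) → ((Fin t → Fin k) → F) → Mt t k F := fun x y => ∑ l : Fin t, ∑ p, ∑ r,
    ((d p * d r)⁻¹ * fd (dt d t) x (slot l (W p r) *ᵥ y)) • slot l (W p r) with hK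
  have hKL : ∀ x y, InL d (K x y) := fun x y => InL.sum _ fun l _ => InL.sum _ fun p _ => InL.sum _ fun r _ =>
    InL.smul ⟨Pi.single l (W p r), fun m => by
      rcases eq_or_ne m l with rfl | h
      · simp [hW, sa_wg hd]
      · simp [h, sa_zero], by
      rw [Finset.sum_eq_single l (fun m _ hm => by rw [Pi.single_eq_of_ne hm, slot_zero]) (by simp),
        Pi.single_eq_same]⟩ _
  have hgK : ∀ x y, cj g (K x y) = K ((g : Mt t k F) *ᵥ x) ((g : Mt t k F) *ᵥ y) := by
    intro x y
    have hginv : ∀ (X : Mt t k F) (z0 z1 : (Fin t → Fin k) → F), fd (dt d t) ((g : Mt t k F) *ᵥ z0)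
        (X *ᵥ ((g : Mt t k F) *ᵥ z1)) = fd (dt d t) z0 (cj g⁻¹ X *ᵥ z1) := fun X z0 z1 => by
      conv_lhs => rw [show X *ᵥ ((g : Mt t k F) *ᵥ z1) = (g : Mt t k F) *ᵥ (cj g⁻¹ X *ᵥ z1) by
        simp [cj, Matrix.mulVec_mulVec, ← mul_assoc]]
      exact hg _ _
    suffices e : cj g⁻¹ (K ((g : Mt t k F) *ᵥ x) ((g : Mt t k F) *ᵥ y)) = K x y by rw [← e, cj_cj_inv]
    refine ext_fd (dt_ne hd) fun z0 z1 => ?_
    have hKev : ∀ z w x y, fd (dt d t) z (K x y *ᵥ w) = ev (cas d t) ![z, w, x, y] := by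
      intro z w x y
      simp only [cas, ev_sum, ev_smul, ev_prM, Matrix.cons_val_zero, Matrix.cons_val_one, Matrix.cons_val, hK,
        Matrix.sum_mulVec, Matrix.smul_mulVec, fd_sum_right, fd_smul_right, hW]
      exact Finset.sum_congr rfl fun l _ => Finset.sum_congr rfl fun p _ => Finset.sum_congr rfl fun r _ => by ring
    rw [← hginv, hKev, hKev]
    conv_rhs => rw [← hfix]
    rw [ev_act]
    congr 1
    funext j; fin_cases j <;> rfl
  have hwg : ∀ a b : Fin k → F, InL d (cj g (slot i (wg d a b))) := by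
    intro a b
    set c : F := (∏ l ∈ Finset.univ.erase i, fd d n n) * 2
    have hc : c ≠ 0 := mul_ne_zero (Finset.prod_ne_zero_iff.2 fun _ _ => hnn) hD.two
    have e : K (pv (Function.update (fun _ => n) i a)) (pv (Function.update (fun _ => n) i b)) =
        c • slot i (wg d a b) := by
      have hval : ∀ l p r, fd (dt d t) (pv (Function.update (fun _ => n) i a))
          (slot l (W p r) *ᵥ pv (Function.update (fun _ => n) i b)) =
            if l = i then (∏ l ∈ Finset.univ.erase i, fd d n n) * fd d a (W p r *ᵥ b) else 0 := by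
        intro l p r
        rw [slot_mulVec_pv, fd_pv, ← Finset.mul_prod_erase _ _ (Finset.mem_univ i)]
        rcases eq_or_ne l i with rfl | hl
        · rw [if_pos rfl, mul_comm]
          simp only [Function.update_self, Function.update_idem]
          congr 1
          exact Finset.prod_congr rfl fun m hm => by
            rw [Function.update_of_ne (Finset.ne_of_mem_erase hm), Function.update_of_ne (Finset.ne_of_mem_erase hm)]
        · rw [if_neg hl]
          refine mul_eq_zero_of_right _ (Finset.prod_eq_zero (Finset.mem_erase.2 ⟨hl, Finset.mem_univ l⟩) ?_)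
          simp only [Function.update_self, Function.update_of_ne hl, hW, wg_mulVec, fd_sub_right, fd_smul_right]
          rw [fd_symm d n (Pi.single r 1), fd_symm d n (Pi.single p 1)]
          ring
      simp only [hK, hval, mul_ite, mul_zero, ite_smul, zero_smul]
      rw [Finset.sum_eq_single i (fun l _ hl => by simp [hl]) (by simp)]
      simp only [if_pos, ← slot_smul, ← slot_sum]
      congr 1
      have e2 : wg d a b = (2 : F)⁻¹ • ∑ p, ∑ r, (a p * b r - b p * a r) • W p r := by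
        simp only [sub_smul, Finset.sum_sub_distrib, hW, sum_wg_single]
        rw [wg_swap d a b, sub_neg_eq_add, ← two_smul F, smul_smul, inv_mul_cancel₀ hD.two, one_smul]
      rw [e2, smul_smul, show c * (2 : F)⁻¹ = ∏ l ∈ Finset.univ.erase i, fd d n n by
        simp only [c]; field_simp [hD.two]]
      simp only [Finset.smul_sum, smul_smul]
      refine Finset.sum_congr rfl fun p _ => Finset.sum_congr rfl fun r _ => ?_
      congr 1
      simp only [hW, wg_mulVec, fd_sub_right, fd_smul_right, fd_single_left, fd_single_right]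
      have := hd p; have := hd r
      field_simp
    have h := hKL ((g : Mt t k F) *ᵥ pv (Function.update (fun _ => n) i a))
      ((g : Mt t k F) *ᵥ pv (Function.update (fun _ => n) i b))
    rw [← hgK, e, cj_smul] at h
    have := h.smul c⁻¹
    rwa [smul_smul, inv_mul_cancel₀ hc, one_smul] at this
  rw [skew_eq_sum hD hA]
  simp only [slot_sum, slot_smul]
  have : ∀ s : Finset (Fin k), cj g (∑ p ∈ s, ((2 : F)⁻¹ * (d p)⁻¹) • slot i (wg d (A *ᵥ Pi.single p 1) (Pi.single p 1))) =
      ∑ p ∈ s, ((2 : F)⁻¹ * (d p)⁻¹) • cj g (slot i (wg d (A *ᵥ Pi.single p 1) (Pi.single p 1))) := fun s => by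
    induction s using Finset.induction with
    | empty => simp [cj_zero]
    | insert p s hp ih => rw [Finset.sum_insert hp, Finset.sum_insert hp, cj_add, ih, cj_smul]
  rw [this]
  exact InL.sum _ fun p _ => (hwg _ _).smul _

variable {s : ℕ} {M : Subgroup (GL (Fin (s + 1) → Fin k) F)}

/-- An overgroup fixing the Casimir element lies in the wreath group. -/
theorem le_wreath_of_fix (hD : Dat d) (hf : Fr d u v) (hM : Bad d M) (hrec : Rec d (s + 1))
    (hfix : ∀ g ∈ M, act eT g (cas d (s + 1)) = cas d (s + 1)) : M ≤ tensorWreathStandard k (s + 1) F := by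
  intro g hg
  have := hD.neZero
  have hd := hD.ne
  have h2 := hD.two
  obtain ⟨n, hn, hnn⟩ := hf.exists_aniso hD
  obtain ⟨l, K, hK⟩ := exists_single hD hf (fun i A hA => inL_of_fix hD hf (hM.iso hg) (hfix g hg) i hA)
    (fun i A hA => inL_of_fix hD hf (hM.iso (inv_mem hg)) (hfix _ (inv_mem hg)) i hA) 0
    (A := wg d n u) (sa_wg hd _ _)
  have hE : ∀ c : F, eich d u (c • n) =
      1 + c • wg d n u + ((2 : F)⁻¹ * (c * c)) • (wg d n u * wg d n u) := fun c => by
    rw [eich, wg_smul_left, fd_smul_left, fd_smul_right, nm_mul hf hn hn, smul_smul, sub_eq_add_neg, ← neg_smul]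
    congr 2
    ring
  have hB : ∀ c : F, cj g (slot 0 (eich d u (c • n))) =
      slot l (1 + c • K + ((2 : F)⁻¹ * (c * c)) • (K * K)) := fun c => by
    rw [hE, slot_add, slot_add, slot_one, slot_smul, slot_smul, ← slot_mul, cj_add, cj_add, cj_one, cj_smul,
      cj_smul, cj_mul, hK, slot_mul, slot_add, slot_add, slot_one, slot_smul, slot_smul]
  have h1 := hB 1
  have h2' := hB (-1)
  rw [one_smul] at h1
  rw [neg_one_smul] at h2'
  set B := 1 + (1 : F) • K + ((2 : F)⁻¹ * (1 * 1)) • (K * K)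
  set B' := 1 + (-1 : F) • K + ((2 : F)⁻¹ * (-1 * -1)) • (K * K)
  have hBB : B * B' = 1 := slot_injective l (by
    rw [← slot_mul, ← h1, ← h2', ← cj_mul, slot_mul, eich_neg h2 hf.uu hn.1, slot_one, cj_one, slot_one])
  exact mem_of_eich hD hf hM hrec hg hn hnn (i := 0) (y := slotU l ⟨B, B', hBB, mul_eq_one_comm.1 hBB⟩)
    (slotU_mem_wreath _ _) (by rw [slotU_val, h1])

end pairing

end CfsgLib.Geo.TensorPow.O
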