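/-
Sums over the cosets of the wreath group in an overgroup: the orbits of the Eichler elements of one factor.
-/
import Cfsg.Agent.Geo.TensorPow.O.Eval
import Mathlib.FieldTheory.Finite.Basic

set_option autoImplicit false
set_option linter.unusedSectionVars false

namespace CfsgLib.Geo.TensorPow.O

open Matrix Cfsg.Geo CfsgLib.Aschbacher
open scoped MatrixGroups

variable {F : Type*} [Field F] [Fintype F] {k t : ℕ} {d u v : Fin k → F}

/-! ### The sums over a group of Eichler elements -/

/-- A product of polynomials of bounded degrees sums to the product of the leading parts. -/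
lemma sum_prod_split [DecidableEq F] {r : ℕ} (L H : Fin 4 → MvPolynomial (Fin r) F) (w : Fin 4 → F) (δ : Fin 4 → ℕ)
    (hH : ∀ j, (H j).totalDegree ≤ δ j) (hL : ∀ j, L j = 0 ∨ (L j).totalDegree < δ j)
    (hsum : ∑ j, δ j ≤ (Fintype.card F - 1) * r) :
    ∑ c : Fin r → F, ∏ j, (MvPolynomial.eval c (L j) + w j * MvPolynomial.eval c (H j)) =
      (∑ c : Fin r → F, ∏ j, MvPolynomial.eval c (H j)) * ∏ j, w j := by
  simp only [Finset.prod_add]
  rw [Finset.sum_comm, Finset.sum_eq_single ∅]
  · simp only [Finset.prod_empty, one_mul, Finset.sdiff_empty, Finset.prod_mul_distrib, Finset.sum_mul]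
    exact Finset.sum_congr rfl fun c _ => mul_comm _ _
  · intro S _ hS
    by_cases h0 : ∃ j ∈ S, L j = 0
    · obtain ⟨j, hj, hj0⟩ := h0
      exact Finset.sum_eq_zero fun c _ => by
        rw [Finset.prod_eq_zero hj (by rw [hj0, map_zero]), zero_mul]
    push Not at h0
    obtain ⟨j₀, hj₀⟩ := Finset.nonempty_iff_ne_empty.2 hS
    set f : MvPolynomial (Fin r) F := (∏ j ∈ S, L j) * ∏ j ∈ Finset.univ \ S, (MvPolynomial.C (w j) * H j) with hf
    have hdeg : f.totalDegree < (Fintype.card F - 1) * Fintype.card (Fin r) := by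
      rw [Fintype.card_fin]
      refine lt_of_lt_of_le ?_ hsum
      rw [← Finset.sum_sdiff (Finset.subset_univ S), add_comm]
      refine ((MvPolynomial.totalDegree_mul _ _).trans (Nat.add_le_add
        (MvPolynomial.totalDegree_finset_prod _ _) (MvPolynomial.totalDegree_finset_prod _ _))).trans_lt ?_
      refine Nat.add_lt_add_of_lt_of_le ?_ (Finset.sum_le_sum fun j _ => ?_)
      · exact Finset.sum_lt_sum_of_nonempty ⟨j₀, hj₀⟩ fun j hj => (hL j).resolve_left (h0 j hj)
      · exact (MvPolynomial.totalDegree_mul _ _).trans (by simpa using hH j)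
    rw [← MvPolynomial.sum_eval_eq_zero f hdeg]
    exact Finset.sum_congr rfl fun c _ => by simp [hf, map_prod]
  · simp

/-- The vector with given coordinates on a family. -/
def lin {r : ℕ} (b : Fin r → Fin k → F) (c : Fin r → F) : Fin k → F := ∑ p, c p • b p

lemma fd_lin {r : ℕ} (b : Fin r → Fin k → F) (c : Fin r → F) (x : Fin k → F) :
    fd d (lin b c) x = ∑ p, c p * fd d (b p) x := by
  rw [fd_symm, lin, fd_sum_right]
  simp only [fd_smul_right, fd_symm d x]

lemma lin_add {r : ℕ} (b : Fin r → Fin k → F) (c c' : Fin r → F) : lin b (c + c') = lin b c + lin b c' := by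
  simp [lin, add_smul, Finset.sum_add_distrib]

lemma lin_mem {r : ℕ} {b : Fin r → Fin k → F} (hb : ∀ p, b p ∈ Pp d u v) (c : Fin r → F) : lin b c ∈ Pp d u v :=
  Submodule.sum_mem _ fun p _ => Submodule.smul_mem _ _ (hb p)

/-- The degree of the orbit of a vector. -/
noncomputable def deg (d u x : Fin k → F) : ℕ := by
  classical exact if ∃ a : F, x = a • u then 0 else if fd d u x = 0 then 1 else 2

lemma deg_smul (a : F) : deg d u (a • u) = 0 := by
  simp only [deg]; rw [if_pos ⟨a, rfl⟩]

lemma deg_le_two (x : Fin k → F) : deg d u x ≤ 2 := by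
  simp only [deg]; split_ifs <;> omega

lemma deg_le_one {x : Fin k → F} (hx : fd d u x = 0) : deg d u x ≤ 1 := by
  simp only [deg]; split_ifs <;> omega

variable (hD : Dat d) (hf : Fr d u v) {r : ℕ} {b : Fin r → Fin k → F} (hb : ∀ p, b p ∈ Pp d u v)
include hD hf hb

lemma exists_entry (x : Fin k → F) : ∃ (L : Fin k → MvPolynomial (Fin r) F) (H : MvPolynomial (Fin r) F),
    H.totalDegree ≤ deg d u x ∧ (∀ a, L a = 0 ∨ (L a).totalDegree < deg d u x) ∧
      ∀ c a, (eich d u (lin b c) *ᵥ x) a = MvPolynomial.eval c (L a) + u a * MvPolynomial.eval c H := by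
  classical
  have hdeg1 : ∀ g : Fin r → F, (∑ p, MvPolynomial.C (g p) * MvPolynomial.X p :
      MvPolynomial (Fin r) F).totalDegree ≤ 1 := fun g =>
    MvPolynomial.totalDegree_finsetSum_le fun p _ =>
      (MvPolynomial.totalDegree_mul _ _).trans (by simp [MvPolynomial.totalDegree_X])
  have hE : ∀ c a, (eich d u (lin b c) *ᵥ x) a = x a + fd d u x * (lin b c) a - fd d (lin b c) x * u a -
      fd d (lin b c) (lin b c) / 2 * fd d u x * u a := fun c a => by
    rw [eich_mulVec]; simp [mul_assoc]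
  by_cases h0 : ∃ α : F, x = α • u
  · obtain ⟨α, rfl⟩ := h0
    refine ⟨0, MvPolynomial.C α, by simp, fun a => Or.inl rfl, fun c a => ?_⟩
    rw [hE, fd_smul_right, hf.uu, mul_zero, fd_smul_right, fd_symm d u, (lin_mem hb c).1]
    simp [mul_comm]
  by_cases h1 : fd d u x = 0
  · have hd1 : deg d u x = 1 := by simp only [deg]; rw [if_neg h0, if_pos h1]
    refine ⟨fun a => MvPolynomial.C (x a), ∑ p, MvPolynomial.C (-fd d (b p) x) * MvPolynomial.X p,
      hd1 ▸ hdeg1 _, fun a => Or.inr (by simp [hd1]), fun c a => ?_⟩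
    rw [hE, h1, fd_lin]
    simp [Finset.mul_sum, Finset.sum_mul, sub_eq_add_neg, mul_comm, mul_assoc]
  have hd2 : deg d u x = 2 := by simp only [deg]; rw [if_neg h0, if_neg h1]
  refine ⟨fun a => MvPolynomial.C (x a) +
      (∑ p, MvPolynomial.C (fd d u x * b p a - fd d (b p) x * u a) * MvPolynomial.X p),
    ∑ p, ∑ p', MvPolynomial.C (-(fd d (b p) (b p') / 2 * fd d u x)) * (MvPolynomial.X p * MvPolynomial.X p'),
    ?_, fun a => Or.inr ?_, fun c a => ?_⟩
  · rw [hd2]
    refine MvPolynomial.totalDegree_finsetSum_le fun p _ => MvPolynomial.totalDegree_finsetSum_le fun p' _ => ?_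
    refine (MvPolynomial.totalDegree_mul _ _).trans ?_
    rw [MvPolynomial.totalDegree_C, zero_add]
    exact (MvPolynomial.totalDegree_mul _ _).trans (by simp [MvPolynomial.totalDegree_X])
  · rw [hd2]
    exact lt_of_le_of_lt ((MvPolynomial.totalDegree_add _ _).trans (max_le (by simp) (hdeg1 _))) (by omega)
  · have e1 : ∑ p, (fd d u x * b p a - fd d (b p) x * u a) * c p =
        fd d u x * lin b c a - fd d (lin b c) x * u a := by
      rw [fd_lin]
      simp only [lin, Finset.sum_apply, Pi.smul_apply, smul_eq_mul, Finset.mul_sum, Finset.sum_mul,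
        ← Finset.sum_sub_distrib]
      exact Finset.sum_congr rfl fun p _ => by ring
    have e2 : ∑ p, ∑ p', -(fd d (b p) (b p') / 2 * fd d u x) * (c p * c p') =
        -(fd d (lin b c) (lin b c) / 2 * fd d u x) := by
      rw [fd_lin]
      simp only [fd_symm d (lin b c), fd_lin, Finset.mul_sum, Finset.sum_mul, Finset.sum_div, ← Finset.sum_neg_distrib]
      exact Finset.sum_congr rfl fun p _ => Finset.sum_congr rfl fun p' _ => by rw [fd_symm d (b p') (b p)]; ring
    simp only [hE, map_add, map_sum, map_mul, MvPolynomial.eval_C, MvPolynomial.eval_X, e1, e2]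
    ring

omit hD hf hb in
lemma sum_ev_orbit {i : Fin t} {e : (Fin r → F) → GL (Fin t → Fin k) F}
    (he : ∀ c, (e c : Mt t k F) = slot i (eich d u (lin b c))) {x : Fin 4 → Fin k → F} {κ : F}
    (hκ : ∀ a : Fin 4 → Fin k, ∑ c, ∏ j, (eich d u (lin b c) *ᵥ x j) (a j) = κ * ∏ j, u (a j))
    (y : Fin 4 → Fin t → Fin k → F) (X : (Fin 4 → Fin t → Fin k) → F) :
    ∑ c, ev (act eT (e c) X) (fun j => pvU (y j) i (x j)) = κ * ev X (fun j => pvU (y j) i u) := by
  simp only [ev_act]
  simp only [he, pvU_apply, slot_mulVec_pv, Function.update_self, Function.update_idem, ev,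
    pv_update_apply, Finset.prod_mul_distrib]
  rw [Finset.sum_comm, Finset.mul_sum]
  refine Finset.sum_congr rfl fun a _ => ?_
  rw [← Finset.sum_mul, ← Finset.sum_mul, hκ fun j => a j i]
  ring

lemma exists_kappa (x : Fin 4 → Fin k → F) (hsum : ∑ j, deg d u (x j) ≤ (Fintype.card F - 1) * r) :
    ∃ κ : F, (∀ a : Fin 4 → Fin k, ∑ c, ∏ j, (eich d u (lin b c) *ᵥ x j) (a j) = κ * ∏ j, u (a j)) ∧
      (∑ j, deg d u (x j) < (Fintype.card F - 1) * r → κ = 0) := by
  classical
  choose L H hH hL hE using fun j => exists_entry hD hf hb (x j)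
  refine ⟨∑ c, ∏ j, MvPolynomial.eval c (H j), fun a => ?_, fun hlt => ?_⟩
  · simp only [hE]
    exact sum_prod_split _ _ _ _ hH (fun j => hL j (a j)) hsum
  · rw [← MvPolynomial.sum_eval_eq_zero (∏ j, H j) (lt_of_le_of_lt
      ((MvPolynomial.totalDegree_finset_prod _ _).trans (Finset.sum_le_sum fun j _ => hH j))
      (by rwa [Fintype.card_fin]))]
    simp [map_prod]

lemma kappa_eq (x : Fin 4 → Fin k → F) (hx : ∀ j, fd d u (x j) = 0) (hsum : 4 ≤ (Fintype.card F - 1) * r)
    (a : Fin 4 → Fin k) : ∑ c, ∏ j, (eich d u (lin b c) *ᵥ x j) (a j) =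
      (∑ c, ∏ j, -fd d (lin b c) (x j)) * ∏ j, u (a j) := by
  classical
  set H : Fin 4 → MvPolynomial (Fin r) F := fun j => ∑ p, MvPolynomial.C (-fd d (b p) (x j)) * MvPolynomial.X p with hH
  have hev : ∀ c j, MvPolynomial.eval c (H j) = -fd d (lin b c) (x j) := fun c j => by
    simp [hH, fd_lin, mul_comm]
  have := sum_prod_split (fun j => MvPolynomial.C (x j (a j))) H (fun j => u (a j)) (fun _ => 1)
    (fun j => MvPolynomial.totalDegree_finsetSum_le fun p _ =>
      (MvPolynomial.totalDegree_mul _ _).trans (by simp [MvPolynomial.totalDegree_X]))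
    (fun j => Or.inr (by simp)) (by simpa using hsum)
  simp only [hev, MvPolynomial.eval_C] at this
  rw [← this]
  refine Finset.sum_congr rfl fun c _ => Finset.prod_congr rfl fun j _ => ?_
  rw [eich_mulVec, hx j]
  simp
  ring

/-! ### The average over the cosets -/

omit hb in
/-- The overgroup has an invariant form agreeing with the Casimir element on the functionals with vanishing sums
along the Eichler elements of a factor. -/
lemma exists_invariant {s : ℕ} {M : Subgroup (GL (Fin (s + 1) → Fin k) F)} (hM : Bad d M) (hrec : Rec d (s + 1)) :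
    ∃ T, (∀ g ∈ M, act eT g T = T) ∧ Alt T ∧
      ∀ (r : ℕ) (b : Fin r → Fin k → F), (∀ p, b p ∈ Pp d u v) → (∀ c, c ≠ 0 → fd d (lin b c) (lin b c) ≠ 0) →
        ∀ (i : Fin (s + 1)) (e : (Fin r → F) → GL (Fin (s + 1) → Fin k) F),
          (∀ c, (e c : Mt (s + 1) k F) = slot i (eich d u (lin b c))) →
          ∀ φ : ((Fin 4 → Fin (s + 1) → Fin k) → F) →+ F, (∀ X, ∑ c, φ (act eT (e c) X) = 0) →
            φ (T - cas d (s + 1)) = 0 := by
  classical
  haveI := hD.neZero
  set H := (tensorWreathStandard k (s + 1) F).subgroupOf M with hH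
  letI : Fintype (↥M ⧸ H) := Fintype.ofFinite _
  let f : ↥M ⧸ H → (Fin 4 → Fin (s + 1) → Fin k) → F := fun ω =>
    act eT ((ω.out : ↥M) : GL (Fin (s + 1) → Fin k) F)⁻¹ (cas d (s + 1))
  have hf' : ∀ g : ↥M, f (g : ↥M ⧸ H) = act eT (g : GL (Fin (s + 1) → Fin k) F)⁻¹ (cas d (s + 1)) := by
    intro g
    obtain ⟨h, hh⟩ := QuotientGroup.mk_out_eq_mul H g
    show act eT _ (cas d (s + 1)) = _
    have hW : ((h : ↥M) : GL (Fin (s + 1) → Fin k) F) ∈ tensorWreathStandard k (s + 1) F := h.2
    rw [hh, Subgroup.coe_mul, _root_.mul_inv_rev, act_mul,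
      cas_invariant hD.ne (inv_mem hW) (hM.iso (inv_mem h.1.2))]
  have hsmul : ∀ (γ : ↥M) (ω : ↥M ⧸ H), f (γ • ω) = act eT (γ : GL (Fin (s + 1) → Fin k) F)⁻¹ (f ω) := by
    intro γ ω
    induction ω using QuotientGroup.induction_on with
    | _ g =>
      rw [show γ • (g : ↥M ⧸ H) = ((γ * g : ↥M) : ↥M ⧸ H) from rfl, hf', hf', Subgroup.coe_mul,
        _root_.mul_inv_rev, act_mul]
  refine ⟨∑ ω, f ω, fun g hg => ?_, Alt.sum _ fun ω _ => (alt_cas hD.ne).act _, ?_⟩
  · rw [act_sum]
    refine Fintype.sum_equiv (MulAction.toPerm (⟨g, hg⟩⁻¹ : ↥M)) _ _ fun ω => ?_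
    rw [MulAction.toPerm_apply, hsmul, Subgroup.coe_inv, inv_inv]
  intro r b hb han i e he φ hφ
  set base : ↥M ⧸ H := ((1 : ↥M) : ↥M ⧸ H) with hbase
  have heM : ∀ c, e c ∈ M := fun c => by
    obtain ⟨g, hg, hgv⟩ := eich_mem_sqG hD.two hD.ne hf.uu (lin_mem hb c).1
    rw [show e c = slotU i g from Units.ext (by rw [he, slotU_val, hgv])]
    exact hM.toBase.slot_sq hD.ne i hg
  have heW : ∀ c, e c ∈ tensorWreathStandard k (s + 1) F := fun c => by
    obtain ⟨g, hg, hgv⟩ := eich_mem_sqG hD.two hD.ne hf.uu (lin_mem hb c).1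
    rw [show e c = slotU i g from Units.ext (by rw [he, slotU_val, hgv])]
    exact slotU_mem_wreath i g
  have hadd' : ∀ c c', e (c + c') = e c * e c' := fun c c' => Units.ext (by
    rw [Units.val_mul, he, he, he, slot_mul, eich_mul hD.two hf.uu (lin_mem hb c).1 (lin_mem hb c').1, lin_add])
  have hzero : e 0 = 1 := Units.ext (by
    rw [he, show lin b 0 = 0 by simp [lin], eich_zero, slot_one, Units.val_one])
  let op : (Fin r → F) → ↥M ⧸ H → ↥M ⧸ H := fun c ω => (⟨_, heM c⟩ : ↥M) • ω
  have hadd : ∀ c c' ω, op (c + c') ω = op c (op c' ω) := fun c c' ω => by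
    show _ • ω = _ • _ • ω
    rw [← mul_smul]
    exact congrArg (· • ω) (Subtype.ext (hadd' c c'))
  have h0 : ∀ ω, op 0 ω = ω := fun ω => by
    show _ • ω = ω
    rw [show (⟨_, heM 0⟩ : ↥M) = 1 from Subtype.ext hzero, one_smul]
  have hfix : ∀ c, op c base = base := fun c => by
    show _ • _ = _
    refine QuotientGroup.eq.2 ?_
    rw [hH, Subgroup.mem_subgroupOf]
    simp only [smul_eq_mul, mul_one, Subgroup.coe_inv]
    exact inv_mem (heW c)
  have key : φ (∑ ω ∈ Finset.univ.erase base, f ω) = 0 := by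
    rw [map_sum]
    refine sum_free_orbits op h0 hadd (fun ω => φ (f ω)) (fun ω => ?_) _ (fun c ω hω => ?_) fun c ω hω hc => ?_
    · rw [← hφ (f ω)]
      refine Fintype.sum_equiv (Equiv.neg _) _ _ fun c => ?_
      show φ (f (_ • ω)) = _
      rw [hsmul]
      show φ (act eT (e c)⁻¹ (f ω)) = φ (act eT (e (-c)) (f ω))
      rw [show e (-c) = (e c)⁻¹ from eq_inv_of_mul_eq_one_left (by rw [← hadd', neg_add_cancel, hzero])]
    · refine Finset.mem_erase.2 ⟨fun h => Finset.ne_of_mem_erase hω ?_, Finset.mem_univ _⟩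
      rw [← h0 ω, ← neg_add_cancel c, hadd, h, hfix]
    · by_contra hc0
      refine Finset.ne_of_mem_erase hω ?_
      induction ω using QuotientGroup.induction_on with
      | _ g =>
        have hgH := QuotientGroup.eq.1 hc.symm
        rw [Subgroup.mem_subgroupOf] at hgH
        simp only [smul_eq_mul, Subgroup.coe_mul, Subgroup.coe_inv] at hgH
        have hg' : (g : GL (Fin (s + 1) → Fin k) F)⁻¹ ∈ tensorWreathStandard k (s + 1) F :=
          mem_of_eich hD hf hM hrec (M.inv_mem g.2) (lin_mem hb c) (han c hc0) (i := i) hgH (by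
            rw [Units.val_mul, Units.val_mul, he, cj, inv_inv, mul_assoc])
        refine QuotientGroup.eq.2 ?_
        rw [hH, Subgroup.mem_subgroupOf]
        simpa using hg'
  rw [← Finset.sum_erase_add _ _ (Finset.mem_univ base), hbase, hf', Subgroup.coe_one, inv_one, act_one,
    add_sub_cancel_right]
  exact key

omit hb in
/-- A plane of anisotropic vectors orthogonal to the pair, or a line for three dimensions. -/
lemma exists_plane : ∃ (r : ℕ) (b : Fin r → Fin k → F) (x₀ : Fin 4 → Fin k → F), (∀ p, b p ∈ Pp d u v) ∧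
    (∀ c, c ≠ 0 → fd d (lin b c) (lin b c) ≠ 0) ∧ 4 ≤ (Fintype.card F - 1) * r ∧ x₀ 0 = x₀ 1 ∧
    (∀ j, x₀ j ∈ Pp d u v) ∧
    ((Fintype.card F - 1) * r = 4 → ∑ c, ∏ j, -fd d (lin b c) (x₀ j) ≠ 0) := by
  classical
  have hq3 : 3 ≤ Fintype.card F := by
    have h1 : 1 < Fintype.card F := Fintype.one_lt_card
    have := hD.odd_card
    omega
  have hpow : ∀ e : ℕ, Fintype.card F - 1 = e → ∑ c : F, c ^ e = -1 := by
    intro e he
    subst he
    rw [← Finset.add_sum_erase _ _ (Finset.mem_univ (0 : F)), zero_pow (by omega), zero_add,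
      Finset.sum_congr rfl (g := fun _ => (1 : F)) fun c hc =>
        FiniteField.pow_card_sub_one_eq_one c (Finset.ne_of_mem_erase hc), Finset.sum_const, nsmul_eq_mul, mul_one,
      Finset.card_erase_of_mem (Finset.mem_univ _), Finset.card_univ, Nat.cast_sub (by omega),
      FiniteField.cast_card_eq_zero, Nat.cast_one, zero_sub]
  obtain ⟨n, hn, hnn⟩ := hf.exists_aniso hD
  rcases (show k = 3 ∨ 4 ≤ k by have := hD.three; omega) with h3 | h4
  · refine ⟨1, fun _ => n, fun _ => n, fun _ => hn, fun c hc => ?_, by have := hD.five h3; omega, rfl, fun _ => hn,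
      fun hq => ?_⟩
    · have : c 0 ≠ 0 := fun h => hc (funext fun p => by rw [Fin.fin_one_eq_zero p, h]; rfl)
      simp [lin, fd_smul_left, fd_smul_right, this, hnn]
    · have : ∑ c : Fin 1 → F, ∏ _j : Fin 4, -fd d (lin (fun _ => n) c) n = fd d n n ^ 4 * ∑ c : F, c ^ 4 := by
        rw [Finset.mul_sum]
        refine Fintype.sum_equiv (Equiv.funUnique (Fin 1) F) _ _ fun c => ?_
        simp [lin, fd_smul_left, Fin.prod_univ_four]
        ring
      rw [this, hpow 4 (by omega)]
      simp [hnn]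
  obtain ⟨c, hc, hcc, hnc, han⟩ : ∃ c ∈ Pp d u v, fd d c c ≠ 0 ∧ fd d n c = 0 ∧
      ∀ a b : F, a * a * fd d n n + b * b * fd d c c = 0 → a = 0 ∧ b = 0 := by
    obtain ⟨c₁, hc₁, hcc₁, hnc₁⟩ := hf.exists_orth hD h4 hn hnn
    rcases (show k = 4 ∨ 5 ≤ k by omega) with h | h5
    · refine ⟨c₁, hc₁, hcc₁, hnc₁, fun a b hab => ?_⟩
      have h0 := hf.four_aniso hD h ((Pp d u v).add_mem ((Pp d u v).smul_mem a hn) ((Pp d u v).smul_mem b hc₁)) (by
        simp only [fd_add_left, fd_add_right, fd_smul_left, fd_smul_right, hnc₁, fd_symm d n c₁]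
        linear_combination hab)
      have e1 := congrArg (fd d n) h0
      have e2 := congrArg (fd d c₁) h0
      simp [fd_add_right, fd_smul_right, hnc₁, fd_symm d n c₁, fd_zero_right, hnn, hcc₁] at e1 e2
      exact ⟨e1, e2⟩
    obtain ⟨c₂, hc₂, hcc₂, hnc₂, hcc₁₂⟩ := hf.exists_orth₂ hD h5 hn hnn hc₁ hcc₁ hnc₁
    obtain ⟨ν, hν⟩ := FiniteField.exists_nonsquare (F := F) fun hchar => hD.two (by
      have := (ringChar.spec F 2).2 (by rw [hchar])
      exact_mod_cast this)
    obtain ⟨a₁, a₂, hst⟩ := exists_norm hD hcc₁ hcc₂ hcc₁₂ (-(fd d n n * ν))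
    have hν0 : ν ≠ 0 := fun h => hν ⟨0, by rw [h, mul_zero]⟩
    refine ⟨a₁ • c₁ + a₂ • c₂, (Pp d u v).add_mem ((Pp d u v).smul_mem _ hc₁) ((Pp d u v).smul_mem _ hc₂),
      by rw [hst]; exact neg_ne_zero.2 (mul_ne_zero hnn hν0), by simp [fd_add_right, fd_smul_right, hnc₁, hnc₂],
      fun a b hab => ?_⟩
    rw [hst] at hab
    have e : a * a = b * b * ν := by
      have : (a * a - b * b * ν) * fd d n n = 0 := by linear_combination hab
      exact sub_eq_zero.1 ((mul_eq_zero.1 this).resolve_right hnn)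
    by_cases hb0 : b = 0
    · refine ⟨mul_self_eq_zero.1 (by rw [e, hb0]; ring), hb0⟩
    · exact absurd ⟨a / b, by field_simp; linear_combination -e⟩ hν
  refine ⟨2, ![n, c], ![n, n, c, c], fun p => by fin_cases p <;> assumption, fun e he h => he ?_, by omega, rfl,
    fun j => by fin_cases j <;> assumption, fun hq => ?_⟩
  · obtain ⟨h1, h2⟩ := han (e 0) (e 1) (by
      rw [← h]
      simp [lin, Fin.sum_univ_two, fd_add_left, fd_add_right, fd_smul_left, fd_smul_right, hnc, fd_symm d n c]
      ring)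
    funext p; fin_cases p <;> assumption
  · have hm : ∀ e : Fin 2 → F, ∏ j, -fd d (lin ![n, c] e) (![n, n, c, c] j) =
        ∏ p : Fin 2, (![fd d n n, fd d c c] p * e p) ^ 2 := fun e => by
      simp [lin, Fin.sum_univ_two, Fin.prod_univ_four, fd_add_left, fd_smul_left, hnc, fd_symm d n c]
      ring
    simp only [hm]
    rw [← Fintype.prod_sum fun (p : Fin 2) (x : F) => (![fd d n n, fd d c c] p * x) ^ 2]
    refine Finset.prod_ne_zero_iff.2 fun p _ => ?_
    simp only [mul_pow, ← Finset.mul_sum, hpow 2 (by omega), mul_neg, mul_one, neg_ne_zero]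
    fin_cases p <;> simp [hnn, hcc]

omit hb in
/-- An overgroup without two full root groups lies in the wreath group. -/
theorem le_wreath {s : ℕ} {M : Subgroup (GL (Fin (s + 1) → Fin k) F)} (hM : Bad d M) (hrec : Rec d (s + 1)) :
    M ≤ tensorWreathStandard k (s + 1) F := by
  classical
  haveI := hD.neZero
  have h2 := hD.two
  have hd := hD.ne
  obtain ⟨T, hT, hTA, hTφ⟩ := exists_invariant hD hf hM hrec
  obtain ⟨r, b, x₀, hb, han, hr, hx01, hx0, hκ0⟩ := exists_plane hD hf
  set D := T - cas d (s + 1) with hDdef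
  have hDM : ∀ g ∈ M, g ∈ tensorWreathStandard k (s + 1) F → ∀ z,
      ev D (fun j => (g : Mt (s + 1) k F) *ᵥ z j) = ev D z := fun g hg hgw z => by
    rw [← ev_act, hDdef, act_sub, hT g hg, cas_invariant hd hgw (hM.iso hg)]
  have hDA : ∀ z : Fin 4 → ((Fin (s + 1) → Fin k) → F), z 0 = z 1 → ev D z = 0 := fun z hz => by
    have e : z ∘ Equiv.swap 0 1 = z := funext fun j => by
      fin_cases j <;> simp [hz, Equiv.swap_apply_of_ne_of_ne]
    have h1 := hTA z
    have h2' := alt_cas (t := s + 1) hd z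
    rw [e] at h1 h2'
    rw [hDdef, ev_sub]
    exact (mul_eq_zero.1 (show (2 : F) * (ev T z - ev (cas d (s + 1)) z) = 0 by
      linear_combination h1 - h2')).resolve_left h2
  -- one factor
  have step : ∀ (i : Fin (s + 1)) (y : Fin 4 → Fin (s + 1) → Fin k → F),
      ev D (fun j => pvU (y j) i (x₀ j)) = 0 → ∀ x : Fin 4 → Fin k → F, ∑ j, deg d u (x j) ≤ 4 →
        ev D (fun j => pvU (y j) i (x j)) = 0 := by
    intro i y hy0 x hx
    choose e he hev using fun c => eich_mem_sqG h2 hd hf.uu (lin_mem hb c).1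
    have hev' : ∀ c, ((slotU i (e c) : GL (Fin (s + 1) → Fin k) F) : Mt (s + 1) k F) =
        slot i (eich d u (lin b c)) := fun c => by rw [slotU_val, hev]
    obtain ⟨κ, hκ, hκlt⟩ := exists_kappa hD hf hb x (hx.trans hr)
    obtain ⟨lam, mu, hlam, hrel⟩ : ∃ lam mu : F, lam ≠ 0 ∧
        lam * κ = mu * ∑ c, ∏ j, -fd d (lin b c) (x₀ j) := by
      by_cases hq : (Fintype.card F - 1) * r = 4
      · exact ⟨_, κ, hκ0 hq, mul_comm _ _⟩
      · exact ⟨1, 0, one_ne_zero, by rw [hκlt (by omega)]; ring⟩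
    let φ : ((Fin 4 → Fin (s + 1) → Fin k) → F) →+ F := AddMonoidHom.mk'
      (fun X => lam * ev X (fun j => pvU (y j) i (x j)) - mu * ev X (fun j => pvU (y j) i (x₀ j)))
      fun X Y => by simp only [ev, Pi.add_apply, mul_add, Finset.sum_add_distrib]; ring
    have := hTφ r b hb han i _ hev' φ fun X => by
      simp only [φ, AddMonoidHom.mk'_apply, Finset.sum_sub_distrib, ← Finset.mul_sum]
      rw [sum_ev_orbit hev' hκ, sum_ev_orbit hev' (kappa_eq hD hf hb x₀ (fun j => (hx0 j).1) hr)]
      linear_combination (ev X fun j => pvU (y j) i u) * hrel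
    simp only [φ, AddMonoidHom.mk'_apply, ← hDdef, hy0, mul_zero, sub_zero, mul_eq_zero] at this
    exact this.resolve_left hlam
  -- frame tuples
  obtain ⟨n, hn, hnn⟩ := hf.exists_aniso hD
  have frame : ∀ (i : Fin (s + 1)) (y : Fin 4 → Fin (s + 1) → Fin k → F),
      ev D (fun j => pvU (y j) i (x₀ j)) = 0 → ∀ x : Fin 4 → Fin k → F,
        (∀ j, x j = u ∨ x j = v ∨ x j ∈ Pp d u v) → ev D (fun j => pvU (y j) i (x j)) = 0 := by
    intro i y hy0 x hx
    obtain ⟨g, hg, hgu, hgv, hgn, hgm⟩ := exists_weyl hD hf hn hnn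
    set x' : Fin 4 → Fin k → F := fun j => (g : Matrix (Fin k) (Fin k) F) *ᵥ x j with hx'
    have hP : ∀ m ∈ Pp d u v, fd d u ((g : Matrix (Fin k) (Fin k) F) *ᵥ m) = 0 := fun m hm => by
      have hm' : m - (fd d n m / fd d n n) • n ∈ Pp d u v := (Pp d u v).sub_mem hm ((Pp d u v).smul_mem _ hn)
      have h := hgm _ hm' (by rw [fd_sub_right, fd_smul_right, div_mul_cancel₀ _ hnn, sub_self])
      rw [Matrix.mulVec_sub, Matrix.mulVec_smul, hgn, smul_neg, sub_neg_eq_add, ← eq_sub_iff_add_eq] at h
      rw [h, fd_sub_right, fd_sub_right, fd_smul_right, hm.1, hn.1]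
      ring
    have hpair : ∀ j, deg d u (x j) + deg d u (x' j) ≤ 2 := fun j => by
      rcases hx j with h | h | h
      · have e : deg d u u = 0 := by simpa using deg_smul (d := d) (u := u) 1
        rw [h, e, zero_add]
        exact deg_le_two _
      · rw [show deg d u (x' j) = 0 by rw [hx']; simp only [h, hgv]; exact deg_smul _, add_zero]
        exact deg_le_two _
      · have h1 := deg_le_one (d := d) (u := u) h.1
        have h2 := deg_le_one (d := d) (u := u) (x := x' j) (hP _ h)
        omega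
    by_cases hle : ∑ j, deg d u (x j) ≤ 4
    · exact step i y hy0 x hle
    · have htot : ∑ j, deg d u (x j) + ∑ j, deg d u (x' j) ≤ 8 := by
        rw [← Finset.sum_add_distrib]
        exact (Finset.sum_le_sum fun j _ => hpair j).trans (by simp)
      have h := step i y hy0 x' (by omega)
      rw [← hDM _ (hM.toBase.slot_sq hd i hg) (slotU_mem_wreath i g)] 
      convert h using 2
      funext j
      rw [slotU_val, pvU_apply, slot_mulVec_pv, Function.update_self, Function.update_idem, pvU_apply]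
  -- the tuples
  have main : ∀ (S : Finset (Fin (s + 1))) (y : Fin 4 → Fin (s + 1) → Fin k → F),
      (∀ i, i ∉ S → ∀ j, y j i = x₀ j) → ev D (fun j => pv (y j)) = 0 := by
    intro S
    induction S using Finset.induction with
    | empty =>
      intro y hy
      refine hDA _ ?_
      exact congrArg pv (funext fun i => by rw [hy i (Finset.notMem_empty i) 0, hy i (Finset.notMem_empty i) 1, hx01])
    | insert i S hi ih =>
      intro y hy
      have h0 : ev D (fun j => pvU (y j) i (x₀ j)) = 0 := ih (fun j => Function.update (y j) i (x₀ j)) fun l hl j => by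
        rcases eq_or_ne l i with rfl | hli
        · exact Function.update_self _ _ _
        · rw [Function.update_of_ne hli]; exact hy l (by simp [hli, hl]) j
      have all : ∀ (R : Finset (Fin 4)) (x : Fin 4 → Fin k → F), (∀ j, j ∉ R → x j = u ∨ x j = v ∨ x j ∈ Pp d u v) →
          ev D (fun j => pvU (y j) i (x j)) = 0 := by
        intro R
        induction R using Finset.induction with
        | empty => exact fun x hx => frame i y h0 x fun j => hx j (Finset.notMem_empty j)
        | insert j R hj ihR =>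
          intro x hx
          set L : (Fin k → F) →ₗ[F] F := (evL D (fun l => pvU (y l) i (x l)) j).comp (pvU (y j) i) with hL
          have hLz : ∀ z, L z = ev D (fun l => pvU (y l) i (Function.update x j z l)) := fun z => by
            rw [hL, LinearMap.comp_apply, evL_apply]
            congr 1
            funext l
            rcases eq_or_ne l j with rfl | hl <;> simp [*]
          have hL0 : ∀ z, (z = u ∨ z = v ∨ z ∈ Pp d u v) → L z = 0 := fun z hz => by
            rw [hLz]
            refine ihR _ fun l hl => ?_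
            rcases eq_or_ne l j with rfl | hlj
            · rwa [Function.update_self]
            · rw [Function.update_of_ne hlj]; exact hx l (by simp [hlj, hl])
          have h := hLz (x j)
          rw [Function.update_eq_self] at h
          rw [← h, prj_decomp (d := d) (u := u) (v := v) (x j), map_add, map_add, map_smul, map_smul,
            hL0 u (Or.inl rfl), hL0 v (Or.inr (Or.inl rfl)), hL0 _ (Or.inr (Or.inr (prj_mem hf _)))]
          simp
      have := all Finset.univ (fun j => y j i) fun j hj => absurd (Finset.mem_univ j) hj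
      simpa only [pvU_self] using this
  have hTeq : T = cas d (s + 1) := sub_eq_zero.1 (funext fun a => by
    rw [← hDdef, ← ev_single D a]
    simp only [← pv_single]
    exact main Finset.univ _ fun i hi => absurd (Finset.mem_univ i) hi)
  exact le_wreath_of_fix hD hf hM hrec fun g hg => hTeq ▸ hT g hg

end CfsgLib.Geo.TensorPow.O
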