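/-
Maximality in diagonal coordinates of the wreath group of a tensor power of a symmetric form.
-/
import Cfsg.Agent.Geo.TensorPow.O.Avg
import Cfsg.Agent.Geo.TensorPow.O.Om

set_option autoImplicit false
set_option linter.unusedSectionVars false

namespace CfsgLib.Geo.TensorPow.O

open Matrix Cfsg.Geo CfsgLib.Aschbacher CfsgLib.Quad QuadraticMap
open scoped MatrixGroups

variable {F : Type*} [Field F] [Fintype F] {k t : ℕ} {d : Fin k → F}

/-- An overgroup lies in the wreath group or has two full root groups. -/
theorem dichotomy (hD : Dat d) (t : ℕ) : 1 ≤ t → ∀ L : Subgroup (GL (Fin t → Fin k) F), Base d L →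
    L ≤ tensorWreathStandard k t F ∨ TwoFull (dt d t) L := by
  induction t using Nat.strong_induction_on with
  | _ t ih =>
    intro ht L hL
    obtain ⟨s, rfl⟩ : ∃ s, t = s + 1 := ⟨t - 1, by omega⟩
    by_cases h : TwoFull (dt d (s + 1)) L
    · exact Or.inr h
    · obtain ⟨u, v, hf⟩ := exists_fr hD
      exact Or.inl (le_wreath hD hf ⟨hL, fun _ => h⟩ fun s' hs' h1 L' hL' => ih s' hs' h1 L' hL')

/-- The positions outside a factor fall into pairs which differ in one further factor only. -/
lemma prod_pairs (hke : Even k) {i m : Fin t} (hmi : m ≠ i) (o : Fin k) :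
    Even (Finset.univ.filter fun z : Fin t → Fin k => z i = o).card ∧
      ∀ f : (Fin t → Fin k) → F, (∀ z p, f (Function.update z m p) = f z) →
        IsSquare (∏ z ∈ Finset.univ.filter (fun z : Fin t → Fin k => z i = o), f z) := by
  classical
  set S := Finset.univ.filter fun z : Fin t → Fin k => z i = o with hS
  set σ : (Fin t → Fin k) → Fin t → Fin k := fun z => Function.update z m (Fin.rev (z m)) with hσ
  have hσσ : ∀ z, σ (σ z) = z := fun z => by simp [hσ]
  have hne : ∀ p : Fin k, Fin.rev p ≠ p := fun p h => by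
    obtain ⟨a, ha⟩ := hke
    have := congrArg Fin.val h
    rw [Fin.val_rev] at this
    omega
  set T := S.filter fun z => z m < Fin.rev (z m) with hT
  set T' := S.filter fun z => ¬ z m < Fin.rev (z m) with hT'
  have hmem : ∀ z, z ∈ T → σ z ∈ T' := fun z hz => by
    simp only [hT, hT', hS, Finset.mem_filter, Finset.mem_univ, true_and] at hz ⊢
    simp [hσ, Function.update_of_ne hmi.symm, hz.1, hz.2.le]
  have hmem' : ∀ z, z ∈ T' → σ z ∈ T := fun z hz => by
    simp only [hT, hT', hS, Finset.mem_filter, Finset.mem_univ, true_and, not_lt] at hz ⊢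
    simp [hσ, Function.update_of_ne hmi.symm, hz.1, lt_of_le_of_ne hz.2 (hne _)]
  refine ⟨⟨T.card, ?_⟩, fun f hf => ⟨∏ z ∈ T, f z, ?_⟩⟩
  · rw [← Finset.card_filter_add_card_filter_not (s := S) (p := fun z => z m < Fin.rev (z m))]
    show T.card + T'.card = _
    rw [Finset.card_nbij' σ σ hmem hmem' (fun z _ => hσσ z) (fun z _ => hσσ z)]
  · rw [← Finset.prod_filter_mul_prod_filter_not S fun z => z m < Fin.rev (z m)]
    show (∏ z ∈ T, f z) * ∏ z ∈ T', f z = _
    congr 1
    exact (Finset.prod_nbij' σ σ hmem hmem' (fun z _ => hσσ z) (fun z _ => hσσ z) fun z _ => (hf z _).symm).symm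

lemma fd_pair (hd : ∀ p, d p ≠ 0) (i : Fin t) (v : Fin k → F) (z z' : Fin t → Fin k) :
    fd (dt d t) (pvU (fun l => Pi.single (z l) 1) i v) (pvU (fun l => Pi.single (z' l) 1) i v) =
      fd d v v * if (∀ l, l ≠ i → z l = z' l) then ∏ l ∈ Finset.univ.erase i, d (z l) else 0 := by
  rw [pvU_apply, pvU_apply, fd_pv, ← Finset.mul_prod_erase _ _ (Finset.mem_univ i)]
  congr 1
  · simp
  split_ifs with h
  · exact Finset.prod_congr rfl fun l hl => by
      have hl' := Finset.ne_of_mem_erase hl
      simp [Function.update_of_ne hl', h l hl', fd_single_right]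
  · push Not at h
    obtain ⟨l, hl, hne⟩ := h
    exact Finset.prod_eq_zero (Finset.mem_erase.2 ⟨hl, Finset.mem_univ l⟩)
      (by simp [Function.update_of_ne hl, fd_single_right, hne])

/-- A reflection of one factor, three factors at least and an even dimension. -/
lemma slot_refl_mem_omD (hD : Dat d) (hke : Even k) (ht : 3 ≤ t) (i : Fin t) {v : Fin k → F} (hv : fd d v v ≠ 0)
    {g : GL (Fin k) F} (hg : (g : Matrix (Fin k) (Fin k) F) = 1 - (2 / fd d v v) • vd d v v) :
    slotU i g ∈ omD (dt d t) := by
  classical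
  have hd := hD.ne
  have h2 := hD.two
  have := hD.neZero
  set S := Finset.univ.filter fun z : Fin t → Fin k => z i = 0 with hS
  set w : (Fin t → Fin k) → ((Fin t → Fin k) → F) := fun z => pvU (fun l => Pi.single (z l) 1) i v with hw
  have hww : ∀ z, fd (dt d t) (w z) (w z) = fd d v v * ∏ l ∈ Finset.univ.erase i, d (z l) := fun z => by
    rw [hw, fd_pair hd]; simp
  have hw0 : ∀ z, qd (dt d t) (w z) ≠ 0 := fun z => by
    rw [qd_apply, hww]
    exact div_ne_zero (mul_ne_zero hv (Finset.prod_ne_zero_iff.2 fun _ _ => hd _)) h2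
  have ho : ∀ z ∈ S, ∀ z' ∈ S, z ≠ z' → fd (dt d t) (w z) (w z') = 0 := fun z hz z' hz' hne => by
    rw [hw, fd_pair hd, if_neg, mul_zero]
    refine fun h => hne (funext fun l => ?_)
    rcases eq_or_ne l i with rfl | hl
    · rw [(Finset.mem_filter.1 hz).2, (Finset.mem_filter.1 hz').2]
    · exact h l hl
  have happ : ∀ l : List (Fin t → Fin k), l.Nodup → (∀ z ∈ l, z ∈ S) → ∀ x,
      (reflProd (qd (dt d t)) (l.map w)).1 x =
        x - (l.map fun z => (2 / fd (dt d t) (w z) (w z) * fd (dt d t) x (w z)) • w z).sum := by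
    intro l
    induction l with
    | nil => intro _ _ x; simp [reflProd_nil]
    | cons a l ih =>
      intro hnd hl x
      rw [List.map_cons, reflProd_cons]
      show (refl _ (w a)).1 ((reflProd _ (l.map w)).1 x) = _
      rw [ih (List.nodup_cons.1 hnd).2 (fun z hz => hl z (List.mem_cons_of_mem _ hz)), refl_apply, qd_polar h2, qd_apply]
      have hsum : fd (dt d t) ((l.map fun z => (2 / fd (dt d t) (w z) (w z) * fd (dt d t) x (w z)) • w z).sum) (w a) =
          0 := by
        have : ∀ m : List (Fin t → Fin k), (∀ z ∈ m, z ∈ S ∧ z ≠ a) →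
            fd (dt d t) ((m.map fun z => (2 / fd (dt d t) (w z) (w z) * fd (dt d t) x (w z)) • w z).sum) (w a) = 0 := by
          intro m
          induction m with
          | nil => intro _; simp [fd_zero_left]
          | cons b m ihm =>
            intro hm
            rw [List.map_cons, List.sum_cons, fd_add_left, fd_smul_left, ihm fun z hz => hm z (List.mem_cons_of_mem _ hz),
              ho b (hm b List.mem_cons_self).1 a (hl a List.mem_cons_self) (hm b List.mem_cons_self).2]
            ring
        exact this l fun z hz => ⟨hl z (List.mem_cons_of_mem _ hz), fun e => (List.nodup_cons.1 hnd).1 (e ▸ hz)⟩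
      have := hw0 a
      rw [qd_apply] at this
      rw [List.map_cons, List.sum_cons, fd_sub_left, hsum, sub_zero, inv_div, neg_mul, neg_smul]
      abel
  have hne : ∀ u ∈ S.toList.map w, qd (dt d t) u ≠ 0 := fun u hu => by
    obtain ⟨z, -, rfl⟩ := List.mem_map.1 hu; exact hw0 z
  -- the product of the reflections
  have hprod : toG (dt d t) (reflProd (qd (dt d t)) (S.toList.map w)) = slotU i g := by
    refine Units.ext (Matrix.ext_iff_mulVec.2 fun x => ?_)
    rw [toG_mulVec, happ _ S.nodup_toList (fun z hz => Finset.mem_toList.1 hz), Finset.sum_map_toList, slotU_val, hg,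
      slot_sub, slot_one, Matrix.sub_mulVec, Matrix.one_mulVec]
    congr 1
    have e : (slot i ((2 / fd d v v) • vd d v v) : Mt t k F) =
        ∑ z ∈ S, (2 / fd (dt d t) (w z) (w z)) • vd (dt d t) (w z) (w z) := by
      ext a b
      rw [slot_apply, Matrix.sum_apply]
      simp only [Matrix.smul_apply, smul_eq_mul, vd_apply, hww]
      simp only [hw, pvU_apply, pv_update_apply]
      rw [Finset.sum_eq_single (Function.update a i 0)]
      · by_cases h : ∀ l, l ≠ i → a l = b l
        · have e1 : ∏ l ∈ Finset.univ.erase i, (Pi.single (Function.update a i 0 l) (1 : F) : Fin k → F) (a l) = 1 :=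
            Finset.prod_eq_one fun l hl => by simp [Function.update_of_ne (Finset.ne_of_mem_erase hl)]
          have e2 : ∏ l ∈ Finset.univ.erase i, (Pi.single (Function.update a i 0 l) (1 : F) : Fin k → F) (b l) = 1 :=
            Finset.prod_eq_one fun l hl => by
              simp [Function.update_of_ne (Finset.ne_of_mem_erase hl), h l (Finset.ne_of_mem_erase hl)]
          have e3 : ∏ l ∈ Finset.univ.erase i, d (Function.update a i 0 l) = ∏ l ∈ Finset.univ.erase i, d (a l) :=
            Finset.prod_congr rfl fun l hl => by rw [Function.update_of_ne (Finset.ne_of_mem_erase hl)]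
          have e4 : dt d t b = d (b i) * ∏ l ∈ Finset.univ.erase i, d (a l) := by
            rw [dt, ← Finset.mul_prod_erase _ _ (Finset.mem_univ i)]
            congr 1
            exact Finset.prod_congr rfl fun l hl => by rw [h l (Finset.ne_of_mem_erase hl)]
          have : (∏ l ∈ Finset.univ.erase i, d (a l)) ≠ 0 := Finset.prod_ne_zero_iff.2 fun _ _ => hd _
          rw [if_pos h, e1, e2, e3, e4]
          field_simp
        · obtain ⟨l, hl, hne⟩ : ∃ l, l ≠ i ∧ a l ≠ b l := by push Not at h; exact h
          rw [if_neg h, Finset.prod_eq_zero (i := l) (f := fun l =>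
            (Pi.single (Function.update a i 0 l) (1 : F) : Fin k → F) (b l)) (Finset.mem_erase.2 ⟨hl, Finset.mem_univ l⟩)
            (by simp [Function.update_of_ne hl, Ne.symm hne])]
          ring
      · intro z hz hne
        obtain ⟨l, hl⟩ := Function.ne_iff.1 hne
        have hli : l ≠ i := fun e => hl (by rw [e, (Finset.mem_filter.1 hz).2, Function.update_self])
        rw [Function.update_of_ne hli] at hl
        rw [Finset.prod_eq_zero (i := l) (f := fun l => (Pi.single (z l) (1 : F) : Fin k → F) (a l))
          (Finset.mem_erase.2 ⟨hli, Finset.mem_univ l⟩) (by simp [Ne.symm hl])]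
        ring
      · intro h; exact absurd (by simp [hS]) h
    rw [e, Matrix.sum_mulVec]
    refine Finset.sum_congr rfl fun z _ => ?_
    rw [Matrix.smul_mulVec, vd_mulVec, smul_smul, fd_symm (dt d t) x]
  rw [← hprod, ← map_commutator_qd h2]
  refine Subgroup.mem_map_of_mem _
    ((reflProd_mem_commutator_iff (qd_nondeg h2 (dt_ne hd)) (qd_gen h2 (dt_ne hd)) hne).2 ?_)
  rw [List.length_map, Finset.length_toList, List.map_map, Finset.prod_map_toList]
  have : Nontrivial (Fin t) := Fin.nontrivial_iff_two_le.2 (by omega)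
  obtain ⟨m, hmi⟩ := exists_ne i
  refine ⟨(prod_pairs (F := F) hke hmi 0).1, ?_⟩
  simp only [Function.comp_apply, qd_apply, hww, mul_div_right_comm, Finset.prod_mul_distrib]
  refine ((prod_pairs hke hmi 0).2 (fun _ => fd d v v / 2) fun _ _ => rfl).mul ?_
  rw [Finset.prod_comm]
  refine Finset.isSquare_prod _ fun l hl => ?_
  obtain ⟨m', hm', hm'l⟩ : ∃ m', m' ≠ i ∧ m' ≠ l := by
    by_contra hcon
    push Not at hcon
    have : (Finset.univ : Finset (Fin t)) ⊆ {i, l} := fun m _ => by
      rcases eq_or_ne m i with rfl | h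
      · simp
      · simp [hcon m h]
    have := Finset.card_le_card this
    have := Finset.card_le_two (a := i) (b := l)
    simp at *
    omega
  exact (prod_pairs hke hm' 0).2 (fun z => d (z l)) fun z p => by rw [Function.update_of_ne (Ne.symm hm'l)]

/-- Every isometry of one factor lies in the derived group. -/
lemma slot_mem_omD (hD : Dat d) (hke : Even k) (ht : 3 ≤ t) (i : Fin t) {h : GL (Fin k) F} (hh : h ∈ isoG d) :
    slotU i h ∈ omD (dt d t) := by
  have h2 := hD.two
  have hd := hD.ne
  rw [← range_toG h2] at hh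
  obtain ⟨h', rfl⟩ := hh
  obtain ⟨vs, hvs, rfl⟩ := exists_reflProd (qd_nondeg h2 hd) (qd_gen h2 hd) h'
  induction vs with
  | nil => rw [reflProd_nil, map_one, map_one]; exact Subgroup.one_mem _
  | cons a vs ih =>
    rw [reflProd_cons, map_mul, map_mul]
    refine Subgroup.mul_mem _ ?_ (ih fun v hv => hvs v (List.mem_cons_of_mem _ hv))
    have ha : fd d a a ≠ 0 := fun e => hvs a List.mem_cons_self (by rw [qd_apply, e, zero_div])
    refine slot_refl_mem_omD hD hke ht i ha (Matrix.ext_iff_mulVec.2 fun x => ?_)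
    rw [toG_mulVec, refl_apply, qd_polar h2, qd_apply, Matrix.sub_mulVec, Matrix.one_mulVec, Matrix.smul_mulVec,
      vd_mulVec, smul_smul, fd_symm d x a, inv_div, neg_mul, neg_smul, sub_eq_add_neg]

/-- A member of the derived group outside the wreath group. -/
lemma exists_omD_notMem (hD : Dat d) (ht : 2 ≤ t) : ∃ g ∈ omD (dt d t), g ∉ tensorWreathStandard k t F := by
  classical
  have hd := hD.ne
  obtain ⟨u, v, hf⟩ := exists_fr hD
  obtain ⟨n, hn, hnn⟩ := hf.exists_aniso hD
  have : Nontrivial (Fin t) := Fin.nontrivial_iff_two_le.2 ht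
  set i : Fin t := ⟨0, by omega⟩
  obtain ⟨j, hji⟩ := exists_ne i
  have hnu : fd d n u = 0 := by rw [fd_symm, hn.1]
  have hnv : fd d n v = 0 := by rw [fd_symm, hn.2]
  set c : Fin t → Fin k → F := fun _ => n with hc
  set X := pv (Function.update c i u) with hX
  set a := pv (Function.update c j u) with ha
  have hXX : fd (dt d t) X X = 0 := by
    rw [hX, fd_pv]; exact Finset.prod_eq_zero (Finset.mem_univ i) (by simp [hf.uu])
  have hXa : fd (dt d t) X a = 0 := by
    rw [hX, ha, fd_pv]
    exact Finset.prod_eq_zero (Finset.mem_univ i) (by simp [Function.update_of_ne hji.symm, hc, hn.1])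
  obtain ⟨g, hg, hgv⟩ := eich_mem_sqG hD.two (dt_ne hd) hXX hXa
  refine ⟨g, sqG_le_omD hD.two (dt_ne hd) hg, fun hW => ?_⟩
  set Y := pv (Function.update c i v) with hY
  obtain ⟨y', hy'⟩ := pure_of_wreath hW (Function.update c i v)
  set η := fd (dt d t) X Y with hη
  have hη0 : η ≠ 0 := by
    rw [hη, hX, hY, fd_pv]
    refine Finset.prod_ne_zero_iff.2 fun l _ => ?_
    rcases eq_or_ne l i with rfl | hl
    · simp [hf.uv]
    · simpa [Function.update_of_ne hl, hc] using hnn
  have haY : fd (dt d t) a Y = 0 := by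
    rw [ha, hY, fd_pv]
    exact Finset.prod_eq_zero (Finset.mem_univ i) (by simp [Function.update_of_ne hji.symm, hc, hnv])
  have haa : fd (dt d t) a a = 0 := by
    rw [ha, fd_pv]; exact Finset.prod_eq_zero (Finset.mem_univ j) (by simp [hf.uu])
  rw [hgv, eich_mulVec, ← hη, haY, haa, zero_smul, sub_zero, zero_div, zero_mul, zero_smul, sub_zero] at hy'
  -- the minors of a pure tensor
  set R := ∏ l ∈ (Finset.univ.erase i).erase j, fd d (c l) (y' l) with hR
  have hM : ∀ p q : Fin k → F, fd (dt d t) (pv (Function.update (Function.update c j q) i p)) (pv y') =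
      fd d p (y' i) * (fd d q (y' j) * R) := fun p q => by
    rw [fd_pv, ← Finset.mul_prod_erase _ _ (Finset.mem_univ i),
      ← Finset.mul_prod_erase _ _ (Finset.mem_erase.2 ⟨hji, Finset.mem_univ j⟩)]
    simp only [Function.update_self, Function.update_of_ne hji]
    congr 2
    refine Finset.prod_congr rfl fun l hl => ?_
    simp only [Finset.mem_erase] at hl
    simp [Function.update_of_ne hl.1, Function.update_of_ne hl.2.1]
  have hV : ∀ p q : Fin k → F, fd (dt d t) (pv (Function.update (Function.update c j q) i p)) (pv y') =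
      (fd d p v * fd d q n + η * (fd d p n * fd d q u)) * fd d n n ^ ((Finset.univ.erase i).erase j).card := by
    intro p q
    have e : ∀ U : Fin t → Fin k → F, (∀ l, l ≠ i → l ≠ j → U l = n) →
        fd (dt d t) (pv (Function.update (Function.update c j q) i p)) (pv U) =
          fd d p (U i) * fd d q (U j) * fd d n n ^ ((Finset.univ.erase i).erase j).card := fun U hU => by
      rw [fd_pv, ← Finset.mul_prod_erase _ _ (Finset.mem_univ i),
        ← Finset.mul_prod_erase _ _ (Finset.mem_erase.2 ⟨hji, Finset.mem_univ j⟩), mul_assoc]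
      simp only [Function.update_self, Function.update_of_ne hji]
      congr 2
      refine Finset.prod_eq_pow_card fun l hl => ?_
      simp only [Finset.mem_erase] at hl
      simp [Function.update_of_ne hl.1, Function.update_of_ne hl.2.1, hc, hU l hl.2.1 hl.1]
    rw [← hy', fd_add_right, fd_smul_right, ha, e _ (fun l hl _ => by simp [Function.update_of_ne hl, hc]),
      e _ (fun l _ hl => by simp [Function.update_of_ne hl, hc])]
    simp only [Function.update_self, Function.update_of_ne hji, Function.update_of_ne hji.symm, hc]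
    ring
  have h11 := (hM u n).symm.trans (hV u n)
  have h22 := (hM n v).symm.trans (hV n v)
  have h12 := (hM u v).symm.trans (hV u v)
  have h21 := (hM n n).symm.trans (hV n n)
  simp only [hf.uv, hn.1, hn.2, hnu, hnv, hf.vu, hf.vv, fd_symm d n u, fd_symm d v n, mul_zero, zero_mul, add_zero,
    zero_add, one_mul, mul_one] at h11 h22 h12 h21
  refine mul_ne_zero (mul_ne_zero (pow_ne_zero ((Finset.univ.erase i).erase j).card hnn) hnn)
    (mul_ne_zero (mul_ne_zero hη0 hnn) (pow_ne_zero ((Finset.univ.erase i).erase j).card hnn)) ?_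
  linear_combination -(fd d n (y' i) * (fd d v (y' j) * R)) * h11
    - (fd d n n * fd d n n ^ ((Finset.univ.erase i).erase j).card) * h22
    + (fd d n (y' i) * (fd d n (y' j) * R)) * h12

/-- The wreath group is maximal in the derived group. -/
theorem std_maximal (hD : Dat d) (ht : 2 ≤ t) :
    IsMaximalIn (omD (dt d t)) (tensorWreathStandard k t F ⊓ omD (dt d t)) := by
  have hd := hD.ne
  refine ⟨lt_of_le_of_ne inf_le_right fun e => ?_, fun M hM hMΩ => ?_⟩
  · obtain ⟨g, hg, hgn⟩ := exists_omD_notMem hD ht
    rw [← e] at hg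
    exact hgn hg.1
  have hB : Base d M := by
    refine ⟨hMΩ.trans (omD_le _), fun x hx => hM ⟨Subgroup.mul_mem _ hx.1 hx.1, sq_mem_omD hD.two (dt_ne hd) hx.2⟩,
      fun hke h3 i h hh => hM ⟨slotU_mem_wreath i h, slot_mem_omD hD hke h3 i hh⟩⟩
  rcases dichotomy hD t (by omega) M hB with h | h
  · exact Or.inl (le_antisymm (le_inf h hMΩ) hM)
  · refine Or.inr (le_antisymm hMΩ (omD_le_of_full hD.two (dt_ne hd) ?_ h))
    rw [Fintype.card_fun, Fintype.card_fin, Fintype.card_fin]
    have h1 : 3 ^ 2 ≤ k ^ t := (Nat.pow_le_pow_left hD.three 2).trans (Nat.pow_le_pow_right (by have := hD.three; omega) ht)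
    omega

end CfsgLib.Geo.TensorPow.O
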