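/-
The stabiliser of a tensor power of a symmetric form is maximal in `omegaGL`.
-/
import Cfsg.Agent.Geo.TensorPow.O.Std
import Cfsg.Agent.Geo.TensorOO.Bridge

set_option autoImplicit false
set_option linter.unusedSectionVars false

namespace CfsgLib.Geo.TensorPow.O

open Matrix Cfsg Cfsg.Geo CfsgLib.Geo CfsgLib.Aschbacher
open scoped MatrixGroups

variable {F : Type*} [Field F] [Fintype F] {k : ℕ}

/-- A diagonal form is equivalent to one with prescribed coefficients but the last, of the same determinant. -/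
lemma exists_normalize (h2 : (2 : F) ≠ 0) {τ : F} (hτ : τ ≠ 0) (last : Fin k) :
    ∀ (S : Finset (Fin k)) (d : Fin k → F), (∀ p, d p ≠ 0) → (∀ p, p ∉ S → p ≠ last → d p = τ) →
      ∃ (B : Matrix (Fin k) (Fin k) F) (d' : Fin k → F), Bᵀ * Matrix.diagonal d * B = Matrix.diagonal d' ∧
        (∀ p, d' p ≠ 0) ∧ (∀ p, p ≠ last → d' p = τ) ∧ ∏ p, d' p = ∏ p, d p := by
  classical
  intro S
  induction S using Finset.induction with
  | empty => exact fun d hd h => ⟨1, d, by simp, hd, fun p hp => h p (Finset.notMem_empty p) hp, rfl⟩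
  | insert p S hp ih =>
    intro d hd h
    by_cases hpl : p = last
    · exact ih d hd fun q hq hql => h q (by simp [hq, hpl ▸ hql]) hql
    obtain ⟨s, r, hsr⟩ := FiniteField.exists_root_sum_quadratic
      (f := Polynomial.C (d p) * Polynomial.X ^ 2 - Polynomial.C τ)
      (g := Polynomial.C (d last) * Polynomial.X ^ 2)
      (by rw [sub_eq_add_neg, ← Polynomial.C_neg, Polynomial.degree_add_C
          (by rw [Polynomial.degree_C_mul_X_pow _ (hd p)]; decide), Polynomial.degree_C_mul_X_pow _ (hd p)]; rfl)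
      (Polynomial.degree_C_mul_X_pow _ (hd last))
      (FiniteField.odd_card_of_char_ne_two fun hc => h2 (by
        have := (ringChar.spec F 2).2 (by rw [hc])
        exact_mod_cast this))
    simp at hsr
    set col : Fin k → Fin k → F := fun a =>
      if a = p then s • Pi.single p 1 + r • Pi.single last 1
      else if a = last then τ⁻¹ • (-(r * d last) • Pi.single p 1 + (s * d p) • Pi.single last 1)
      else Pi.single a 1 with hcol
    set d₁ : Fin k → F := Function.update (Function.update d p τ) last (d p * d last / τ) with hd₁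
    set B₁ : Matrix (Fin k) (Fin k) F := Matrix.of fun x a => col a x with hB₁
    have e : B₁ᵀ * Matrix.diagonal d * B₁ = Matrix.diagonal d₁ := by
      ext a b
      rw [Matrix.mul_assoc, Matrix.mul_apply]
      simp only [Matrix.diagonal_mul, Matrix.transpose_apply, hB₁, Matrix.of_apply]
      rw [show ∑ x, col a x * (d x * col b x) = fd d (col a) (col b) from
        Finset.sum_congr rfl fun x _ => by ring]
      simp only [hcol, hd₁]
      rcases eq_or_ne a p with rfl | ha <;> rcases eq_or_ne b a with rfl | hab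
      · simp [fd_add_left, fd_neg_left, fd_neg_right, fd_add_right, fd_smul_left, fd_smul_right, fd_single_right, hpl, Ne.symm hpl]
        linear_combination hsr
      · by_cases hb : b = last
        · subst hb
          simp [fd_add_left, fd_neg_left, fd_neg_right, fd_add_right, fd_smul_left, fd_smul_right, fd_single_right, hpl, Ne.symm hpl]
          ring
        · simp [fd_add_left, fd_neg_left, fd_neg_right, fd_smul_left, fd_single_right, hab, hb, Ne.symm hab, Ne.symm hb]
      · by_cases hal : b = last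
        · subst hal
          simp [fd_add_left, fd_neg_left, fd_neg_right, fd_add_right, fd_smul_left, fd_smul_right, fd_single_right, hpl, Ne.symm hpl]
          field_simp
          linear_combination (d p * d b) * hsr
        · simp [fd_single_right, ha, hal]
      · by_cases hal : a = last
        · subst hal
          by_cases hb : b = p
          · subst hb
            simp [fd_add_left, fd_neg_left, fd_neg_right, fd_add_right, fd_smul_left, fd_smul_right, fd_single_right, hpl, Ne.symm hpl]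
            ring
          · simp [fd_add_left, fd_neg_left, fd_neg_right, fd_smul_left, fd_single_right, hab, hb, ha, Ne.symm hab, Ne.symm hb]
        · by_cases hb : b = p
          · subst hb
            simp [fd_add_right, fd_smul_right, fd_neg_left, fd_neg_right, fd_single_right, hal, ha, Ne.symm hab]
          · by_cases hbl : b = last
            · subst hbl
              simp [fd_add_right, fd_smul_right, fd_neg_left, fd_neg_right, fd_single_right, hal, ha, hb, Ne.symm hab]
            · simp [fd_single_right, ha, hal, hb, hbl, Ne.symm hab, hab]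
    obtain ⟨B, d', hB, hd', hval, hprod⟩ := ih d₁ (fun q => by
        simp only [hd₁, Function.update_apply]; split_ifs <;> simp [hτ, hd q, hd p, hd last])
      fun q hq hql => by
        rcases eq_or_ne q p with rfl | hqp
        · simp [hd₁, hql]
        · simp only [hd₁, Function.update_of_ne hql, Function.update_of_ne hqp]
          exact h q (by simp [hqp, hq]) hql
    refine ⟨B₁ * B, d', ?_, hd', hval, ?_⟩
    · rw [Matrix.transpose_mul, ← hB, ← e]; simp only [Matrix.mul_assoc]
    · rw [hprod, ← Finset.mul_prod_erase _ _ (Finset.mem_univ p), ← Finset.mul_prod_erase _ _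
        (Finset.mem_erase.2 ⟨Ne.symm hpl, Finset.mem_univ last⟩), ← Finset.mul_prod_erase _ d (Finset.mem_univ p),
        ← Finset.mul_prod_erase _ d (Finset.mem_erase.2 ⟨Ne.symm hpl, Finset.mem_univ last⟩),
        Finset.prod_congr rfl (g := d) fun q hq => by
          simp only [Finset.mem_erase] at hq
          simp [hd₁, hq.1, hq.2.1]]
      simp [hd₁, hpl]
      field_simp

variable {f₁ : (Fin k → F) → (Fin k → F) → F}

/-- Coordinates for a symmetric form. -/
lemma exists_dat (h2 : (2 : F) ≠ 0) (hk : 3 ≤ k) (hk3 : k = 3 → 5 ≤ Fintype.card F)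
    (hk4 : k = 4 → ¬ IsPlusTypeOn (fun v : Fin k → F => f₁ v v) ⊤) (hf : IsSymmetricForm f₁) :
    ∃ (B : GL (Fin k) F) (d : Fin k → F), Dat d ∧
      (B : Matrix (Fin k) (Fin k) F)ᵀ * gramMatrix f₁ * (B : Matrix (Fin k) (Fin k) F) = Matrix.diagonal d := by
  classical
  haveI : Invertible (2 : F) := invertibleOfNonzero h2
  set β := CfsgLib.Geo.OS.bilOfIs hf.bilinear with hβ
  have hfr : Module.finrank F (Fin k → F) = k := Module.finrank_fin_fun F
  obtain ⟨w₀, hw₀⟩ := LinearMap.BilinForm.exists_orthogonal_basis (B := β) ⟨fun x y => hf.symm x y⟩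
  let w := w₀.reindex (finCongr hfr)
  have hw : ∀ a b, a ≠ b → f₁ (w a) (w b) = 0 := fun a b h => by
    simp only [w, Module.Basis.reindex_apply]
    exact hw₀ ((finCongr hfr).symm.injective.ne h)
  set d₀ : Fin k → F := fun a => f₁ (w a) (w a) with hd₀
  have hd₀n : ∀ a, d₀ a ≠ 0 := fun a ha => by
    have hwa : w a ≠ 0 := w.ne_zero a
    obtain ⟨-, x, hx⟩ := hf.nondegenerate (w a) hwa
    have h0 : ∀ b, β (w a) (w b) = 0 := fun b => by
      rcases eq_or_ne a b with rfl | h
      · exact ha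
      · exact hw a b h
    refine hx ?_
    show β (w a) x = 0
    rw [← w.sum_repr x, map_sum, Finset.sum_eq_zero fun b _ => ?_]
    rw [map_smul, h0, smul_zero]
  set B₀ : Matrix (Fin k) (Fin k) F := Matrix.of fun x a => w a x with hB₀
  have hgram : ∀ x y, f₁ x y = x ⬝ᵥ (gramMatrix f₁ *ᵥ y) := fun x y => by
    have e : ∀ z : Fin k → F, z = ∑ a, z a • Pi.single a (1 : F) := pi_eq_sum_univ'
    show β x y = _
    conv_lhs => rw [e x, e y]
    simp only [map_sum, LinearMap.map_smul, LinearMap.sum_apply, LinearMap.smul_apply, smul_eq_mul, dotProduct,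
      Matrix.mulVec, Finset.mul_sum]
    rw [Finset.sum_comm]
    exact Finset.sum_congr rfl fun a _ => Finset.sum_congr rfl fun b _ => by
      show _ = x a * (f₁ (Pi.single a 1) (Pi.single b 1) * y b); rw [hβ]; show _ * (_ * f₁ _ _) = _; ring
  have hcong : ∀ (C : Matrix (Fin k) (Fin k) F) (x y : Fin k → F),
      x ⬝ᵥ ((Cᵀ * gramMatrix f₁ * C) *ᵥ y) = f₁ (C *ᵥ x) (C *ᵥ y) := fun C x y => by
    rw [hgram, ← Matrix.mulVec_mulVec, ← Matrix.mulVec_mulVec, Matrix.dotProduct_mulVec x Cᵀ, Matrix.vecMul_transpose]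
  have e₀ : B₀ᵀ * gramMatrix f₁ * B₀ = Matrix.diagonal d₀ := by
    ext a b
    have e := hcong B₀ (Pi.single a 1) (Pi.single b 1)
    rw [Matrix.mulVec_single_one, Matrix.mulVec_single_one, single_one_dotProduct, Matrix.mulVec_single_one] at e
    simp only [Matrix.col_apply] at e
    rw [e, show B₀.col a = w a from rfl, show B₀.col b = w b from rfl]
    rcases eq_or_ne a b with rfl | h
    · simp [hd₀]
    · simp [h, hw a b h]
  set last : Fin k := ⟨k - 1, by omega⟩ with hlast
  set τ := ∏ p, d₀ p with hτd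
  have hτ : τ ≠ 0 := Finset.prod_ne_zero_iff.2 fun p _ => hd₀n p
  obtain ⟨B₁, d₁, e₁, hd₁, hv₁, hp₁⟩ := exists_normalize h2 hτ last Finset.univ d₀ hd₀n
    fun p hp => absurd (Finset.mem_univ p) hp
  set l : Fin k → F := fun p => if k = 3 ∧ p = last then τ else 1 with hl
  set d : Fin k → F := fun p => l p * d₁ p * l p with hdd
  set C : Matrix (Fin k) (Fin k) F := B₀ * B₁ * Matrix.diagonal l with hC
  have eC : Cᵀ * gramMatrix f₁ * C = Matrix.diagonal d := by
    rw [hC, Matrix.transpose_mul, Matrix.transpose_mul, Matrix.diagonal_transpose]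
    calc Matrix.diagonal l * (B₁ᵀ * B₀ᵀ) * gramMatrix f₁ * (B₀ * B₁ * Matrix.diagonal l)
        = Matrix.diagonal l * (B₁ᵀ * (B₀ᵀ * gramMatrix f₁ * B₀) * B₁) * Matrix.diagonal l := by
          simp only [Matrix.mul_assoc]
      _ = _ := by rw [e₀, e₁, Matrix.diagonal_mul_diagonal, Matrix.diagonal_mul_diagonal]
  have hdn : ∀ p, d p ≠ 0 := fun p => by
    simp only [hdd, hl]; split_ifs <;> simp [hτ, hd₁ p]
  have hCu : IsUnit C.det := isUnit_iff_ne_zero.2 fun h0 => by
    have := congrArg Matrix.det eC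
    rw [Matrix.det_mul, h0, mul_zero, Matrix.det_diagonal] at this
    exact Finset.prod_ne_zero_iff.2 (fun p _ => hdn p) this.symm
  have hne : ∀ p : Fin k, (p : ℕ) + 1 < k → p ≠ last := fun p hp e => by
    have := congrArg Fin.val e; simp [hlast] at this; omega
  refine ⟨Matrix.GeneralLinearGroup.mk'' C hCu, d, ⟨h2, hdn, hk, hk3, ?_, ?_, ?_⟩, eC⟩
  · intro h4 x y hxx hyy hxy hx
    by_contra hcon
    push Not at hcon
    have hfd : ∀ a b, f₁ (C *ᵥ a) (C *ᵥ b) = fd d a b := fun a b => by
      rw [← hcong, eC]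
      simp only [dotProduct, Matrix.mulVec_diagonal, fd]
      exact Finset.sum_congr rfl fun i _ => by ring
    have hinj : ∀ z, C *ᵥ z = 0 → z = 0 := fun z hz => by
      refine Matrix.mulVec_injective_of_isUnit ((Matrix.isUnit_iff_isUnit_det _).2 hCu) ?_
      rw [hz, Matrix.mulVec_zero]
    have hli : LinearIndependent F ![C *ᵥ x, C *ᵥ y] := by
      refine LinearIndependent.pair_iff.2 fun a b hab => ?_
      rw [← Matrix.mulVec_smul, ← Matrix.mulVec_smul, ← Matrix.mulVec_add] at hab
      have h0 := hinj _ hab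
      by_cases hb : b = 0
      · rw [hb, zero_smul, add_zero, smul_eq_zero, or_iff_left hx] at h0
        exact ⟨h0, hb⟩
      · refine absurd ?_ (hcon (-(b⁻¹ * a)))
        have hby : b • y = -(a • x) := eq_neg_of_add_eq_zero_right h0
        calc y = b⁻¹ • (b • y) := by rw [smul_smul, inv_mul_cancel₀ hb, one_smul]
          _ = _ := by rw [hby, smul_neg, smul_smul, neg_smul]
    refine hk4 h4 ⟨Submodule.span F (Set.range ![C *ᵥ x, C *ᵥ y]), le_top, fun z hz => ?_, ?_⟩
    · obtain ⟨c, rfl⟩ := (Submodule.mem_span_range_iff_exists_fun F).1 hz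
      show f₁ _ _ = 0
      simp only [Fin.sum_univ_two, Matrix.cons_val_zero, Matrix.cons_val_one]
      rw [← Matrix.mulVec_smul, ← Matrix.mulVec_smul, ← Matrix.mulVec_add, hfd]
      simp [fd_add_left, fd_add_right, fd_smul_left, fd_smul_right, hxx, hyy, hxy, fd_symm d x y]
    · rw [finrank_span_eq_card hli, finrank_top, hfr, Fintype.card_fin, h4]
  · intro p q hp hq
    simp [hdd, hl, hv₁ p (hne p hp), hv₁ q (hne q hq), hne p hp, hne q hq]
  · intro h3
    suffices ∀ p, d p = τ from fun p q => by rw [this p, this q]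
    intro p
    rcases eq_or_ne p last with rfl | hp
    · have hpr := hp₁
      subst h3
      rw [Fin.prod_univ_three, hv₁ 0 (by simp [hlast, Fin.ext_iff]), hv₁ 1 (by simp [hlast, Fin.ext_iff]), ← hτd] at hpr
      rw [show d last = τ * τ * d₁ 2 by
        simp only [hdd, hl, true_and, if_pos]
        rw [show last = (2 : Fin 3) from rfl]; ring]
      exact hpr
    · simp [hdd, hl, hp, hv₁ p hp]

section bridge

variable {t : ℕ} {ι : Type} [Fintype ι] [DecidableEq ι]

/-- The stabiliser of a tensor power of a symmetric form is maximal. -/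
theorem tensorWreath_maximal (hodd : Odd (Fintype.card F)) (Q : QuadraticForm F (ι → F)) (hk : 3 ≤ k) (ht : 2 ≤ t)
    (hex : ¬ (Fintype.card F = 3 ∧ k = 3)) (hk4 : k = 4 → ¬ IsPlusTypeOn (fun v : Fin k → F => f₁ v v) ⊤)
    (e : ι ≃ (Fin t → Fin k)) (P : GL ι F) (hf₁ : IsSymmetricForm f₁)
    (hT : IsTensorPowerFormStructure id (QuadraticMap.polar Q) f₁ e P) :
    IsMaximalIn (omegaGL ⇑Q) (tensorWreathSubgroup k t e P ⊓ omegaGL ⇑Q) := by
  classical
  have hF2 : (2 : F) ≠ 0 := fun h => by
    haveI := CharTwo.of_one_ne_zero_of_two_eq_zero (one_ne_zero (α := F)) h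
    have := FiniteField.even_card_of_char_two (F := F) (ringChar.eq F 2)
    obtain ⟨a, ha⟩ := hodd
    omega
  have h5 : k = 3 → 5 ≤ Fintype.card F := fun h3 => by
    have := Fintype.one_lt_card (α := F)
    have : Fintype.card F ≠ 3 := fun h => hex ⟨h, h3⟩
    obtain ⟨a, ha⟩ := hodd
    omega
  obtain ⟨B, d, hD, hB⟩ := exists_dat hF2 hk h5 hk4 hf₁
  obtain ⟨c, hc, hform⟩ := hT
  set TQ : GL (Fin t → Fin k) F := tensUnit fun _ => B with hTQ
  have hTQm : TQ ∈ tensorWreathStandard k t F := Subgroup.subset_closure (Or.inl ⟨fun _ => B, fun _ _ => rfl⟩)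
  let ψ₀ := CfsgLib.Geo.Tensor.glTransport e P
  let ψ : GL (Fin t → Fin k) F ≃* GL ι F := (MulAut.conj TQ).trans ψ₀
  let L₀ : ((Fin t → Fin k) → F) ≃ₗ[F] (ι → F) :=
    (LinearEquiv.funCongrLeft F F e).trans (CfsgLib.Geo.glEquiv P)
  have hL₀ : ∀ x, L₀ x = (P : Matrix ι ι F) *ᵥ (x ∘ e) := fun x => CfsgLib.Geo.glEquiv_apply P (x ∘ e)
  let L : ((Fin t → Fin k) → F) ≃ₗ[F] (ι → F) := (CfsgLib.Geo.glEquiv TQ).trans L₀
  have hL : ∀ x, L x = L₀ ((TQ : Mt t k F) *ᵥ x) := fun x => congrArg L₀ (CfsgLib.Geo.glEquiv_apply TQ x)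
  have htr : ∀ (g : GL (Fin t → Fin k) F) x, ((ψ g : GL ι F) : Matrix _ _ F) *ᵥ L x
      = L ((g : Mt t k F) *ᵥ x) := by
    intro g x
    show (P * Cfsg.Geo.glReindex e.symm (TQ * g * TQ⁻¹) * P⁻¹).val *ᵥ L x = _
    rw [hL, hL, hL₀, hL₀, CfsgLib.Geo.mul_mulVec, CfsgLib.Geo.mul_mulVec, CfsgLib.Geo.inv_mulVec_mulVec]
    congr 1
    show (Matrix.reindexAlgEquiv F F e.symm ((TQ * g * TQ⁻¹ : GL _ F) : Mt t k F)) *ᵥ (_ ∘ e) = _
    rw [Matrix.reindexAlgEquiv_apply, Matrix.reindex_apply, Matrix.submatrix_mulVec_equiv, Equiv.symm_symm]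
    congr 1
    rw [Function.comp_assoc, Equiv.self_comp_symm, Function.comp_id, CfsgLib.Geo.mul_mulVec,
      CfsgLib.Geo.mul_mulVec, CfsgLib.Geo.inv_mulVec_mulVec]
  have hgr : (TQ : Mt t k F)ᵀ * (tens fun _ => gramMatrix f₁) * (TQ : Mt t k F) = Matrix.diagonal (dt d t) := by
    show (tens fun _ => (B : Matrix (Fin k) (Fin k) F))ᵀ * _ * tens (fun _ => (B : Matrix (Fin k) (Fin k) F)) = _
    rw [tens_transpose, tens_mul, tens_mul, hB]
    ext x y
    rcases eq_or_ne x y with rfl | h
    · simp [tens, dt]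
    · obtain ⟨l, hl⟩ := Function.ne_iff.1 h
      rw [Matrix.diagonal_apply_ne _ h]
      exact Finset.prod_eq_zero (Finset.mem_univ l) (Matrix.diagonal_apply_ne _ hl)
  have hpol : ∀ x y, QuadraticMap.polar Q (L x) (L y) = c * fd (dt d t) x y := by
    intro x y
    have e1 : ∀ u v : (Fin t → Fin k) → F,
        ∑ a, ∑ b, u a * (∏ i, gramMatrix f₁ (a i) (b i)) * id (v b) = u ⬝ᵥ ((tens fun _ => gramMatrix f₁) *ᵥ v) := by
      intro u v
      simp only [dotProduct, Matrix.mulVec, Finset.mul_sum, tens, Matrix.of_apply, id, mul_assoc]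
    rw [hL, hL, hL₀, hL₀, hform, e1]
    congr 1
    calc _ = x ⬝ᵥ (((TQ : Mt t k F)ᵀ * (tens fun _ => gramMatrix f₁) * (TQ : Mt t k F)) *ᵥ y) := by
          rw [← Matrix.mulVec_mulVec, ← Matrix.mulVec_mulVec, Matrix.dotProduct_mulVec x (TQ : Mt t k F)ᵀ,
            Matrix.vecMul_transpose]
      _ = _ := by
          rw [hgr]
          simp only [dotProduct, Matrix.mulVec_diagonal, fd]
          exact Finset.sum_congr rfl fun i _ => by ring
  have hG : (isoG (dt d t)).map ψ.toMonoidHom = Cfsg.isometryGroup F ⇑Q := by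
    ext y
    constructor
    · rintro ⟨g, hg, rfl⟩ u v
      obtain ⟨x, rfl⟩ := L.surjective u
      show Q ((ψ g : GL ι F).1 *ᵥ L x) = Q (L x)
      rw [htr]
      have := congrArg (c * ·) (hg x x)
      simp only [← hpol, QuadraticMap.polar_self, nsmul_eq_mul] at this
      simpa [hF2] using this
    · intro hy
      obtain ⟨g, rfl⟩ := ψ.surjective y
      refine ⟨g, fun x x' => mul_left_cancel₀ hc ?_, rfl⟩
      have h' : ∀ z, Q (L ((g : Mt t k F) *ᵥ z)) = Q (L z) := fun z => by
        rw [← htr]; exact hy (L z) (L z)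
      rw [← hpol, ← hpol]
      simp only [QuadraticMap.polar, ← map_add, ← mulVec_add, h']
  have hwr : tensorWreathSubgroup k t e P = (tensorWreathStandard k t F).map ψ.toMonoidHom := by
    have hψ₀ : tensorWreathSubgroup k t e P = (tensorWreathStandard k t F).map ψ₀.toMonoidHom := by
      rw [tensorWreathSubgroup, Subgroup.map_map]; rfl
    rw [hψ₀]
    ext z
    constructor
    · rintro ⟨g, hg, rfl⟩
      refine ⟨TQ⁻¹ * g * TQ, mul_mem (mul_mem (inv_mem hTQm) hg) hTQm, ?_⟩
      show ψ₀ (TQ * (TQ⁻¹ * g * TQ) * TQ⁻¹) = ψ₀ g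
      congr 1; group
    · rintro ⟨g, hg, rfl⟩
      exact ⟨TQ * g * TQ⁻¹, mul_mem (mul_mem hTQm hg) (inv_mem hTQm), rfl⟩
  have hO : (omD (dt d t)).map ψ.toMonoidHom = Cfsg.Geo.omegaGL ⇑Q := by
    rw [omD, Subgroup.map_commutator, hG, Cfsg.Geo.omegaGL, Cfsg.Omega, commutator_def, Subgroup.map_commutator,
      ← MonoidHom.range_eq_map, Subgroup.range_subtype]
  have hmax := CfsgLib.Geo.TensorOO.isMaximalIn_map ψ.toMonoidHom ψ.injective (std_maximal hD ht)
  rwa [Subgroup.map_inf _ _ _ ψ.injective, ← hwr, hO] at hmax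

end bridge

end CfsgLib.Geo.TensorPow.O
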